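import Cfsg.Agent.Lib.AxialDesign74.Spec2

/-!
Second half of the counting for an axial design: centres, regularity off the axis.
-/

set_option autoImplicit false
set_option linter.unusedSectionVars false

namespace Cfsg.Agent.Lib.AxialDesign74

open Finset

universe u v w

namespace CenProof

variable {G : Type u} {Ω : Type v} {Β : Type w} [Group G] [Finite G] [Fintype Ω] [Fintype Β]
  [DecidableEq Ω] [DecidableEq Β] [MulAction G Ω] [MulAction G Β]

theorem smul_axis (d : Ax G Ω Β) {C : Β} {x : G} (hx : x ∈ d.T C) : x • C = C :=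
  d.toDes.axis_fixed (d.isAut x) (d.fixes C x hx)

theorem exists_off (d : Ax G Ω Β) {C D : Β} (h : C ≠ D) : ∃ p ∈ d.pts D, p ∉ d.pts C := by
  by_contra! hsub
  have h1 := d.pair_blk C D h
  rw [inter_eq_right.2 hsub, d.card_pts] at h1
  have := d.two_le
  omega

theorem eq_one_of_mem_two (d : Ax G Ω Β) (P : d.Pre) {C D : Β} (h : C ≠ D) {x : G}
    (hC : x ∈ d.T C) (hD : x ∈ d.T D) : x = 1 := by
  by_contra hne
  obtain ⟨p, hpD, hpC⟩ := exists_off d h
  exact P.free C x hC hne p hpC (d.fixes D x hD p hpD)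

/-- The set of blocks fixed by `x`. -/
def Phi (x : G) : Finset Β := univ.filter fun E => x • E = E

theorem mem_Phi {x : G} {E : Β} : E ∈ Phi x ↔ x • E = E := by simp [Phi]

theorem card_Phi (d : Ax G Ω Β) (P : d.Pre) {C : Β} {x : G} (hx : x ∈ d.T C) (hx1 : x ≠ 1) :
    (Phi x : Finset Β).card = d.k := by
  rw [← P.card_fix C x hx hx1, Nat.card_eq_fintype_card, Fintype.card_subtype]
  rfl

/-- If `y` fixes everything fixed by `x`, they fix the same blocks. -/
theorem Phi_eq_of_le (d : Ax G Ω Β) (P : d.Pre) {C D : Β} {x g : G} (hx : x ∈ d.T C)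
    (hx1 : x ≠ 1) (hg : g ∈ d.T D) (hg1 : g ≠ 1) (h : ∀ E : Β, x • E = E → g • E = E) :
    (Phi g : Finset Β) = Phi x :=
  (Finset.eq_of_subset_of_card_le (fun _ hE => mem_Phi.2 (h _ (mem_Phi.1 hE)))
    (by rw [card_Phi d P hg hg1, card_Phi d P hx hx1])).symm

theorem translate_inter (d : Ax G Ω Β) {C D : Β} {t : G} (ht : t ∈ d.T C) :
    d.pts D ∩ d.pts C ⊆ d.pts (t • D) ∩ d.pts C := fun p hp => by
  obtain ⟨hpD, hpC⟩ := mem_inter.1 hp
  refine mem_inter.2 ⟨?_, hpC⟩
  have h := (d.smul_pts t p D).2 hpD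
  rwa [d.fixes C t ht p hpC] at h

theorem card_off (d : Ax G Ω Β) {C D : Β} (h : D ≠ C) :
    (d.pts D \ d.pts C).card = d.k - d.lam := by
  rw [card_sdiff, inter_comm, d.pair_blk D C h, d.card_pts]

/-- The translates of `D` by the axial group of `C`. -/
theorem card_orbit (d : Ax G Ω Β) (P : d.Pre) {C D : Β} (h : C ≠ D) :
    Nat.card (MulAction.orbit (d.T C) D) = P.q := by
  classical
  cases nonempty_fintype G
  have h1 := MulAction.card_orbit_mul_card_stabilizer_eq_card_group (d.T C) D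
  rw [← Nat.card_eq_fintype_card, ← Nat.card_eq_fintype_card, ← Nat.card_eq_fintype_card] at h1
  have h2 : Nat.card (MulAction.stabilizer (d.T C) D) = P.e := by
    rw [← P.card_X C D h]
    exact Nat.card_congr
      { toFun := fun s => ⟨((s : d.T C) : G), (s : d.T C).2, s.2⟩
        invFun := fun s => ⟨⟨s.1, s.2.1⟩, s.2.2⟩
        left_inv := fun _ => rfl
        right_inv := fun _ => rfl }
  rw [P.card_T, h2] at h1
  exact Nat.eq_of_mul_eq_mul_right (by have := P.two_le_e; omega) h1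

/-- An element of `X(C, D)` fixing the same blocks as `y ∈ X(D, C)` is a shear of `y`. -/
theorem mem_range (d : Ax G Ω Β) (P : d.Pre) {C D : Β} (hCD : C ≠ D) {x y : G} (hx : x ∈ d.T C)
    (hx1 : x ≠ 1) (_hxD : x • D = D) (hy : y ∈ d.T D) (hy1 : y ≠ 1) (hyC : y • C = C)
    (hΦ : ∀ E : Β, x • E = E → y • E = E) : ∃ t ∈ d.T C, y * t * y⁻¹ * t⁻¹ = x := by
  classical
  by_contra! hno
  have hrange : ∀ t ∈ d.T C, x * (y * t * y⁻¹ * t⁻¹) ≠ 1 := by
    intro t ht he
    refine hno t⁻¹ (inv_mem ht) ?_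
    have hc := (P.comm_mem C D hCD y hy hyC t ht).1
    have h1 := d.comm C (y * t * y⁻¹ * t⁻¹) hc t ht
    rw [eq_inv_of_mul_eq_one_left he, mul_inv_rev, mul_inv_rev, mul_inv_rev, inv_inv, inv_inv]
    have e : y * t⁻¹ * y⁻¹ * t = t * (y * t⁻¹ * y⁻¹) := by
      have h2 : y * t * y⁻¹ = t * (y * t * y⁻¹ * t⁻¹) := by
        rw [← h1, mul_assoc (y * t * y⁻¹) t⁻¹, inv_mul_cancel, mul_one]
      have hm : y * t * y⁻¹ ∈ d.T C := by
        rw [h2]; exact mul_mem ht hc
      have h3 := inv_mem hm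
      rw [show (y * t * y⁻¹)⁻¹ = y * t⁻¹ * y⁻¹ by group] at h3
      exact d.comm C _ h3 t ht
    rw [e]; group
  set z := x * y with hz
  let U : Finset Ω := univ.filter fun p => p ∉ d.pts C ∧ ∀ t ∈ d.T C, p ∉ d.pts (t • D)
  -- fixed points
  have hfix : (univ.filter fun p => z • p = p) ⊆ (d.pts C ∩ d.pts D) ∪ U := by
    intro p hp
    have hzp : x • (y • p) = p := by rw [← mul_smul]; exact (mem_filter.1 hp).2
    by_cases hpC : p ∈ d.pts C
    · refine mem_union_left _ (mem_inter.2 ⟨hpC, ?_⟩)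
      by_contra hpD
      have hypC : y • p ∈ d.pts C := by
        have h := (d.smul_pts y p C).2 hpC
        rwa [hyC] at h
      rw [d.fixes C x hx _ hypC] at hzp
      exact P.free D y hy hy1 p hpD hzp
    · refine mem_union_right _ (mem_filter.2 ⟨mem_univ _, hpC, fun t ht hpt => ?_⟩)
      by_cases htD : t • D = D
      · rw [htD] at hpt
        rw [d.fixes D y hy p hpt] at hzp
        exact P.free C x hx hx1 p hpC hzp
      have hy' : (t * y * t⁻¹) • p = p := d.fixes _ _ (d.conj_mem t D y hy) p hpt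
      have hc := (P.comm_mem C D hCD y hy hyC t ht).1
      have e : y • p = (y * t * y⁻¹ * t⁻¹) • p := by
        conv_lhs => rw [show y = (y * t * y⁻¹ * t⁻¹) * (t * y * t⁻¹) by group]
        rw [mul_smul, hy']
      rw [e, ← mul_smul] at hzp
      exact P.free C _ (mul_mem hx hc) (hrange t ht) p hpC hzp
  -- counting the points off all translates
  let Orb : Finset Β := univ.filter fun E => E ∈ MulAction.orbit (d.T C) D
  have hOrb : Orb.card = P.q := by
    rw [← card_orbit d P hCD, Nat.card_eq_fintype_card]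
    exact (Fintype.card_subtype _).symm
  have hmem : ∀ E ∈ Orb, ∃ t ∈ d.T C, t • D = E := fun E hE => by
    obtain ⟨⟨t, ht⟩, he⟩ := (mem_filter.1 hE).2
    exact ⟨t, ht, he⟩
  have hne : ∀ E ∈ Orb, E ≠ C := fun E hE h => by
    obtain ⟨t, ht, rfl⟩ := hmem E hE
    exact hCD (smul_left_cancel t (h.trans (smul_axis d ht).symm)).symm
  have hdisj : (Orb : Set Β).PairwiseDisjoint fun E => d.pts E \ d.pts C := by
    intro E hE E' hE' hEE'
    obtain ⟨t, ht, rfl⟩ := hmem E hE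
    obtain ⟨t', ht', rfl⟩ := hmem E' hE'
    rw [Function.onFun, Finset.disjoint_left]
    intro p hp hp'
    obtain ⟨hp1, hpC⟩ := mem_sdiff.1 hp
    have hp2 := (mem_sdiff.1 hp').1
    have hsub : d.pts D ∩ d.pts C ⊆ d.pts (t • D) ∩ d.pts (t' • D) := fun a ha =>
      mem_inter.2 ⟨(mem_inter.1 (translate_inter d ht ha)).1,
        (mem_inter.1 (translate_inter d ht' ha)).1⟩
    have he := eq_of_subset_of_card_le hsub
      (by rw [d.pair_blk _ _ hEE', d.pair_blk D C hCD.symm])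
    have := he.ge (mem_inter.2 ⟨hp1, hp2⟩)
    exact hpC (mem_inter.1 this).2
  have hcov : Disjoint U (d.pts C) ∧ Disjoint (U ∪ d.pts C) (Orb.biUnion fun E => d.pts E \ d.pts C) := by
    refine ⟨disjoint_left.2 fun p hp hpC => (mem_filter.1 hp).2.1 hpC, disjoint_left.2 fun p hp hb => ?_⟩
    obtain ⟨E, hE, hpE⟩ := mem_biUnion.1 hb
    obtain ⟨hpE, hpC⟩ := mem_sdiff.1 hpE
    rcases mem_union.1 hp with h | h
    · obtain ⟨t, ht, rfl⟩ := hmem E hE
      exact (mem_filter.1 h).2.2 t ht hpE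
    · exact hpC h
  have hU : U.card + d.k + P.q * (d.k - d.lam) ≤ d.k + P.m * (P.q * P.e) := by
    rw [← P.card_v, ← d.card_pts C, ← card_union_of_disjoint hcov.1]
    have hb : (Orb.biUnion fun E => d.pts E \ d.pts C).card = P.q * (d.k - d.lam) := by
      rw [card_biUnion hdisj, sum_congr rfl (fun E hE => card_off d (hne E hE)), sum_const, hOrb,
        smul_eq_mul]
    rw [d.card_pts, ← hb, ← card_union_of_disjoint hcov.2]
    exact card_le_univ _
  have h1 : d.k ≤ d.lam + U.card := by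
    have hle : (Phi x : Finset Β) ⊆ univ.filter fun E => z • E = E := fun E hE => by
      refine mem_filter.2 ⟨mem_univ _, ?_⟩
      rw [hz, mul_smul, hΦ E (mem_Phi.1 hE), mem_Phi.1 hE]
    have h2 := card_le_card hle
    rw [card_Phi d P hx hx1] at h2
    have h3 : (univ.filter fun p => z • p = p).card = (univ.filter fun E : Β => z • E = E).card :=
      d.toDes.fix_eq (d.isAut z)
    have h4 := card_le_card hfix
    have h5 := card_union_le (d.pts C ∩ d.pts D) U
    rw [d.pair_blk C D hCD] at h5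
    exact h2.trans ((h3.ge.trans h4).trans h5)
  have hn : 0 < d.k - d.lam := by have := d.two_le; omega
  have h6 : (d.k - d.lam) * (P.q + 1) ≤ P.m * P.q * P.e := by
    rw [mul_assoc, mul_comm (d.k - d.lam), Nat.succ_mul]
    omega
  have h7 := Nat.mul_le_mul_left d.k h6
  have h8 : d.k * (P.m * P.q * P.e) = (d.k - d.lam) * ((d.k - 1 + P.m) * P.q) := by
    rw [← mul_assoc (d.k - d.lam), ← P.count_n]; ring
  rw [h8, mul_left_comm] at h7
  have h9 := Nat.le_of_mul_le_mul_left h7 hn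
  have h10 := P.mq_lt
  have h11 : d.k - 1 + P.m + 1 = d.k + P.m := by omega
  nlinarith [h9, h10, h11]

theorem exists_moving (d : Ax G Ω Β) (P : d.Pre) {C D : Β} (h : C ≠ D) :
    ∃ t ∈ d.T C, t • D ≠ D := by
  by_contra! hall
  have h1 := P.card_X C D h
  rw [Nat.card_congr (Equiv.subtypeEquivRight fun x => and_iff_left_of_imp (hall x))] at h1
  have h2 : Nat.card {x : G // x ∈ d.T C} = Nat.card (d.T C) := rfl
  rw [h2, P.card_T] at h1
  have := P.two_le_q
  have := P.two_le_e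
  nlinarith

/-- A shear with the same fixed blocks. -/
theorem exists_mate (d : Ax G Ω Β) (P : d.Pre) {C D : Β} (hCD : C ≠ D) {x : G} (hx : x ∈ d.T C)
    (hx1 : x ≠ 1) (hxD : x • D = D) :
    ∃ y ∈ d.T D, y ≠ 1 ∧ y • C = C ∧ ∀ E : Β, y • E = E ↔ x • E = E := by
  obtain ⟨t, ht, htD⟩ := exists_moving d P hCD
  obtain ⟨y, hy, hyC, he⟩ := P.exists_shear C D hCD t ht htD x hx hxD
  have hy1 : y ≠ 1 := by
    rintro rfl
    exact hx1 (by rw [← he]; group)
  exact ⟨y, hy, hy1, hyC, fun E => by rw [← he, P.fix_eq C D hCD y hy hyC t ht htD hy1 E]⟩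

/-- The elements of `T C` fixing everything fixed by `x`. -/
def fixSub (d : Ax G Ω Β) (C : Β) (x : G) : Subgroup G where
  carrier := {g | g ∈ d.T C ∧ ∀ E : Β, x • E = E → g • E = E}
  one_mem' := ⟨one_mem _, fun E _ => one_smul G E⟩
  mul_mem' := fun {a b} ha hb => ⟨mul_mem ha.1 hb.1, fun E hE => by
    rw [mul_smul, hb.2 E hE, ha.2 E hE]⟩
  inv_mem' := fun {a} ha => ⟨inv_mem ha.1, fun E hE => by
    rw [inv_smul_eq_iff, ha.2 E hE]⟩

theorem card_fixSub (d : Ax G Ω Β) (P : d.Pre) {C : Β} {x : G} (hx : x ∈ d.T C) (hx1 : x ≠ 1) :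
    Nat.card (fixSub d C x) = P.q := by
  obtain ⟨D, hDC, hxD⟩ : ∃ D, D ≠ C ∧ x • D = D := by
    have h1 : 1 < (Phi x : Finset Β).card := by
      rw [card_Phi d P hx hx1]; have := d.two_le; omega
    obtain ⟨D, hD, hne⟩ := exists_mem_ne h1 C
    exact ⟨D, hne, mem_Phi.1 hD⟩
  obtain ⟨y, hy, hy1, hyC, hyx⟩ := exists_mate d P hDC.symm hx hx1 hxD
  rw [← P.card_range C D hDC.symm y hy hyC hy1]
  refine Nat.card_congr (Equiv.subtypeEquivRight fun g => ⟨fun hg => ?_, ?_⟩)
  · by_cases hg1 : g = 1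
    · exact ⟨1, one_mem _, by rw [hg1]; group⟩
    refine mem_range d P hDC.symm hg.1 hg1 (hg.2 D hxD) hy hy1 hyC fun E hE => (hyx E).2 ?_
    have := Phi_eq_of_le d P hx hx1 hg.1 hg1 hg.2
    exact mem_Phi.1 (this ▸ mem_Phi.2 hE)
  · rintro ⟨t, ht, rfl⟩
    refine ⟨(P.comm_mem C D hDC.symm y hy hyC t ht).1, fun E hE => ?_⟩
    by_cases htD : t • D = D
    · rw [← P.commute C D hDC.symm t ht htD y hy hyC, mul_inv_cancel_right, mul_inv_cancel, one_smul]
    · exact (P.fix_eq C D hDC.symm y hy hyC t ht htD hy1 E).2 ((hyx E).2 hE)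

/-- The group of all axial elements fixing the blocks fixed by `x`. -/
def Agp (d : Ax G Ω Β) (P : d.Pre) {C : Β} {x : G} (hx : x ∈ d.T C) (hx1 : x ≠ 1) : Subgroup G where
  carrier := {g | g = 1 ∨ ∃ D ∈ (Phi x : Finset Β), g ∈ d.T D ∧ ∀ E : Β, x • E = E → g • E = E}
  one_mem' := Or.inl rfl
  mul_mem' := by
    intro a b ha hb
    rcases eq_or_ne a 1 with rfl | ha1
    · rwa [one_mul]
    rcases eq_or_ne b 1 with rfl | hb1
    · rwa [mul_one]
    obtain ⟨D₁, hD₁, ha, haf⟩ := ha.resolve_left ha1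
    obtain ⟨D₂, hD₂, hb, hbf⟩ := hb.resolve_left hb1
    rcases eq_or_ne D₁ D₂ with rfl | hne
    · exact Or.inr ⟨D₁, hD₁, mul_mem ha hb, fun E hE => by rw [mul_smul, hbf E hE, haf E hE]⟩
    have hΦa := Phi_eq_of_le d P hx hx1 ha ha1 haf
    have hb' : ∀ E : Β, a⁻¹ • E = E → b • E = E := fun E hE => by
      refine hbf E (mem_Phi.1 (hΦa ▸ mem_Phi.2 ?_))
      rw [inv_smul_eq_iff] at hE
      exact hE.symm
    obtain ⟨t, ht, he⟩ := mem_range d P hne (inv_mem ha) (inv_ne_one.2 ha1)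
      (by rw [inv_smul_eq_iff, haf D₂ (mem_Phi.1 hD₂)]) hb hb1 (hbf D₁ (mem_Phi.1 hD₁)) hb'
    have e : a * b = t * b * t⁻¹ := by
      rw [← inv_inv a, ← he]; group
    refine Or.inr ⟨t • D₂, ?_, e ▸ d.conj_mem t D₂ b hb, fun E hE => by
      rw [mul_smul, hbf E hE, haf E hE]⟩
    have h1 := P.fix_orbit D₁ D₂ hne b hb (hbf D₁ (mem_Phi.1 hD₁)) t ht
    exact Phi_eq_of_le d P hx hx1 hb hb1 hbf ▸ mem_Phi.2 h1
  inv_mem' := by
    rintro a (rfl | ⟨D, hD, ha, haf⟩)
    · exact Or.inl inv_one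
    · exact Or.inr ⟨D, hD, inv_mem ha, fun E hE => by rw [inv_smul_eq_iff, haf E hE]⟩

theorem mem_Agp (d : Ax G Ω Β) (P : d.Pre) {C : Β} {x : G} (hx : x ∈ d.T C) (hx1 : x ≠ 1) {g : G}
    (hg : g ∈ Agp d P hx hx1) (hg1 : g ≠ 1) :
    ∃ D ∈ (Phi x : Finset Β), g ∈ fixSub d D x ∧ (Phi g : Finset Β) = Phi x := by
  obtain ⟨D, hD, h1, h2⟩ := Or.resolve_left hg hg1
  exact ⟨D, hD, ⟨h1, h2⟩, Phi_eq_of_le d P hx hx1 h1 hg1 h2⟩

theorem card_fixSub' (d : Ax G Ω Β) (P : d.Pre) {C D : Β} {x : G} (hx : x ∈ d.T C) (hx1 : x ≠ 1)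
    (hD : D ∈ (Phi x : Finset Β)) : Nat.card (fixSub d D x) = P.q := by
  rcases eq_or_ne C D with rfl | hne
  · exact card_fixSub d P hx hx1
  obtain ⟨y, hy, hy1, -, hyx⟩ := exists_mate d P hne hx hx1 (mem_Phi.1 hD)
  rw [← card_fixSub d P hy hy1]
  refine Nat.card_congr (Equiv.subtypeEquivRight fun g => ?_)
  exact and_congr_right fun _ => forall_congr' fun E => by rw [hyx E]

theorem card_Agp (d : Ax G Ω Β) (P : d.Pre) {C : Β} {x : G} (hx : x ∈ d.T C) (hx1 : x ≠ 1) :
    Nat.card (Agp d P hx hx1) = 1 + d.k * (P.q - 1) := by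
  classical
  cases nonempty_fintype G
  let S : Β → Finset G := fun D => (univ.filter fun g => g ∈ fixSub d D x).erase 1
  have hS : ∀ {D : Β} {g : G}, g ∈ S D ↔ g ≠ 1 ∧ g ∈ fixSub d D x := fun {D g} => by simp [S]
  have hcard : ∀ D ∈ (Phi x : Finset Β), (S D).card = P.q - 1 := by
    intro D hD
    rw [card_erase_of_mem (mem_filter.2 ⟨mem_univ _, one_mem _⟩), ← card_fixSub' d P hx hx1 hD,
      Nat.card_eq_fintype_card, Fintype.card_subtype]
  have hdisj : ((Phi x : Finset Β) : Set Β).PairwiseDisjoint S := by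
    intro D _ D' _ hne
    rw [Function.onFun, Finset.disjoint_left]
    intro g h h'
    exact (hS.1 h).1 (eq_one_of_mem_two d P hne (hS.1 h).2.1 (hS.1 h').2.1)
  have hset : (univ.filter fun g => g ∈ Agp d P hx hx1) = insert 1 ((Phi x : Finset Β).biUnion S) := by
    ext g
    simp only [mem_filter, mem_univ, true_and, mem_insert, mem_biUnion, hS]
    constructor
    · rintro (rfl | ⟨D, hD, h1, h2⟩)
      · exact Or.inl rfl
      · rcases eq_or_ne g 1 with rfl | hg1
        · exact Or.inl rfl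
        · exact Or.inr ⟨D, hD, hg1, h1, h2⟩
    · rintro (rfl | ⟨D, hD, -, h1, h2⟩)
      · exact one_mem _
      · exact Or.inr ⟨D, hD, h1, h2⟩
  rw [Nat.card_eq_fintype_card, Fintype.card_subtype, hset, card_insert_of_notMem, card_biUnion hdisj,
    sum_congr rfl hcard, sum_const, card_Phi d P hx hx1, smul_eq_mul, add_comm]
  simp only [mem_biUnion, hS]
  rintro ⟨D, -, h, -⟩
  exact h rfl

theorem m_eq_one (d : Ax G Ω Β) (P : d.Pre) {C : Β} {x : G} (hx : x ∈ d.T C) (hx1 : x ≠ 1) :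
    P.m = 1 := by
  classical
  cases nonempty_fintype G
  set A := Agp d P hx hx1 with hA
  let S : Type w := {E : Β // E ∉ (Phi x : Finset Β)}
  have hpres : ∀ a : A, ∀ E : Β, E ∉ (Phi x : Finset Β) → (a : G) • E ∉ (Phi x : Finset Β) := by
    intro a E hE h
    rcases eq_or_ne (a : G) 1 with h1 | h1
    · rw [h1, one_smul] at h; exact hE h
    · obtain ⟨-, -, -, h2⟩ := mem_Agp d P hx hx1 a.2 h1
      have h3 : (a : G) • ((a : G) • E) = (a : G) • E := mem_Phi.1 (h2 ▸ h)
      rw [smul_left_cancel _ h3] at h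
      exact hE h
  let act : MulAction A S :=
    { smul := fun a E => ⟨(a : G) • E.1, hpres a E.1 E.2⟩
      one_smul := fun E => Subtype.ext (one_smul G E.1)
      mul_smul := fun a b E => Subtype.ext (mul_smul (a : G) (b : G) E.1) }
  have hstab : ∀ E : S, MulAction.stabilizer A E = ⊥ := by
    intro E
    rw [Subgroup.eq_bot_iff_forall]
    intro a ha
    by_contra h1
    obtain ⟨-, -, -, h2⟩ := mem_Agp d P hx hx1 a.2 (fun h => h1 (Subtype.ext h))
    have h3 : (E.1 : Β) ∈ (Phi (a : G) : Finset Β) :=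
      mem_Phi.2 (congrArg Subtype.val (MulAction.mem_stabilizer_iff.1 ha :))
    rw [h2] at h3
    exact E.2 h3
  have hdvd : Nat.card A ∣ Nat.card S := by
    have h1 : ∀ ω : Quotient (MulAction.orbitRel A S),
        Nat.card (MulAction.orbit A ω.out) = Nat.card A := by
      intro ω
      have h2 := MulAction.card_orbit_mul_card_stabilizer_eq_card_group A ω.out
      rw [← Nat.card_eq_fintype_card, ← Nat.card_eq_fintype_card, ← Nat.card_eq_fintype_card,
        hstab, Subgroup.card_bot, mul_one] at h2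
      exact h2
    rw [Nat.card_congr (MulAction.selfEquivSigmaOrbits A S), Nat.card_sigma]
    exact Finset.dvd_sum fun ω _ => (h1 ω).ge.antisymm (h1 ω).le ▸ dvd_rfl
  have hS : Nat.card S = P.m * (P.q * P.e) := by
    rw [Nat.card_eq_fintype_card, Fintype.card_subtype_compl, Fintype.card_coe,
      card_Phi d P hx hx1, d.card_eq, P.card_v]
    omega
  obtain ⟨q', hq⟩ : ∃ q', P.q = q' + 2 := ⟨P.q - 2, by have := P.two_le_q; omega⟩
  obtain ⟨e', he⟩ : ∃ e', P.e = e' + 2 := ⟨P.e - 2, by have := P.two_le_e; omega⟩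
  obtain ⟨m', hm⟩ : ∃ m', P.m = m' + 1 := ⟨P.m - 1, by have := P.one_le_m; omega⟩
  obtain ⟨k', hk⟩ : ∃ k', d.k = k' + 1 := ⟨d.k - 1, by have := d.two_le; omega⟩
  rw [card_Agp d P hx hx1, hS, hq, he, hm, hk, show q' + 2 - 1 = q' + 1 by omega] at hdvd
  have hc := P.count
  rw [hq, he, hm, hk, show q' + 2 - 1 = q' + 1 by omega, show e' + 2 - 1 = e' + 1 by omega,
    show k' + 1 - 1 = k' by omega] at hc
  have e1 : 1 + (k' + 1) * (q' + 1) = (q' + 2) * (1 + (m' + 1) * (e' + 1)) := by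
    have : (k' + 1) * (q' + 1) = (q' + 1) * k' + (q' + 1) := by ring
    rw [this, hc]; ring
  rw [e1, show (m' + 1) * ((q' + 2) * (e' + 2)) = (q' + 2) * ((1 + (m' + 1) * (e' + 1)) + m') by ring]
    at hdvd
  have h4 := (Nat.dvd_add_iff_right (dvd_refl (1 + (m' + 1) * (e' + 1)))).2
    (Nat.dvd_of_mul_dvd_mul_left (by omega) hdvd)
  rcases Nat.eq_zero_or_pos m' with h0 | h0
  · omega
  · have h5 := Nat.le_of_dvd h0 h4
    nlinarith

theorem arith (d : Ax G Ω Β) (P : d.Pre) (hm : P.m = 1) :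
    d.k - d.lam = P.e ∧ d.k = P.q * d.lam + 1 := by
  have hn := P.count_n
  rw [hm, one_mul, show d.k - 1 + 1 = d.k by have := d.two_le; omega, mul_comm (d.k - d.lam)] at hn
  have he := Nat.eq_of_mul_eq_mul_left (by have := d.two_le; omega) hn
  refine ⟨he.symm, ?_⟩
  have hc := P.count
  obtain ⟨q', hq⟩ : ∃ q', P.q = q' + 2 := ⟨P.q - 2, by have := P.two_le_q; omega⟩
  obtain ⟨e', he'⟩ : ∃ e', P.e = e' + 2 := ⟨P.e - 2, by have := P.two_le_e; omega⟩
  obtain ⟨k', hk⟩ : ∃ k', d.k = k' + 1 := ⟨d.k - 1, by have := d.two_le; omega⟩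
  have hl : d.k = P.e + d.lam := by have := d.two_le; omega
  rw [hm, one_mul, hq, he', hk, show q' + 2 - 1 = q' + 1 by omega, show e' + 2 - 1 = e' + 1 by omega,
    show k' + 1 - 1 = k' by omega] at hc
  rw [hk, he'] at hl
  rw [hk, hq]
  nlinarith

theorem exists_centre (d : Ax G Ω Β) (P : d.Pre) {C : Β} {x : G} (hx : x ∈ d.T C) (hx1 : x ≠ 1) :
    ∃ c ∈ d.pts C, ∀ D : Β, x • D = D ↔ c ∈ d.pts D := by
  classical
  have hm := m_eq_one d P hx hx1
  obtain ⟨-, hk⟩ := arith d P hm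
  have := Fact.mk d.prime
  have hrq : d.r ∣ P.q := by
    have hp : IsPGroup d.r (d.T C) := fun a => ⟨1, Subtype.ext (by
      rw [pow_one, SubgroupClass.coe_pow, d.pow_eq C a a.2]; rfl)⟩
    obtain ⟨i, hi⟩ := IsPGroup.iff_card.1 hp
    rw [P.card_T] at hi
    obtain ⟨j, -, hj⟩ := (Nat.dvd_prime_pow d.prime).1 ⟨P.e, hi.symm⟩
    rw [hj]
    refine dvd_pow_self _ fun h => ?_
    rw [h, pow_zero] at hj
    have := P.two_le_q
    omega
  have hA : IsPGroup d.r (Agp d P hx hx1) := fun a => ⟨1, Subtype.ext (by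
    rw [pow_one, SubgroupClass.coe_pow]
    rcases a.2 with h | ⟨D, -, h, -⟩
    · rw [h, one_pow]; rfl
    · rw [d.pow_eq D a h]; rfl)⟩
  have hnd : ¬ d.r ∣ Nat.card Ω := by
    rw [Nat.card_eq_fintype_card, P.card_v, hm, one_mul, hk]
    intro h
    have h' : d.r ∣ P.q * d.lam + P.q * P.e + 1 := by
      rwa [add_right_comm] at h
    exact d.prime.one_lt.ne' (Nat.dvd_one.1 ((Nat.dvd_add_right
      (dvd_add (hrq.mul_right _) (hrq.mul_right _))).1 h'))
  obtain ⟨c, hc⟩ := hA.nonempty_fixed_point_of_prime_not_dvd_card Ω hnd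
  have hstar : (Phi x : Finset Β) ⊆ univ.filter fun D => c ∈ d.pts D := by
    intro D hD
    refine mem_filter.2 ⟨mem_univ _, ?_⟩
    by_contra hcD
    have h2 : 1 < Nat.card (fixSub d D x) := by
      rw [card_fixSub' d P hx hx1 hD]; have := P.two_le_q; omega
    rw [Finite.one_lt_card_iff_nontrivial] at h2
    obtain ⟨g, hg⟩ := exists_ne (1 : fixSub d D x)
    exact P.free D g g.2.1 (fun h => hg (Subtype.ext h)) c hcD
      (hc ⟨g, Or.inr ⟨D, hD, g.2.1, g.2.2⟩⟩)
  have he := eq_of_subset_of_card_le hstar (by rw [d.card_star c, card_Phi d P hx hx1])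
  have hiff : ∀ D : Β, x • D = D ↔ c ∈ d.pts D := fun D => by
    rw [← mem_Phi, he, mem_filter]; simp
  exact ⟨c, (hiff C).1 (smul_axis d hx), hiff⟩

/-- The counting gives everything. -/
theorem main (d : Ax G Ω Β) (P : d.Pre) : Nonempty d.Cen := by
  classical
  have hne : ∀ C : Β, ∃ x ∈ d.T C, x ≠ 1 := fun C => by
    by_contra! h
    exact d.ne_bot C ((Subgroup.eq_bot_iff_forall _).2 h)
  refine ⟨{
    q := P.q
    two_le_q := P.two_le_q
    free := P.free
    trans := ?_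
    centre := fun C x hx hx1 => exists_centre d P hx hx1
    card_E := ?_
    card_X := fun C D h => by rw [P.card_X C D h, P.card_T, mul_comm]
    q_le := fun C D h => by rw [P.card_X C D h]; exact P.q_le_e
    orbit := P.orbit
    exists_shear := P.exists_shear
    shear_fixes := ?_ }⟩
  · intro C p p' hp hp'
    obtain ⟨x, hx, hx1⟩ := hne C
    have hm := m_eq_one d P hx hx1
    let f : d.T C → {a : Ω // a ∉ d.pts C} := fun g => ⟨(g : G) • p, fun h => hp (by
      have h1 := d.fixes C (g : G)⁻¹ (inv_mem g.2) _ h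
      rw [inv_smul_smul] at h1
      rwa [← h1] at h)⟩
    have hinj : Function.Injective f := fun a b hab => by
      have h1 : ((b : G)⁻¹ * a) • p = p := by
        rw [mul_smul, show (a : G) • p = (b : G) • p from congrArg Subtype.val hab, inv_smul_smul]
      by_contra hne'
      refine P.free C _ (mul_mem (inv_mem b.2) a.2) ?_ p hp h1
      rw [Ne, inv_mul_eq_one]
      exact fun h => hne' (Subtype.ext h.symm)
    have hb := (Nat.bijective_iff_injective_and_card f).2 ⟨hinj, by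
      rw [P.card_T, Nat.card_eq_fintype_card, Fintype.card_subtype_compl, Fintype.card_coe,
        d.card_pts, P.card_v, hm]
      omega⟩
    obtain ⟨g, hg⟩ := hb.2 ⟨p', hp'⟩
    exact ⟨g, g.2, congrArg Subtype.val hg⟩
  · intro C c hc
    obtain ⟨x, hx, hx1⟩ := hne C
    obtain ⟨c₀, hc₀, hiff⟩ := exists_centre d P hx hx1
    obtain ⟨g, hgC, hgc⟩ := d.trans_in C c₀ c hc₀ hc
    have hx' : g * x * g⁻¹ ∈ d.T C := by
      have h := d.conj_mem g C x hx
      rwa [hgC] at h
    have hx'1 : g * x * g⁻¹ ≠ 1 := fun h => hx1 (conj_eq_one_iff.1 h)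
    have hiff' : ∀ D : Β, (g * x * g⁻¹) • D = D ↔ c ∈ d.pts D := fun D => by
      rw [mul_smul, mul_smul, smul_eq_iff_eq_inv_smul, hiff, ← d.smul_pts g c₀, smul_inv_smul, hgc]
    rw [← card_fixSub d P hx' hx'1]
    exact Nat.card_congr (Equiv.subtypeEquivRight fun a => and_congr_right fun _ =>
      forall_congr' fun D => by rw [hiff' D])
  · intro C D hCD y hy hyC t ht E hE
    rcases eq_or_ne y 1 with rfl | hy1
    · rw [one_mul, inv_one, mul_one, mul_inv_cancel, one_smul]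
    by_cases htD : t • D = D
    · rw [← P.commute C D hCD t ht htD y hy hyC, mul_inv_cancel_right, mul_inv_cancel, one_smul]
    · exact (P.fix_eq C D hCD y hy hyC t ht htD hy1 E).2 hE

end CenProof

/-- Brick Count, second half. -/
theorem cen : CenBrick.{u, v, w} := fun _ _ _ _ _ _ _ _ _ _ _ d P => CenProof.main d P

end Cfsg.Agent.Lib.AxialDesign74
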