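import Mathlib

/-!
A finite characteristically simple group covered by proper normal subgroups is abelian.
-/

set_option autoImplicit false

namespace Cfsg.Agent.Lib.AxialDesign74

variable {M : Type*} [Group M] [Finite M]

/-- A minimal normal subgroup. -/
def IsMinNormal (R : Subgroup M) : Prop :=
  R.Normal ∧ R ≠ ⊥ ∧ ∀ S : Subgroup M, S.Normal → S ≤ R → S = ⊥ ∨ S = R

theorem exists_minNormal [Nontrivial M] : ∃ R : Subgroup M, IsMinNormal R := by
  obtain ⟨R, ⟨hRn, hR⟩, hmin⟩ := (Set.toFinite {S : Subgroup M | S.Normal ∧ S ≠ ⊥}).exists_minimal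
    ⟨⊤, inferInstance, top_ne_bot⟩
  refine ⟨R, hRn, hR, fun S hS hle => ?_⟩
  by_cases h : S = ⊥
  · exact Or.inl h
  · exact Or.inr (le_antisymm hle (hmin ⟨hS, h⟩ hle))

omit [Finite M] in
theorem IsMinNormal.map {R : Subgroup M} (hR : IsMinNormal R) (φ : M ≃* M) :
    IsMinNormal (R.map φ.toMonoidHom) := by
  obtain ⟨hn, hne, hmin⟩ := hR
  refine ⟨hn.map _ φ.surjective, fun e => hne ?_, fun S hS hle => ?_⟩
  · exact (Subgroup.map_eq_bot_iff_of_injective _ φ.injective).1 e
  · have hle' : S.comap φ.toMonoidHom ≤ R := by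
      refine le_trans (Subgroup.comap_mono hle) ?_
      rw [Subgroup.comap_map_eq_self_of_injective φ.injective]
    rcases hmin _ (hS.comap _) hle' with h | h
    · left
      rw [← Subgroup.map_comap_eq_self_of_surjective (f := φ.toMonoidHom) φ.surjective S, h,
        Subgroup.map_bot]
    · right
      rw [← Subgroup.map_comap_eq_self_of_surjective (f := φ.toMonoidHom) φ.surjective S, h]

/-- A finite characteristically simple group covered by proper normal subgroups is abelian. -/
theorem comm_of_charSimple_cover [Nontrivial M]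
    (hchar : ∀ J : Subgroup M, J.Characteristic → J = ⊥ ∨ J = ⊤)
    (hcover : ∀ z : M, ∃ N : Subgroup M, N.Normal ∧ N ≠ ⊤ ∧ z ∈ N) :
    ∀ x y : M, x * y = y * x := by
  classical
  have := Fintype.ofFinite (Subgroup M)
  rcases hchar (Subgroup.center M) inferInstance with hZ | hZ
  swap
  · intro x y
    exact (Subgroup.mem_center_iff.1 (hZ ▸ Subgroup.mem_top y : y ∈ Subgroup.center M) x)
  exfalso
  set 𝓡 : Finset (Subgroup M) := Finset.univ.filter fun R => IsMinNormal R with h𝓡
  have hmem : ∀ R, R ∈ 𝓡 ↔ IsMinNormal R := fun R => by simp [h𝓡]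
  have hsub : ∀ φ : M ≃* M, (𝓡.sup id).map φ.toMonoidHom ≤ 𝓡.sup id := by
    intro φ
    rw [Subgroup.map_le_iff_le_comap]
    refine Finset.sup_le fun R hR => ?_
    rw [id, ← Subgroup.map_le_iff_le_comap]
    exact Finset.le_sup (f := id) ((hmem _).2 (((hmem _).1 hR).map φ))
  have hJ : 𝓡.sup id = ⊤ := by
    refine (hchar _ (Subgroup.characteristic_iff_map_le.2 hsub)).resolve_left fun e => ?_
    obtain ⟨R, hR⟩ := exists_minNormal (M := M)
    exact hR.2.1 (le_bot_iff.1 (e ▸ Finset.le_sup (f := id) ((hmem R).2 hR)))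
  have hcomm : ∀ R ∈ 𝓡, ∀ R' ∈ 𝓡, R ≠ R' → ∀ a ∈ R, ∀ b ∈ R', Commute a b := by
    intro R hR R' hR' hne a ha b hb
    obtain ⟨hn, -, hmin⟩ := (hmem R).1 hR
    obtain ⟨hn', -, hmin'⟩ := (hmem R').1 hR'
    refine Subgroup.commute_of_normal_of_disjoint R R' hn hn' (disjoint_iff.2 ?_) a b ha hb
    rcases hmin (R ⊓ R') inferInstance inf_le_left with h | h
    · exact h
    · rcases hmin' (R ⊓ R') inferInstance inf_le_right with h' | h'
      · exact h'
      · exact absurd (h.symm.trans h') hne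
  have hnc : ∀ R ∈ 𝓡, ∀ r ∈ R, r ≠ 1 → ∃ w ∈ R, ¬ Commute r w := by
    intro R hR r hr hr1
    by_contra hall
    push Not at hall
    refine hr1 (Subgroup.mem_bot.1 (hZ ▸ Subgroup.mem_center_iff.2 fun g => ?_))
    have hle : 𝓡.sup id ≤ Subgroup.centralizer {r} := by
      refine Finset.sup_le fun R' hR' b hb => Subgroup.mem_centralizer_iff.2 fun x hx => ?_
      rw [Set.mem_singleton_iff.1 hx]
      by_cases he : R = R'
      · exact hall b (he ▸ hb)
      · exact hcomm R hR R' hR' he r hr b hb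
    exact (Subgroup.mem_centralizer_iff.1 (hle (hJ ▸ Subgroup.mem_top g)) r rfl).symm
  have hz : ∀ S : Finset (Subgroup M), S ⊆ 𝓡 →
      ∃ z ∈ S.sup id, ∀ R ∈ S, ∃ w ∈ R, ¬ Commute z w := by
    intro S
    induction S using Finset.induction_on with
    | empty => exact fun _ => ⟨1, one_mem _, fun R hR => absurd hR (Finset.notMem_empty R)⟩
    | @insert R S hRS ih =>
      intro hsub'
      obtain ⟨hR, hS⟩ := Finset.insert_subset_iff.1 hsub'
      obtain ⟨z, hzS, hzw⟩ := ih hS
      obtain ⟨r, hr, hr1⟩ := (Subgroup.bot_or_exists_ne_one R).resolve_left ((hmem R).1 hR).2.1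
      obtain ⟨w, hw, hrw⟩ := hnc R hR r hr hr1
      refine ⟨z * r, ?_, fun R' hR' => ?_⟩
      · rw [Finset.sup_insert]
        exact mul_mem (Subgroup.mem_sup_right hzS) (Subgroup.mem_sup_left hr)
      · rcases Finset.mem_insert.1 hR' with rfl | hR'S
        · refine ⟨w, hw, fun hh => hrw ?_⟩
          have hle : S.sup id ≤ Subgroup.centralizer {w} := by
            refine Finset.sup_le fun R'' hR'' b hb => Subgroup.mem_centralizer_iff.2 fun x hx => ?_
            rw [Set.mem_singleton_iff.1 hx]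
            exact hcomm R' hR R'' (hS hR'') (fun e => hRS (by rw [e]; exact hR'')) w hw b hb
          have hzc : Commute z w :=
            ((Subgroup.mem_centralizer_iff.1 (hle hzS) w rfl) : w * z = z * w).symm
          have := hzc.inv_left.mul_left hh
          rwa [inv_mul_cancel_left] at this
        · obtain ⟨w', hw', hzw'⟩ := hzw R' hR'S
          refine ⟨w', hw', fun hh => hzw' ?_⟩
          have hrc : Commute r w' := hcomm R hR R' (hS hR'S) (fun e => hRS (e ▸ hR'S)) r hr w' hw'
          have := hh.mul_left hrc.inv_left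
          rwa [mul_inv_cancel_right] at this
  obtain ⟨z, -, hz⟩ := hz 𝓡 subset_rfl
  obtain ⟨N, hNn, hNtop, hzN⟩ := hcover z
  refine hNtop (top_le_iff.1 (hJ ▸ Finset.sup_le fun R hR => ?_))
  obtain ⟨hRn, -, hmin⟩ := (hmem R).1 hR
  rcases hmin (N ⊓ R) inferInstance inf_le_right with h | h
  · exfalso
    obtain ⟨w, hw, hzw⟩ := hz R hR
    exact hzw (Subgroup.commute_of_normal_of_disjoint N R hNn hRn (disjoint_iff.2 h) z w hzN hw)
  · exact h ▸ inf_le_left

end Cfsg.Agent.Lib.AxialDesign74
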