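import Mathlib

/-!
Symmetric designs: automorphisms fix as many points as blocks; automorphisms fixing a block
pointwise.
-/

set_option autoImplicit false

namespace Cfsg.Agent.Lib.AxialDesign74

open Finset

universe u w

/-- A symmetric design given by the point set of each block. -/
structure Des (Ω : Type u) (Β : Type w) [Fintype Ω] [Fintype Β] [DecidableEq Ω] [DecidableEq Β]
    where
  /-- The points of a block. -/
  pts : Β → Finset Ω
  /-- Block size. -/
  k : ℕ
  /-- Common points of two blocks. -/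
  lam : ℕ
  two_le : lam + 2 ≤ k
  kv : k + 2 ≤ Fintype.card Ω
  card_eq : Fintype.card Β = Fintype.card Ω
  card_pts : ∀ C, (pts C).card = k
  card_star : ∀ p, (univ.filter fun C => p ∈ pts C).card = k
  pair_pts : ∀ p q, p ≠ q → (univ.filter fun C => p ∈ pts C ∧ q ∈ pts C).card = lam
  pair_blk : ∀ C D, C ≠ D → (pts C ∩ pts D).card = lam

variable {Ω : Type u} {Β : Type w} [Fintype Ω] [Fintype Β] [DecidableEq Ω] [DecidableEq Β]
  (d : Des Ω Β)

namespace Des

theorem pts_inj {C D : Β} (h : d.pts C = d.pts D) : C = D := by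
  by_contra hne
  have h1 := d.pair_blk C D hne
  rw [h, Finset.inter_self, d.card_pts] at h1
  have := d.two_le
  omega

/-- A pair of permutations preserving incidence. -/
def IsAut (σ : Equiv.Perm Ω) (ρ : Equiv.Perm Β) : Prop :=
  ∀ p C, σ p ∈ d.pts (ρ C) ↔ p ∈ d.pts C

theorem one_aut : d.IsAut 1 1 := fun _ _ => Iff.rfl

variable {d} in
theorem IsAut.mul {σ σ' : Equiv.Perm Ω} {ρ ρ' : Equiv.Perm Β} (h : d.IsAut σ ρ)
    (h' : d.IsAut σ' ρ') : d.IsAut (σ * σ') (ρ * ρ') := fun p C => by
  rw [Equiv.Perm.mul_apply, Equiv.Perm.mul_apply, h, h']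

variable {d} in
theorem IsAut.inv {σ : Equiv.Perm Ω} {ρ : Equiv.Perm Β} (h : d.IsAut σ ρ) :
    d.IsAut σ⁻¹ ρ⁻¹ := fun p C => by
  have := h (σ⁻¹ p) (ρ⁻¹ C)
  simp only [Equiv.Perm.coe_inv, Equiv.apply_symm_apply] at this ⊢
  exact this.symm

/-- An automorphism fixes as many points as blocks. -/
theorem fix_eq {σ : Equiv.Perm Ω} {ρ : Equiv.Perm Β} (h : d.IsAut σ ρ) :
    (univ.filter fun p => σ p = p).card = (univ.filter fun C => ρ C = C).card := by
  let e : Β ≃ Ω := Fintype.equivOfCardEq d.card_eq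
  let M : Matrix Ω Ω ℚ := Matrix.of fun p x => if p ∈ d.pts (e.symm x) then 1 else 0
  let P : Matrix Ω Ω ℚ := Matrix.of fun p x => if σ p = x then 1 else 0
  let Q : Matrix Ω Ω ℚ := Matrix.of fun p x => if e (ρ (e.symm p)) = x then 1 else 0
  have hPM : P * M = M * Q := by
    ext p x
    rw [Matrix.mul_apply, Matrix.mul_apply]
    simp only [P, M, Q, Matrix.of_apply]
    rw [Finset.sum_eq_single (σ p) (fun b _ hb => by rw [if_neg (fun e => hb e.symm), zero_mul])
      (fun hh => absurd (Finset.mem_univ _) hh)]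
    rw [if_pos rfl, one_mul]
    rw [Finset.sum_eq_single (e (ρ⁻¹ (e.symm x))) ?_ (fun hh => absurd (Finset.mem_univ _) hh)]
    · have hh : e (ρ (e.symm (e (ρ⁻¹ (e.symm x))))) = x := by simp
      rw [if_pos hh, mul_one]
      refine if_congr ?_ rfl rfl
      have := h p (ρ⁻¹ (e.symm x))
      simp only [Equiv.Perm.coe_inv, Equiv.apply_symm_apply] at this
      simpa using this
    · intro b _ hb
      have hne : ¬ e (ρ (e.symm b)) = x := fun hh => hb (by rw [← hh]; simp)
      rw [if_neg hne, mul_zero]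
  have hM : IsUnit M.transpose := by
    refine Matrix.mulVec_injective_iff_isUnit.1 ?_
    intro y₁ y₂ hy
    rw [← sub_eq_zero]
    set z := y₁ - y₂ with hz
    have hz0 : M.transpose.mulVec z = 0 := by rw [hz, Matrix.mulVec_sub, sub_eq_zero]; exact hy
    have hMM : ∀ p, (M * M.transpose).mulVec z p =
        ((d.k : ℚ) - d.lam) * z p + d.lam * ∑ x, z x := by
      intro p
      have hentry : ∀ x, (M * M.transpose) p x =
          (if p = x then ((d.k : ℚ) - d.lam) else 0) + d.lam := by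
        intro x
        rw [Matrix.mul_apply, ← Equiv.sum_comp e]
        simp only [M, Matrix.transpose_apply, Matrix.of_apply, Equiv.symm_apply_apply,
          ite_mul, one_mul, zero_mul, ← ite_and]
        rw [Finset.sum_boole]
        by_cases hpx : p = x
        · subst hpx
          rw [if_pos rfl, sub_add_cancel]
          simp only [and_self]
          rw [d.card_star p]
        · rw [if_neg hpx, zero_add, d.pair_pts p x hpx]
      simp only [Matrix.mulVec, dotProduct, hentry, add_mul, Finset.sum_add_distrib, ite_mul,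
        zero_mul, Finset.sum_ite_eq, Finset.mem_univ, if_true, Finset.mul_sum]
    have h0 : ∀ p, ((d.k : ℚ) - d.lam) * z p + d.lam * ∑ x, z x = 0 := fun p => by
      rw [← hMM p, ← Matrix.mulVec_mulVec, hz0, Matrix.mulVec_zero]; rfl
    have hpos : (0 : ℚ) < (d.k : ℚ) - d.lam := by
      have : (d.lam : ℚ) + 2 ≤ (d.k : ℚ) := by exact_mod_cast d.two_le
      linarith
    have hsum : ∑ x, z x = 0 := by
      have h1 := Finset.sum_eq_zero (s := univ) fun p _ => h0 p
      rw [Finset.sum_add_distrib, ← Finset.mul_sum, Finset.sum_const, nsmul_eq_mul, ← mul_assoc,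
        ← add_mul] at h1
      refine (mul_eq_zero.1 h1).resolve_left (ne_of_gt ?_)
      have : (0 : ℚ) ≤ ((univ : Finset Ω).card : ℚ) * d.lam := by positivity
      linarith
    funext p
    have := h0 p
    rw [hsum, mul_zero, add_zero] at this
    exact (mul_eq_zero.1 this).resolve_left hpos.ne'
  have hdet : IsUnit M.det := by
    rw [← Matrix.det_transpose]
    exact (Matrix.isUnit_iff_isUnit_det _).1 hM
  have htr : P.trace = Q.trace := by
    have hP : P = M * Q * M⁻¹ := by
      rw [← hPM, mul_assoc, Matrix.mul_nonsing_inv _ hdet, mul_one]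
    rw [hP, Matrix.trace_mul_cycle, Matrix.nonsing_inv_mul _ hdet, one_mul]
  have h1 : P.trace = ((univ.filter fun p => σ p = p).card : ℚ) := by
    simp only [Matrix.trace, Matrix.diag, P, Matrix.of_apply, Finset.sum_boole]
  have h2 : Q.trace = ((univ.filter fun C => ρ C = C).card : ℚ) := by
    simp only [Matrix.trace, Matrix.diag, Q, Matrix.of_apply]
    rw [← Equiv.sum_comp e]
    simp only [Equiv.symm_apply_apply, EmbeddingLike.apply_eq_iff_eq, Finset.sum_boole]
  rw [h1, h2] at htr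
  exact_mod_cast htr

/-- An automorphism is determined by its action on blocks. -/
theorem eq_one_of_blocks {σ : Equiv.Perm Ω} {ρ : Equiv.Perm Β} (h : d.IsAut σ ρ)
    (hρ : ∀ C, ρ C = C) : σ = 1 := by
  have h1 := d.fix_eq h
  rw [Finset.filter_true_of_mem (s := (univ : Finset Β)) fun C _ => hρ C,
    Finset.card_univ, d.card_eq] at h1
  refine Equiv.ext fun p => ?_
  have hp := (Finset.eq_univ_iff_forall.1 (Finset.eq_univ_of_card _ h1)) p
  exact (Finset.mem_filter.1 hp).2

variable {σ : Equiv.Perm Ω} {ρ : Equiv.Perm Β} {C : Β}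

theorem axis_fixed (h : d.IsAut σ ρ) (hC : ∀ p ∈ d.pts C, σ p = p) : ρ C = C := by
  refine (d.pts_inj (Finset.eq_of_subset_of_card_le (fun p hp => ?_) ?_)).symm
  · have := (h p C).2 hp
    rwa [hC p hp] at this
  · rw [d.card_pts, d.card_pts]

/-- A moved block and its image meet in its intersection with the axis. -/
theorem inter_moved (h : d.IsAut σ ρ) (hC : ∀ p ∈ d.pts C, σ p = p) {D : Β} (hD : ρ D ≠ D) :
    d.pts D ∩ d.pts (ρ D) = d.pts D ∩ d.pts C := by
  have hDC : D ≠ C := fun e => hD (by rw [e]; exact d.axis_fixed h hC)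
  refine (Finset.eq_of_subset_of_card_le (fun p hp => ?_) ?_).symm
  · obtain ⟨hpD, hpC⟩ := Finset.mem_inter.1 hp
    refine Finset.mem_inter.2 ⟨hpD, ?_⟩
    have := (h p D).2 hpD
    rwa [hC p hpC] at this
  · rw [d.pair_blk D (ρ D) (Ne.symm hD), d.pair_blk D C hDC]

/-- A block through a fixed point outside the axis is fixed. -/
theorem fixed_of_mem (h : d.IsAut σ ρ) (hC : ∀ p ∈ d.pts C, σ p = p) {p : Ω}
    (hp : p ∉ d.pts C) (hσp : σ p = p) {D : Β} (hpD : p ∈ d.pts D) : ρ D = D := by
  by_contra hD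
  have h1 : p ∈ d.pts D ∩ d.pts (ρ D) := Finset.mem_inter.2 ⟨hpD, by
    have := (h p D).2 hpD
    rwa [hσp] at this⟩
  rw [d.inter_moved h hC hD] at h1
  exact hp (Finset.mem_inter.1 h1).2

/-- Outside the axis there is at most one fixed point. -/
theorem fix_out_unique (h : d.IsAut σ ρ) (hne : σ ≠ 1) (hC : ∀ p ∈ d.pts C, σ p = p) {p p' : Ω}
    (hp : p ∉ d.pts C) (hσp : σ p = p) (hp' : p' ∉ d.pts C) (hσp' : σ p' = p') : p = p' := by
  by_contra hpp
  let S : Ω → Ω → Finset Β := fun a b => univ.filter fun D => a ∈ d.pts D ∧ b ∈ d.pts D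
  have hS : ∀ {a b D}, D ∈ S a b ↔ a ∈ d.pts D ∧ b ∈ d.pts D := by
    intro a b D; simp [S]
  have key : ∀ q, σ q ≠ q → ∀ u, u ∉ d.pts C → σ u = u → S q u = S q (σ q) := by
    intro q hq u hu hσu
    refine Finset.eq_of_subset_of_card_le (fun D hD => ?_) ?_
    · obtain ⟨hqD, huD⟩ := hS.1 hD
      refine hS.2 ⟨hqD, ?_⟩
      have := (h q D).2 hqD
      rwa [d.fixed_of_mem h hC hu hσu huD] at this
    · rw [d.pair_pts q u (fun e => hq (e ▸ hσu)), d.pair_pts q (σ q) (Ne.symm hq)]
  have moved_on : ∀ q, σ q ≠ q → ∀ D ∈ S p p', q ∈ d.pts D := by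
    intro q hq
    have hsub : S q p ⊆ S p p' := by
      intro D hD
      have hD' : D ∈ S q p' := by rw [key q hq p' hp' hσp', ← key q hq p hp hσp]; exact hD
      exact hS.2 ⟨(hS.1 hD).2, (hS.1 hD').2⟩
    have heq : S q p = S p p' := Finset.eq_of_subset_of_card_le hsub (by
      rw [d.pair_pts q p (fun e => hq (e ▸ hσp)), d.pair_pts p p' hpp])
    intro D hD
    rw [← heq] at hD
    exact (hS.1 hD).1
  obtain ⟨D, hD⟩ : ∃ D, ρ D ≠ D := by
    by_contra hall
    push Not at hall
    exact hne (d.eq_one_of_blocks h hall)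
  have hDC : D ≠ C := fun e => hD (by rw [e]; exact d.axis_fixed h hC)
  have hpD : p ∉ d.pts D := fun hh => hD (d.fixed_of_mem h hC hp hσp hh)
  have hcard : 1 < (d.pts D \ d.pts C).card := by
    rw [Finset.card_sdiff, Finset.inter_comm, d.pair_blk D C hDC, d.card_pts]
    have := d.two_le
    omega
  obtain ⟨q₁, hq₁, q₂, hq₂, hne12⟩ := Finset.one_lt_card.1 hcard
  obtain ⟨hq₁D, hq₁C⟩ := Finset.mem_sdiff.1 hq₁
  obtain ⟨hq₂D, hq₂C⟩ := Finset.mem_sdiff.1 hq₂
  have hm : ∀ q, q ∈ d.pts D → q ∉ d.pts C → σ q ≠ q := fun q hqD hqC hh =>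
    hD (d.fixed_of_mem h hC hqC hh hqD)
  have hsub : S p p' ⊆ S q₁ q₂ := fun E hE =>
    hS.2 ⟨moved_on q₁ (hm q₁ hq₁D hq₁C) E hE, moved_on q₂ (hm q₂ hq₂D hq₂C) E hE⟩
  have heq : S p p' = S q₁ q₂ := Finset.eq_of_subset_of_card_le hsub (by
    rw [d.pair_pts p p' hpp, d.pair_pts q₁ q₂ hne12])
  have hDS : D ∈ S p p' := by rw [heq]; exact hS.2 ⟨hq₁D, hq₂D⟩
  exact hpD (hS.1 hDS).1

/-- An automorphism fixing an axis pointwise, a point outside it and all blocks through a point of
the axis is trivial. -/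
theorem eq_one_of_axis_centre (h : d.IsAut σ ρ) (hC : ∀ p ∈ d.pts C, σ p = p) {p c : Ω}
    (hp : p ∉ d.pts C) (hσp : σ p = p) (hc : c ∈ d.pts C)
    (hstar : ∀ D, c ∈ d.pts D → ρ D = D) : σ = 1 := by
  by_contra hne
  have hfix : (univ.filter fun x => σ x = x) ⊆ insert p (d.pts C) := by
    intro x hx
    by_cases hxC : x ∈ d.pts C
    · exact Finset.mem_insert_of_mem hxC
    · exact Finset.mem_insert.2 (Or.inl (d.fix_out_unique h hne hC hxC
        (Finset.mem_filter.1 hx).2 hp hσp))
  have h1 := Finset.card_le_card hfix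
  rw [d.fix_eq h, Finset.card_insert_of_notMem hp, d.card_pts] at h1
  have h2 : ((univ.filter fun D => p ∈ d.pts D) ∪ univ.filter fun D => c ∈ d.pts D) ⊆
      univ.filter fun D => ρ D = D := by
    intro D hD
    refine Finset.mem_filter.2 ⟨Finset.mem_univ _, ?_⟩
    rcases Finset.mem_union.1 hD with hh | hh
    · exact d.fixed_of_mem h hC hp hσp (Finset.mem_filter.1 hh).2
    · exact hstar D (Finset.mem_filter.1 hh).2
  have h3 := Finset.card_le_card h2
  have h4 := Finset.card_union_add_card_inter (univ.filter fun D => p ∈ d.pts D)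
    (univ.filter fun D => c ∈ d.pts D)
  rw [← Finset.filter_and, d.card_star, d.card_star,
    d.pair_pts p c (fun e => hp (e ▸ hc))] at h4
  have := d.two_le
  omega

end Des

end Cfsg.Agent.Lib.AxialDesign74
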