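import Cfsg.Agent.Lib.AxialDesign74.Setup

/-!
The symmetric design of a 2-transitive group with a subgroup whose index is the degree.
-/

set_option autoImplicit false

namespace Cfsg.Agent.Lib.AxialDesign74

open Finset

universe u v

theorem exists_des {G : Type u} {Ω : Type v} [Group G] [Finite G] [MulAction G Ω]
    [FaithfulSMul G Ω] [Fintype Ω] [DecidableEq Ω] (h2 : MulAction.IsMultiplyPretransitive G Ω 2)
    (H : Subgroup G) (hidx : H.index = Nat.card Ω) (hnt : ¬ MulAction.IsPretransitive H Ω)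
    (hmove : ∀ a : Ω, ∃ h : H, h • a ≠ a) (a : Ω) :
    ∃ (Β : Type u) (_ : Fintype Β) (_ : DecidableEq Β) (_ : MulAction G Β) (d : Des Ω Β) (C₀ : Β),
      (∀ (g : G) (p : Ω) (C : Β), g • p ∈ d.pts (g • C) ↔ p ∈ d.pts C) ∧
      (∀ g : G, g • C₀ = C₀ ↔ g ∈ H) ∧
      (∀ p, p ∈ d.pts C₀ ↔ p ∈ MulAction.orbit H a) ∧
      (∀ D D' : Β, D ≠ C₀ → D' ≠ C₀ → ∃ h ∈ H, h • D = D') ∧
      ∀ p p' : Ω, p ∉ d.pts C₀ → p' ∉ d.pts C₀ → ∃ h ∈ H, h • p = p' := by
  classical
  have h2t : ∀ {p q p' q' : Ω}, p ≠ q → p' ≠ q' → ∃ g : G, g • p = p' ∧ g • q = q' :=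
    @fun p q p' q' => MulAction.is_two_pretransitive_iff.1 h2
  have : Fintype (G ⧸ H) := Fintype.ofFinite _
  have hpret : MulAction.IsPretransitive G Ω :=
    have := h2; MulAction.isPretransitive_of_is_two_pretransitive
  -- the base block
  let B : Finset Ω := univ.filter fun p => ∃ h ∈ H, h • a = p
  have hB : ∀ p, p ∈ B ↔ ∃ h ∈ H, h • a = p := fun p => by simp [B]
  have hBinv : ∀ h ∈ H, ∀ p, p ∈ B → h • p ∈ B := by
    intro h hh p hp
    obtain ⟨h', hh', rfl⟩ := (hB p).1 hp
    exact (hB _).2 ⟨h * h', mul_mem hh hh', by rw [mul_smul]⟩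
  have haB : a ∈ B := (hB a).2 ⟨1, one_mem H, one_smul G a⟩
  let pts : G ⧸ H → Finset Ω := fun C => univ.filter fun p => C.out⁻¹ • p ∈ B
  have hout : ∀ g : G, ∃ h ∈ H, (QuotientGroup.mk g : G ⧸ H).out = g * h := fun g => by
    obtain ⟨h, hh⟩ := QuotientGroup.mk_out_eq_mul H g
    exact ⟨h, h.2, hh⟩
  have hptsmk : ∀ (g : G) (p : Ω), p ∈ pts (QuotientGroup.mk g) ↔ g⁻¹ • p ∈ B := by
    intro g p
    obtain ⟨h, hh, he⟩ := hout g
    simp only [pts, Finset.mem_filter, Finset.mem_univ, true_and, he, mul_inv_rev, mul_smul]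
    refine ⟨fun hp => ?_, hBinv _ (inv_mem hh) _⟩
    have := hBinv h hh _ hp
    rwa [smul_inv_smul] at this
  have hsmul : ∀ (g : G) (p : Ω) (C : G ⧸ H), g • p ∈ pts (g • C) ↔ p ∈ pts C := by
    intro g p C
    induction C using QuotientGroup.induction_on with
    | H y =>
      rw [MulAction.Quotient.smul_mk, smul_eq_mul, hptsmk, hptsmk, mul_inv_rev, mul_smul,
        inv_smul_smul]
  -- parameters
  set k := B.card with hk
  have hcardB : ∀ C, (pts C).card = k := by
    intro C
    have himg : pts C = B.image fun p => C.out • p := by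
      ext p
      simp only [pts, Finset.mem_filter, Finset.mem_univ, true_and, Finset.mem_image]
      exact ⟨fun hp => ⟨_, hp, smul_inv_smul _ _⟩, fun ⟨x, hx, e⟩ => by rw [← e, inv_smul_smul]; exact hx⟩
    rw [himg, Finset.card_image_of_injective _ (MulAction.injective _)]
  have hcard : Fintype.card (G ⧸ H) = Fintype.card Ω := by
    rw [← Nat.card_eq_fintype_card, ← Nat.card_eq_fintype_card, ← Subgroup.index_eq_card, hidx]
  obtain ⟨h₀, hh₀⟩ := hmove a
  have hk2 : 2 ≤ k := Finset.one_lt_card.2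
    ⟨(h₀ : G) • a, (hB _).2 ⟨h₀, h₀.2, rfl⟩, a, haB, hh₀⟩
  have hBne : B ≠ univ := by
    intro e
    refine hnt ⟨fun x y => ?_⟩
    obtain ⟨g, hg, hx⟩ := (hB x).1 (e ▸ Finset.mem_univ x)
    obtain ⟨g', hg', hy⟩ := (hB y).1 (e ▸ Finset.mem_univ y)
    refine ⟨⟨g' * g⁻¹, mul_mem hg' (inv_mem hg)⟩, ?_⟩
    rw [Subgroup.mk_smul, ← hx, ← hy, mul_smul, inv_smul_smul]
  have hkv : k < Fintype.card Ω := Finset.card_lt_univ_of_notMem
    (by by_contra hall; push Not at hall; exact hBne (Finset.eq_univ_iff_forall.2 hall) :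
      ∃ d, d ∉ B).choose_spec
  have hkv2 : k + 2 ≤ Fintype.card Ω := by
    by_contra hcon
    have h1 : Bᶜ.card = 1 := by rw [Finset.card_compl]; omega
    obtain ⟨d, hd⟩ := Finset.card_eq_one.1 h1
    obtain ⟨h, hh⟩ := hmove d
    have hdB : d ∉ B := Finset.mem_compl.1 (hd ▸ Finset.mem_singleton_self d)
    have hhd : h • d ∈ Bᶜ := Finset.mem_compl.2 fun hc => hdB (by
      have h3 := hBinv (h : G)⁻¹ (inv_mem h.2) _ hc
      rwa [Subgroup.smul_def, inv_smul_smul] at h3)
    rw [hd, Finset.mem_singleton] at hhd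
    exact hh hhd
  have hstar_inv : ∀ (g : G) (p : Ω), (univ.filter fun C => g • p ∈ pts C).card
      = (univ.filter fun C => p ∈ pts C).card := by
    intro g p
    refine (Finset.card_equiv (MulAction.toPerm g) fun C => ?_).symm
    simp [hsmul]
  have hstar : ∀ p, (univ.filter fun C => p ∈ pts C).card = k := by
    intro p
    have hconst : ∀ q, (univ.filter fun C => q ∈ pts C).card
        = (univ.filter fun C => p ∈ pts C).card := fun q => by
      obtain ⟨g, rfl⟩ := MulAction.exists_smul_eq G p q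
      exact hstar_inv g p
    have hsum : ∑ q, (univ.filter fun C => q ∈ pts C).card = ∑ C, (pts C).card := by
      simp only [Finset.card_eq_sum_ones, Finset.sum_filter]
      rw [Finset.sum_comm]
      refine Finset.sum_congr rfl fun C _ => ?_
      rw [Finset.sum_ite_mem, Finset.univ_inter]
    rw [Finset.sum_congr rfl fun q _ => hconst q, Finset.sum_congr rfl fun C _ => hcardB C,
      Finset.sum_const, Finset.sum_const, Finset.card_univ, Finset.card_univ, hcard,
      smul_eq_mul, smul_eq_mul] at hsum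
    exact Nat.eq_of_mul_eq_mul_left (by omega) hsum
  obtain ⟨b, -, hab⟩ : ∃ b ∈ B, b ≠ a := Finset.exists_mem_ne hk2 a
  set lam := (univ.filter fun C => a ∈ pts C ∧ b ∈ pts C).card with hlam
  have hpair : ∀ p q, p ≠ q → (univ.filter fun C => p ∈ pts C ∧ q ∈ pts C).card = lam := by
    intro p q hpq
    obtain ⟨g, h1, h2'⟩ := h2t hab.symm hpq
    rw [← h1, ← h2', hlam]
    refine (Finset.card_equiv (MulAction.toPerm g) fun C => ?_).symm
    simp [hsmul]
  have hcount : lam * (Fintype.card Ω - 1) = k * (k - 1) := by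
    have hsum : ∑ q ∈ univ.erase a, (univ.filter fun C => a ∈ pts C ∧ q ∈ pts C).card
        = ∑ C ∈ univ.filter (fun C => a ∈ pts C), ((pts C).erase a).card := by
      simp only [Finset.card_eq_sum_ones, Finset.sum_filter]
      rw [Finset.sum_comm]
      refine Finset.sum_congr rfl fun C _ => ?_
      by_cases haC : a ∈ pts C
      · simp only [haC, true_and, if_true]
        rw [Finset.sum_ite_mem, Finset.erase_inter, Finset.univ_inter]
      · simp [haC]
    rw [Finset.sum_congr rfl fun q hq => hpair a q (Finset.ne_of_mem_erase hq).symm,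
      Finset.sum_congr rfl fun C hC => (by
        rw [Finset.card_erase_of_mem (Finset.mem_filter.1 hC).2, hcardB] :
          ((pts C).erase a).card = k - 1),
      Finset.sum_const, Finset.sum_const, hstar, Finset.card_erase_of_mem (Finset.mem_univ a),
      Finset.card_univ, smul_eq_mul, smul_eq_mul] at hsum
    rw [← hsum, mul_comm]
  have htwo : lam + 2 ≤ k := by
    obtain ⟨w, hw⟩ : ∃ w, Fintype.card Ω = k + 2 + w := ⟨_, (Nat.add_sub_of_le hkv2).symm⟩
    obtain ⟨j, hj⟩ : ∃ j, k = j + 1 := ⟨k - 1, by omega⟩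
    rw [hw, hj] at hcount
    rw [show j + 1 + 2 + w - 1 = j + 2 + w by omega, show j + 1 - 1 = j by omega] at hcount
    by_contra hcon
    have h1 : j * (j + 2 + w) ≤ lam * (j + 2 + w) := Nat.mul_le_mul_right _ (by omega)
    have h3 : j * (j + 1) < j * (j + 2 + w) := Nat.mul_lt_mul_of_pos_left (by omega) (by omega)
    nlinarith
  let d : Des Ω (G ⧸ H) :=
    { pts := pts, k := k, lam := lam, two_le := htwo, kv := hkv2, card_eq := hcard,
      card_pts := hcardB, card_star := hstar, pair_pts := hpair,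
      pair_blk := pair_blk_of_pair_pts pts k lam (by omega) hcard hcardB hstar hpair }
  -- fixed points and orbits
  have hfix : ∀ g : G,
      Nat.card (MulAction.fixedBy Ω g) = Nat.card (MulAction.fixedBy (G ⧸ H) g) := by
    intro g
    have h1 := d.fix_eq (σ := MulAction.toPerm g) (ρ := MulAction.toPerm g)
      fun p C => hsmul g p C
    simp only [MulAction.toPerm_apply] at h1
    rw [← Fintype.card_subtype, ← Fintype.card_subtype, ← Nat.card_eq_fintype_card,
      ← Nat.card_eq_fintype_card] at h1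
    exact h1
  have horbΩ : Nat.card (MulAction.orbitRel.Quotient G (Ω × Ω)) ≤ 2 := by
    let f : Bool → MulAction.orbitRel.Quotient G (Ω × Ω) :=
      fun t => if t then Quotient.mk'' (a, a) else Quotient.mk'' (a, b)
    have hf : Function.Surjective f := by
      intro x
      induction x using Quotient.inductionOn' with
      | _ x =>
        obtain ⟨p, q⟩ := x
        by_cases hpq : p = q
        · subst hpq
          obtain ⟨g, rfl⟩ := MulAction.exists_smul_eq G a p
          exact ⟨true, (Quotient.eq''.2 (MulAction.mem_orbit (a, a) g)).symm⟩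
        · obtain ⟨g, h1, h2'⟩ := h2t hab.symm hpq
          refine ⟨false, (Quotient.eq''.2 ?_).symm⟩
          exact ⟨g, Prod.ext h1 h2'⟩
    have := Nat.card_le_card_of_surjective f hf
    simpa using this
  have horbM : Nat.card (MulAction.orbitRel.Quotient G (Ω × (G ⧸ H))) ≤ 2 := by
    refine le_of_eq_of_le (card_orbits_eq fun g => ?_) horbΩ
    rw [card_fixedBy_prod, card_fixedBy_prod, hfix]
  have horbΒ : Nat.card (MulAction.orbitRel.Quotient G ((G ⧸ H) × (G ⧸ H))) ≤ 2 := by
    refine le_of_eq_of_le (card_orbits_eq fun g => ?_) horbΩ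
    rw [card_fixedBy_prod, card_fixedBy_prod, hfix]
  have htwoblk : ∀ C D C' D' : G ⧸ H, C ≠ D → C' ≠ D' → ∃ g : G, g • C = C' ∧ g • D = D' := by
    intro C D C' D' hCD hCD'
    have hne : ∀ X Y : G ⧸ H, X ≠ Y → ∀ g : G, g • (C, C) ≠ (X, Y) := fun X Y hXY g e =>
      hXY ((congrArg Prod.fst e).symm.trans (congrArg Prod.snd e))
    obtain ⟨g, hg⟩ := exists_smul_of_two horbΒ (hne C D hCD) (hne C' D' hCD')
    exact ⟨g, congrArg Prod.fst hg, congrArg Prod.snd hg⟩
  have hmem : ∀ C, ∃ p, p ∈ pts C := fun C => Finset.card_pos.1 (by rw [hcardB]; omega)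
  have hnmem : ∀ C, ∃ p, p ∉ pts C := fun C => by
    by_contra hall
    push Not at hall
    have h1 := hcardB C
    rw [Finset.eq_univ_iff_forall.2 hall, Finset.card_univ] at h1
    omega
  have hinc : ∀ (g : G) (p q : Ω) (C : G ⧸ H), g • (p, C) = (q, C) →
      (q ∈ pts C ↔ p ∈ pts C) := by
    intro g p q C e
    have h1 : g • p = q := congrArg Prod.fst e
    have h3 : g • C = C := congrArg Prod.snd e
    rw [← h1]
    conv_lhs => rw [← h3]
    exact hsmul g p C
  have hin : ∀ (C : G ⧸ H) (p p' : Ω), p ∈ pts C → p' ∈ pts C →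
      ∃ g : G, g • C = C ∧ g • p = p' := by
    intro C p p' hp hp'
    obtain ⟨q, hq⟩ := hnmem C
    obtain ⟨g, hg⟩ := exists_smul_of_two horbM (a := (q, C)) (b := (p, C)) (c := (p', C))
      (fun g e => hq ((hinc g q p C e).1 hp)) (fun g e => hq ((hinc g q p' C e).1 hp'))
    exact ⟨g, congrArg Prod.snd hg, congrArg Prod.fst hg⟩
  have hout' : ∀ (C : G ⧸ H) (p p' : Ω), p ∉ pts C → p' ∉ pts C →
      ∃ g : G, g • C = C ∧ g • p = p' := by
    intro C p p' hp hp'
    obtain ⟨q, hq⟩ := hmem C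
    obtain ⟨g, hg⟩ := exists_smul_of_two horbM (a := (q, C)) (b := (p, C)) (c := (p', C))
      (fun g e => hp ((hinc g q p C e).2 hq)) (fun g e => hp' ((hinc g q p' C e).2 hq))
    exact ⟨g, congrArg Prod.snd hg, congrArg Prod.fst hg⟩
  have hstab : ∀ g : G, g • (QuotientGroup.mk (1 : G) : G ⧸ H) = QuotientGroup.mk (1 : G) ↔
      g ∈ H := by
    intro g
    rw [MulAction.Quotient.smul_mk, smul_eq_mul, mul_one, QuotientGroup.eq, mul_one, inv_mem_iff]
  refine ⟨G ⧸ H, inferInstance, inferInstance, inferInstance, d, QuotientGroup.mk (1 : G), hsmul,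
    hstab, fun p => ?_, fun D D' hD hD' => ?_, fun p p' hp hp' => ?_⟩
  · show p ∈ pts _ ↔ _
    rw [hptsmk, inv_one, one_smul, hB, MulAction.mem_orbit_iff]
    exact ⟨fun ⟨h, hh, e⟩ => ⟨⟨h, hh⟩, e⟩, fun ⟨h, e⟩ => ⟨h.1, h.2, e⟩⟩
  · obtain ⟨g, h1, h2'⟩ := htwoblk _ D _ D' hD.symm hD'.symm
    exact ⟨g, (hstab g).1 h1, h2'⟩
  · obtain ⟨g, h1, h2'⟩ := hout' _ p p' hp hp'
    exact ⟨g, (hstab g).1 h1, h2'⟩

end Cfsg.Agent.Lib.AxialDesign74
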