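import Cfsg.Agent.Lib.AxialDesign74.Spec
import Cfsg.Agent.Lib.ONan64.Spec

/-!
The field brick, from the field of a geometric spread with shears.
-/

set_option autoImplicit false

namespace Cfsg.Agent.Lib.AxialDesign74

universe u v w

section

variable {V : Type u} [AddCommGroup V] {ι : Type v} {κ : Type w} {r q : ℕ}
  {E : ι → AddSubgroup V} {X : κ → AddSubgroup V}

theorem ShearSys.eq_of_mem (h : ShearSys r q E X) {i j : ι} {v : V} (hi : v ∈ E i) (hj : v ∈ E j)
    (hv : v ≠ 0) : i = j :=
  ExistsUnique.unique (h.cover v hv) hi hj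

theorem ShearSys.exists_ne_zero [Finite V] (h : ShearSys r q E X) (i : ι) :
    ∃ v ∈ E i, v ≠ 0 := by
  have hn : E i ≠ ⊥ := fun e => by
    have := h.card_E i
    rw [e, AddSubgroup.card_bot] at this
    have := h.two_le
    omega
  exact (AddSubgroup.bot_or_exists_ne_zero (E i)).resolve_left hn

theorem ShearSys.geomSpread [Finite V] (h : ShearSys r q E X) :
    ONan64.GeomSpread V E r q where
  prime := h.prime
  expo := h.char
  card := h.card_E
  one_lt := h.two_le
  two := by
    obtain ⟨c⟩ := h.nonempty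
    obtain ⟨x, hx, hx0⟩ := (AddSubgroup.bot_or_exists_ne_zero (X c)).resolve_left (h.X_ne_bot c)
    obtain ⟨i, hi, -⟩ := h.cover x hx0
    obtain ⟨y, hy⟩ : ∃ y, y ∉ X c := by
      by_contra hall
      push Not at hall
      have := h.index_X c
      rw [(AddSubgroup.eq_top_iff' (X c)).2 hall, AddSubgroup.index_top] at this
      have := h.two_le
      omega
    obtain ⟨j, hj, -⟩ := h.cover y (fun e => hy (e ▸ zero_mem _))
    exact ⟨i, j, fun e => hy (h.union c i x hi hx0 hx (e ▸ hj))⟩
  exists_mem := fun x hx => (h.cover x hx).exists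
  inj := fun _ _ _ h1 h2 hx => h.eq_of_mem h1 h2 hx
  plane := by
    intro z₁ z₂ z x hx hx0 hsup
    obtain ⟨a, ha, b, hb, rfl⟩ := AddSubgroup.mem_sup.1 hsup
    by_cases ha0 : a = 0
    · subst ha0
      rw [zero_add] at hx hx0
      rw [h.eq_of_mem hx hb hx0]
      exact le_sup_right
    by_cases hb0 : b = 0
    · subst hb0
      rw [add_zero] at hx hx0
      rw [h.eq_of_mem hx ha hx0]
      exact le_sup_left
    by_cases h12 : z₁ = z₂
    · subst h12
      rw [h.eq_of_mem hx (add_mem ha hb) hx0]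
      exact le_sup_left
    obtain ⟨c, hc2, hc1⟩ := h.pair z₂ z₁ (Ne.symm h12)
    obtain ⟨φ, hkill, hran, hcen, hperm, hφ⟩ := h.shear c a b
      (fun hh => hc1 (h.union c z₁ a ha ha0 hh)) (hc2 hb)
    obtain ⟨j, hj⟩ := hperm z₁
    have hjz : j = z := by
      refine h.eq_of_mem ?_ hx hx0
      have := hj a ha
      rwa [hφ] at this
    subst hjz
    let f : E z₁ → E j := fun v => ⟨v.1 + φ v.1, hj v.1 v.2⟩
    have hf : Function.Injective f := fun v w e => by
      have e' : v.1 + φ v.1 = w.1 + φ w.1 := congrArg Subtype.val e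
      have hzero : φ (v.1 - w.1) = -(v.1 - w.1) := by
        rw [map_sub]
        linear_combination (norm := abel) e'
      have hmem : v.1 - w.1 ∈ X c := by
        have := hran (v.1 - w.1)
        rw [hzero, neg_mem_iff] at this
        exact this
      rw [hkill _ hmem, zero_eq_neg, sub_eq_zero] at hzero
      exact Subtype.ext hzero
    intro y hy
    obtain ⟨v, hv⟩ := ((Nat.bijective_iff_injective_and_card f).2
      ⟨hf, by rw [h.card_E, h.card_E]⟩).2 ⟨y, hy⟩
    have hv' : v.1 + φ v.1 = y := congrArg Subtype.val hv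
    rw [← hv']
    exact AddSubgroup.mem_sup.2 ⟨v.1, v.2, φ v.1, hcen z₂ hb v.1, rfl⟩
  shear := by
    intro c z₁ z₂ h1 h2 hle
    obtain ⟨X₀, hXc, hX1⟩ := h.pair c z₁ (Ne.symm h1)
    obtain ⟨w, hw, hw0⟩ := h.exists_ne_zero z₂
    obtain ⟨a, ha, b, hb, hab⟩ := AddSubgroup.mem_sup.1 (hle hw)
    have hb0 : b ≠ 0 := by
      rintro rfl
      rw [add_zero] at hab
      exact h2 (h.eq_of_mem hw (hab ▸ ha) hw0)
    obtain ⟨φ, hkill, hran, hcen, hperm, hφ⟩ := h.shear X₀ b a
      (fun hh => hX1 (h.union X₀ z₁ b hb hb0 hh)) (hXc ha)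
    let σ : V ≃+ V :=
      { toFun := fun v => v + φ v
        invFun := fun v => v - φ v
        left_inv := fun v => by simp [map_add, hkill _ (hran v)]
        right_inv := fun v => by simp [map_sub, hkill _ (hran v)]
        map_add' := fun v w => by rw [map_add]; abel }
    have hσ : ∀ v, σ v = v + φ v := fun _ => rfl
    have himg : ∀ z, ∃ z', (E z).map σ.toAddMonoidHom = E z' := by
      intro z
      obtain ⟨j, hj⟩ := hperm z
      refine ⟨j, ?_⟩
      refine AddSubgroup.eq_of_le_of_card_ge ?_ ?_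
      · rintro _ ⟨v, hv, rfl⟩
        exact hj v hv
      · rw [Nat.card_congr ((E z).equivMapOfInjective σ.toAddMonoidHom σ.injective).toEquiv.symm,
          h.card_E, h.card_E]
    refine ⟨σ, fun v => ?_, fun v hv => ?_, himg, ?_⟩
    · rw [hσ, add_sub_cancel_left]
      exact hcen c ha v
    · rw [hσ, hkill v (hXc hv), add_zero]
    · obtain ⟨j, hj⟩ := himg z₁
      rw [hj]
      refine congrArg E (h.eq_of_mem (v := w) ?_ hw hw0)
      rw [← hj]
      exact ⟨b, hb, by rw [AddEquiv.coe_toAddMonoidHom, hσ, hφ, ← hab, add_comm]⟩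

end

/-- Brick Field, from the field of a geometric spread with shears. -/
theorem field (hF : ONan64.FieldStmt.{u, v}) : FieldBrick.{u, v, w} := by
  intro V _ _ ι κ _ r q E X h
  obtain ⟨F, iF, iFt, iM, hcard, hmem⟩ := hF V ι E r q h.geomSpread
  refine ⟨F, iF, iFt, iM, hcard, fun f i x hx => ?_⟩
  by_cases hx0 : x = 0
  · rw [hx0, smul_zero]; exact zero_mem _
  · exact (hmem i x hx hx0 _).2 ⟨f, rfl⟩

end Cfsg.Agent.Lib.AxialDesign74
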