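import Cfsg.Agent.Lib.AxialDesign74.Spec

/-!
The symmetric design of a 2-transitive group with a subgroup whose index is the degree.
-/

set_option autoImplicit false

namespace Cfsg.Agent.Lib.AxialDesign74

open Finset

universe u v w

/-- A square incidence structure with constant block size, replication number and pair number has
the same number of common points for any two blocks. -/
theorem pair_blk_of_pair_pts {Ω : Type u} {Β : Type w} [Fintype Ω] [Fintype Β] [DecidableEq Ω]
    [DecidableEq Β] (pts : Β → Finset Ω) (k lam : ℕ) (hlt : lam < k)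
    (hcard : Fintype.card Β = Fintype.card Ω) (hpts : ∀ C, (pts C).card = k)
    (hstar : ∀ p, (univ.filter fun C => p ∈ pts C).card = k)
    (hpair : ∀ p q, p ≠ q → (univ.filter fun C => p ∈ pts C ∧ q ∈ pts C).card = lam)
    (C D : Β) (hne : C ≠ D) : (pts C ∩ pts D).card = lam := by
  let e : Β ≃ Ω := Fintype.equivOfCardEq hcard
  let M : Matrix Ω Ω ℚ := Matrix.of fun p x => if p ∈ pts (e.symm x) then 1 else 0
  let N : Matrix Ω Ω ℚ := Matrix.of fun p x =>
    (if p = x then ((k : ℚ) - lam) else 0) + lam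
  have hMMT : M * M.transpose = N := by
    ext p x
    rw [Matrix.mul_apply, ← Equiv.sum_comp e]
    simp only [M, N, Matrix.transpose_apply, Matrix.of_apply, Equiv.symm_apply_apply,
      ite_mul, one_mul, zero_mul, ← ite_and]
    rw [Finset.sum_boole]
    by_cases hpx : p = x
    · subst hpx
      rw [if_pos rfl, sub_add_cancel]
      simp only [and_self]
      rw [hstar p]
    · rw [if_neg hpx, zero_add, hpair p x hpx]
  have hMN : M * N = N * M := by
    ext p x
    rw [Matrix.mul_apply, Matrix.mul_apply]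
    simp only [N, Matrix.of_apply, mul_add, add_mul, Finset.sum_add_distrib, mul_ite, ite_mul,
      mul_zero, zero_mul, Finset.sum_ite_eq, Finset.sum_ite_eq', Finset.mem_univ, if_true,
      ← Finset.mul_sum, ← Finset.sum_mul]
    have h1 : (∑ y, M p y) = (k : ℚ) := by
      rw [← Equiv.sum_comp e]
      simp only [M, Matrix.of_apply, Equiv.symm_apply_apply, Finset.sum_boole]
      rw [hstar p]
    have h2 : (∑ y, M y x) = (k : ℚ) := by
      simp only [M, Matrix.of_apply, Finset.sum_boole]
      rw [Finset.filter_univ_mem, hpts]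
    rw [h1, h2]
    ring
  have hinj : Function.Injective M.transpose.mulVec := by
    intro y₁ y₂ hy
    rw [← sub_eq_zero]
    set z := y₁ - y₂ with hz
    have hz0 : M.transpose.mulVec z = 0 := by rw [hz, Matrix.mulVec_sub, sub_eq_zero]; exact hy
    have h0 : ∀ p, ((k : ℚ) - lam) * z p + lam * ∑ x, z x = 0 := fun p => by
      have h1 : N.mulVec z p = 0 := by
        rw [← hMMT, ← Matrix.mulVec_mulVec, hz0, Matrix.mulVec_zero]; rfl
      rw [← h1]
      simp only [Matrix.mulVec, dotProduct, N, Matrix.of_apply, add_mul, Finset.sum_add_distrib,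
        ite_mul, zero_mul, Finset.sum_ite_eq, Finset.mem_univ, if_true, Finset.mul_sum]
    have hpos : (0 : ℚ) < (k : ℚ) - lam := by
      have : (lam : ℚ) < (k : ℚ) := by exact_mod_cast hlt
      linarith
    have hsum : ∑ x, z x = 0 := by
      have h1 := Finset.sum_eq_zero (s := univ) fun p _ => h0 p
      rw [Finset.sum_add_distrib, ← Finset.mul_sum, Finset.sum_const, nsmul_eq_mul, ← mul_assoc,
        ← add_mul] at h1
      refine (mul_eq_zero.1 h1).resolve_left (ne_of_gt ?_)
      have : (0 : ℚ) ≤ ((univ : Finset Ω).card : ℚ) * lam := by positivity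
      linarith
    funext p
    have := h0 p
    rw [hsum, mul_zero, add_zero] at this
    exact (mul_eq_zero.1 this).resolve_left hpos.ne'
  have hdet : IsUnit M.det := by
    rw [← Matrix.det_transpose]
    exact (Matrix.isUnit_iff_isUnit_det _).1 (Matrix.mulVec_injective_iff_isUnit.1 hinj)
  have hMTM : M.transpose * M = N := by
    have h1 : M * (M.transpose * M) = M * N := by rw [← mul_assoc, hMMT, hMN]
    exact ((Matrix.isUnit_iff_isUnit_det _).2 hdet).mul_left_cancel h1
  have h3 := congrFun (congrFun hMTM (e C)) (e D)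
  simp only [Matrix.mul_apply, M, N, Matrix.transpose_apply, Matrix.of_apply,
    Equiv.symm_apply_apply, ite_mul, one_mul, zero_mul, ← ite_and, Finset.sum_boole,
    EmbeddingLike.apply_eq_iff_eq, if_neg hne, zero_add] at h3
  have h4 : (univ.filter fun p => p ∈ pts C ∧ p ∈ pts D) = pts C ∩ pts D := by
    ext p; simp
  rw [h4] at h3
  exact_mod_cast h3

section

variable {G : Type u} [Group G]

/-- If every element has as many fixed points on two finite sets, the group has as many orbits on
them. -/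
theorem card_orbits_eq {X Y : Type*} [Finite G] [MulAction G X] [MulAction G Y] [Finite X]
    [Finite Y] (h : ∀ g : G, Nat.card (MulAction.fixedBy X g) = Nat.card (MulAction.fixedBy Y g)) :
    Nat.card (MulAction.orbitRel.Quotient G X) = Nat.card (MulAction.orbitRel.Quotient G Y) := by
  have : Fintype G := Fintype.ofFinite G
  have hX := Nat.card_congr (MulAction.sigmaFixedByEquivOrbitsProdGroup G X)
  have hY := Nat.card_congr (MulAction.sigmaFixedByEquivOrbitsProdGroup G Y)
  rw [Nat.card_sigma, Nat.card_prod] at hX hY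
  rw [Finset.sum_congr rfl fun g _ => h g, hY] at hX
  exact (Nat.eq_of_mul_eq_mul_right Nat.card_pos hX).symm

/-- Fixed points on a product. -/
theorem card_fixedBy_prod {X Y : Type*} [MulAction G X] [MulAction G Y] (g : G) :
    Nat.card (MulAction.fixedBy (X × Y) g)
      = Nat.card (MulAction.fixedBy X g) * Nat.card (MulAction.fixedBy Y g) := by
  rw [← Nat.card_prod]
  exact Nat.card_congr
    { toFun := fun x => (⟨x.1.1, congrArg Prod.fst x.2⟩, ⟨x.1.2, congrArg Prod.snd x.2⟩)
      invFun := fun x => ⟨(x.1.1, x.2.1), Prod.ext x.1.2 x.2.2⟩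
      left_inv := fun _ => rfl
      right_inv := fun _ => rfl }

/-- With at most two orbits, two elements outside the orbit of a third are in one orbit. -/
theorem exists_smul_of_two {X : Type*} [MulAction G X] [Finite X]
    (h : Nat.card (MulAction.orbitRel.Quotient G X) ≤ 2) {a b c : X} (hb : ∀ g : G, g • a ≠ b)
    (hc : ∀ g : G, g • a ≠ c) : ∃ g : G, g • b = c := by
  classical
  have : Fintype (MulAction.orbitRel.Quotient G X) := Fintype.ofFinite _
  rw [Nat.card_eq_fintype_card] at h
  let cls : X → MulAction.orbitRel.Quotient G X := Quotient.mk''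
  have hcls : ∀ x y, cls x = cls y ↔ ∃ g : G, g • y = x := fun x y => by
    rw [Quotient.eq'', MulAction.orbitRel_apply]
    exact MulAction.mem_orbit_iff
  by_contra hne
  have h3 : ({cls a, cls b, cls c} : Finset _).card = 3 := by
    refine Finset.card_eq_three.2 ⟨cls a, cls b, cls c, ?_, ?_, ?_, rfl⟩
    · exact fun e => by obtain ⟨g, hg⟩ := (hcls _ _).1 e.symm; exact hb g hg
    · exact fun e => by obtain ⟨g, hg⟩ := (hcls _ _).1 e.symm; exact hc g hg
    · exact fun e => by obtain ⟨g, hg⟩ := (hcls _ _).1 e.symm; exact hne ⟨g, hg⟩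
  have h4 := Finset.card_le_univ ({cls a, cls b, cls c} : Finset _)
  omega

end

theorem setup : SetupBrick.{u, v} := by
  intro G Ω _ _ _ _ _ _ h2 H hidx hnt hmove A hAH hA1 hAnorm hAcomm a ha
  classical
  have h2t : ∀ {p q p' q' : Ω}, p ≠ q → p' ≠ q' → ∃ g : G, g • p = p' ∧ g • q = q' :=
    @fun p q p' q' => MulAction.is_two_pretransitive_iff.1 h2
  have : Fintype (G ⧸ H) := Fintype.ofFinite _
  have hpret : MulAction.IsPretransitive G Ω :=
    have := h2; MulAction.isPretransitive_of_is_two_pretransitive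
  -- the base block
  let B : Finset Ω := univ.filter fun p => ∃ h ∈ H, h • a = p
  have hB : ∀ p, p ∈ B ↔ ∃ h ∈ H, h • a = p := fun p => by simp [B]
  have hBinv : ∀ h ∈ H, ∀ p, p ∈ B → h • p ∈ B := by
    intro h hh p hp
    obtain ⟨h', hh', rfl⟩ := (hB p).1 hp
    exact (hB _).2 ⟨h * h', mul_mem hh hh', by rw [mul_smul]⟩
  have haB : a ∈ B := (hB a).2 ⟨1, one_mem H, one_smul G a⟩
  let pts : G ⧸ H → Finset Ω := fun C => univ.filter fun p => C.out⁻¹ • p ∈ B
  have hout : ∀ g : G, ∃ h ∈ H, (QuotientGroup.mk g : G ⧸ H).out = g * h := fun g => by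
    obtain ⟨h, hh⟩ := QuotientGroup.mk_out_eq_mul H g
    exact ⟨h, h.2, hh⟩
  have hptsmk : ∀ (g : G) (p : Ω), p ∈ pts (QuotientGroup.mk g) ↔ g⁻¹ • p ∈ B := by
    intro g p
    obtain ⟨h, hh, he⟩ := hout g
    simp only [pts, Finset.mem_filter, Finset.mem_univ, true_and, he, mul_inv_rev, mul_smul]
    refine ⟨fun hp => ?_, hBinv _ (inv_mem hh) _⟩
    have := hBinv h hh _ hp
    rwa [smul_inv_smul] at this
  have hsmul : ∀ (g : G) (p : Ω) (C : G ⧸ H), g • p ∈ pts (g • C) ↔ p ∈ pts C := by
    intro g p C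
    induction C using QuotientGroup.induction_on with
    | H y =>
      rw [MulAction.Quotient.smul_mk, smul_eq_mul, hptsmk, hptsmk, mul_inv_rev, mul_smul,
        inv_smul_smul]
  -- parameters
  set k := B.card with hk
  have hcardB : ∀ C, (pts C).card = k := by
    intro C
    have himg : pts C = B.image fun p => C.out • p := by
      ext p
      simp only [pts, Finset.mem_filter, Finset.mem_univ, true_and, Finset.mem_image]
      exact ⟨fun hp => ⟨_, hp, smul_inv_smul _ _⟩, fun ⟨x, hx, e⟩ => by rw [← e, inv_smul_smul]; exact hx⟩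
    rw [himg, Finset.card_image_of_injective _ (MulAction.injective _)]
  have hcard : Fintype.card (G ⧸ H) = Fintype.card Ω := by
    rw [← Nat.card_eq_fintype_card, ← Nat.card_eq_fintype_card, ← Subgroup.index_eq_card, hidx]
  obtain ⟨h₀, hh₀⟩ := hmove a
  have hk2 : 2 ≤ k := Finset.one_lt_card.2
    ⟨(h₀ : G) • a, (hB _).2 ⟨h₀, h₀.2, rfl⟩, a, haB, hh₀⟩
  have hBne : B ≠ univ := by
    intro e
    refine hnt ⟨fun x y => ?_⟩
    obtain ⟨g, hg, hx⟩ := (hB x).1 (e ▸ Finset.mem_univ x)
    obtain ⟨g', hg', hy⟩ := (hB y).1 (e ▸ Finset.mem_univ y)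
    refine ⟨⟨g' * g⁻¹, mul_mem hg' (inv_mem hg)⟩, ?_⟩
    rw [Subgroup.mk_smul, ← hx, ← hy, mul_smul, inv_smul_smul]
  have hkv : k < Fintype.card Ω := Finset.card_lt_univ_of_notMem
    (by by_contra hall; push Not at hall; exact hBne (Finset.eq_univ_iff_forall.2 hall) :
      ∃ d, d ∉ B).choose_spec
  have hkv2 : k + 2 ≤ Fintype.card Ω := by
    by_contra hcon
    have h1 : Bᶜ.card = 1 := by rw [Finset.card_compl]; omega
    obtain ⟨d, hd⟩ := Finset.card_eq_one.1 h1
    obtain ⟨h, hh⟩ := hmove d
    have hdB : d ∉ B := Finset.mem_compl.1 (hd ▸ Finset.mem_singleton_self d)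
    have hhd : h • d ∈ Bᶜ := Finset.mem_compl.2 fun hc => hdB (by
      have h3 := hBinv (h : G)⁻¹ (inv_mem h.2) _ hc
      rwa [Subgroup.smul_def, inv_smul_smul] at h3)
    rw [hd, Finset.mem_singleton] at hhd
    exact hh hhd
  have hstar_inv : ∀ (g : G) (p : Ω), (univ.filter fun C => g • p ∈ pts C).card
      = (univ.filter fun C => p ∈ pts C).card := by
    intro g p
    refine (Finset.card_equiv (MulAction.toPerm g) fun C => ?_).symm
    simp [hsmul]
  have hstar : ∀ p, (univ.filter fun C => p ∈ pts C).card = k := by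
    intro p
    have hconst : ∀ q, (univ.filter fun C => q ∈ pts C).card
        = (univ.filter fun C => p ∈ pts C).card := fun q => by
      obtain ⟨g, rfl⟩ := MulAction.exists_smul_eq G p q
      exact hstar_inv g p
    have hsum : ∑ q, (univ.filter fun C => q ∈ pts C).card = ∑ C, (pts C).card := by
      simp only [Finset.card_eq_sum_ones, Finset.sum_filter]
      rw [Finset.sum_comm]
      refine Finset.sum_congr rfl fun C _ => ?_
      rw [Finset.sum_ite_mem, Finset.univ_inter]
    rw [Finset.sum_congr rfl fun q _ => hconst q, Finset.sum_congr rfl fun C _ => hcardB C,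
      Finset.sum_const, Finset.sum_const, Finset.card_univ, Finset.card_univ, hcard,
      smul_eq_mul, smul_eq_mul] at hsum
    exact Nat.eq_of_mul_eq_mul_left (by omega) hsum
  obtain ⟨b, -, hab⟩ : ∃ b ∈ B, b ≠ a := Finset.exists_mem_ne hk2 a
  set lam := (univ.filter fun C => a ∈ pts C ∧ b ∈ pts C).card with hlam
  have hpair : ∀ p q, p ≠ q → (univ.filter fun C => p ∈ pts C ∧ q ∈ pts C).card = lam := by
    intro p q hpq
    obtain ⟨g, h1, h2'⟩ := h2t hab.symm hpq
    rw [← h1, ← h2', hlam]
    refine (Finset.card_equiv (MulAction.toPerm g) fun C => ?_).symm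
    simp [hsmul]
  have hcount : lam * (Fintype.card Ω - 1) = k * (k - 1) := by
    have hsum : ∑ q ∈ univ.erase a, (univ.filter fun C => a ∈ pts C ∧ q ∈ pts C).card
        = ∑ C ∈ univ.filter (fun C => a ∈ pts C), ((pts C).erase a).card := by
      simp only [Finset.card_eq_sum_ones, Finset.sum_filter]
      rw [Finset.sum_comm]
      refine Finset.sum_congr rfl fun C _ => ?_
      by_cases haC : a ∈ pts C
      · simp only [haC, true_and, if_true]
        rw [Finset.sum_ite_mem, Finset.erase_inter, Finset.univ_inter]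
      · simp [haC]
    rw [Finset.sum_congr rfl fun q hq => hpair a q (Finset.ne_of_mem_erase hq).symm,
      Finset.sum_congr rfl fun C hC => (by
        rw [Finset.card_erase_of_mem (Finset.mem_filter.1 hC).2, hcardB] :
          ((pts C).erase a).card = k - 1),
      Finset.sum_const, Finset.sum_const, hstar, Finset.card_erase_of_mem (Finset.mem_univ a),
      Finset.card_univ, smul_eq_mul, smul_eq_mul] at hsum
    rw [← hsum, mul_comm]
  have htwo : lam + 2 ≤ k := by
    obtain ⟨w, hw⟩ : ∃ w, Fintype.card Ω = k + 2 + w := ⟨_, (Nat.add_sub_of_le hkv2).symm⟩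
    obtain ⟨j, hj⟩ : ∃ j, k = j + 1 := ⟨k - 1, by omega⟩
    rw [hw, hj] at hcount
    rw [show j + 1 + 2 + w - 1 = j + 2 + w by omega, show j + 1 - 1 = j by omega] at hcount
    by_contra hcon
    have h1 : j * (j + 2 + w) ≤ lam * (j + 2 + w) := Nat.mul_le_mul_right _ (by omega)
    have h3 : j * (j + 1) < j * (j + 2 + w) := Nat.mul_lt_mul_of_pos_left (by omega) (by omega)
    nlinarith
  let d : Des Ω (G ⧸ H) :=
    { pts := pts, k := k, lam := lam, two_le := htwo, kv := hkv2, card_eq := hcard,
      card_pts := hcardB, card_star := hstar, pair_pts := hpair,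
      pair_blk := pair_blk_of_pair_pts pts k lam (by omega) hcard hcardB hstar hpair }
  -- fixed points and orbits
  have hfix : ∀ g : G,
      Nat.card (MulAction.fixedBy Ω g) = Nat.card (MulAction.fixedBy (G ⧸ H) g) := by
    intro g
    have h1 := d.fix_eq (σ := MulAction.toPerm g) (ρ := MulAction.toPerm g)
      fun p C => hsmul g p C
    simp only [MulAction.toPerm_apply] at h1
    rw [← Fintype.card_subtype, ← Fintype.card_subtype, ← Nat.card_eq_fintype_card,
      ← Nat.card_eq_fintype_card] at h1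
    exact h1
  have horbΩ : Nat.card (MulAction.orbitRel.Quotient G (Ω × Ω)) ≤ 2 := by
    let f : Bool → MulAction.orbitRel.Quotient G (Ω × Ω) :=
      fun t => if t then Quotient.mk'' (a, a) else Quotient.mk'' (a, b)
    have hf : Function.Surjective f := by
      intro x
      induction x using Quotient.inductionOn' with
      | _ x =>
        obtain ⟨p, q⟩ := x
        by_cases hpq : p = q
        · subst hpq
          obtain ⟨g, rfl⟩ := MulAction.exists_smul_eq G a p
          exact ⟨true, (Quotient.eq''.2 (MulAction.mem_orbit (a, a) g)).symm⟩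
        · obtain ⟨g, h1, h2'⟩ := h2t hab.symm hpq
          refine ⟨false, (Quotient.eq''.2 ?_).symm⟩
          exact ⟨g, Prod.ext h1 h2'⟩
    have := Nat.card_le_card_of_surjective f hf
    simpa using this
  have horbM : Nat.card (MulAction.orbitRel.Quotient G (Ω × (G ⧸ H))) ≤ 2 := by
    refine le_of_eq_of_le (card_orbits_eq fun g => ?_) horbΩ
    rw [card_fixedBy_prod, card_fixedBy_prod, hfix]
  have horbΒ : Nat.card (MulAction.orbitRel.Quotient G ((G ⧸ H) × (G ⧸ H))) ≤ 2 := by
    refine le_of_eq_of_le (card_orbits_eq fun g => ?_) horbΩ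
    rw [card_fixedBy_prod, card_fixedBy_prod, hfix]
  have htwoblk : ∀ C D C' D' : G ⧸ H, C ≠ D → C' ≠ D' → ∃ g : G, g • C = C' ∧ g • D = D' := by
    intro C D C' D' hCD hCD'
    have hne : ∀ X Y : G ⧸ H, X ≠ Y → ∀ g : G, g • (C, C) ≠ (X, Y) := fun X Y hXY g e =>
      hXY ((congrArg Prod.fst e).symm.trans (congrArg Prod.snd e))
    obtain ⟨g, hg⟩ := exists_smul_of_two horbΒ (hne C D hCD) (hne C' D' hCD')
    exact ⟨g, congrArg Prod.fst hg, congrArg Prod.snd hg⟩
  have hmem : ∀ C, ∃ p, p ∈ pts C := fun C => Finset.card_pos.1 (by rw [hcardB]; omega)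
  have hnmem : ∀ C, ∃ p, p ∉ pts C := fun C => by
    by_contra hall
    push Not at hall
    have h1 := hcardB C
    rw [Finset.eq_univ_iff_forall.2 hall, Finset.card_univ] at h1
    omega
  have hinc : ∀ (g : G) (p q : Ω) (C : G ⧸ H), g • (p, C) = (q, C) →
      (q ∈ pts C ↔ p ∈ pts C) := by
    intro g p q C e
    have h1 : g • p = q := congrArg Prod.fst e
    have h3 : g • C = C := congrArg Prod.snd e
    rw [← h1]
    conv_lhs => rw [← h3]
    exact hsmul g p C
  have hin : ∀ (C : G ⧸ H) (p p' : Ω), p ∈ pts C → p' ∈ pts C →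
      ∃ g : G, g • C = C ∧ g • p = p' := by
    intro C p p' hp hp'
    obtain ⟨q, hq⟩ := hnmem C
    obtain ⟨g, hg⟩ := exists_smul_of_two horbM (a := (q, C)) (b := (p, C)) (c := (p', C))
      (fun g e => hq ((hinc g q p C e).1 hp)) (fun g e => hq ((hinc g q p' C e).1 hp'))
    exact ⟨g, congrArg Prod.snd hg, congrArg Prod.fst hg⟩
  have hout' : ∀ (C : G ⧸ H) (p p' : Ω), p ∉ pts C → p' ∉ pts C →
      ∃ g : G, g • C = C ∧ g • p = p' := by
    intro C p p' hp hp'
    obtain ⟨q, hq⟩ := hmem C
    obtain ⟨g, hg⟩ := exists_smul_of_two horbM (a := (q, C)) (b := (p, C)) (c := (p', C))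
      (fun g e => hp ((hinc g q p C e).2 hq)) (fun g e => hp' ((hinc g q p' C e).2 hq))
    exact ⟨g, congrArg Prod.snd hg, congrArg Prod.fst hg⟩
  -- the axial groups
  obtain ⟨r, hr, hrA⟩ := Nat.exists_prime_and_dvd (n := Nat.card A)
    (by rwa [Ne, Subgroup.card_eq_one])
  let T₀ : Subgroup G :=
    { carrier := {x | x ∈ A ∧ x ^ r = 1}
      one_mem' := ⟨one_mem A, one_pow r⟩
      mul_mem' := fun {x y} hx hy => ⟨mul_mem hx.1 hy.1, by
        rw [Commute.mul_pow (hAcomm x hx.1 y hy.1), hx.2, hy.2, one_mul]⟩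
      inv_mem' := fun {x} hx => ⟨inv_mem hx.1, by rw [inv_pow, hx.2, inv_one]⟩ }
  have hT₀ : ∀ x, x ∈ T₀ ↔ x ∈ A ∧ x ^ r = 1 := fun _ => Iff.rfl
  have hT₀norm : ∀ h ∈ H, ∀ x, h * x * h⁻¹ ∈ T₀ ↔ x ∈ T₀ := by
    have hone : ∀ h ∈ H, ∀ x ∈ T₀, h * x * h⁻¹ ∈ T₀ := fun h hh x hx =>
      ⟨hAnorm h hh x hx.1, by rw [conj_pow, hx.2, mul_one, mul_inv_cancel]⟩
    refine fun h hh x => ⟨fun hx => ?_, hone h hh x⟩
    have := hone h⁻¹ (inv_mem hh) _ hx
    rwa [inv_inv, show h⁻¹ * (h * x * h⁻¹) * h = x by group] at this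
  let T : G ⧸ H → Subgroup G := fun C => T₀.comap (MulAut.conj C.out⁻¹).toMonoidHom
  have hT : ∀ (g x : G), x ∈ T (QuotientGroup.mk g) ↔ g⁻¹ * x * g ∈ T₀ := by
    intro g x
    obtain ⟨h, hh, he⟩ := hout g
    simp only [T, Subgroup.mem_comap, MulEquiv.coe_toMonoidHom, MulAut.conj_apply, he, inv_inv]
    rw [← hT₀norm h hh ((g * h)⁻¹ * x * (g * h))]
    rw [show h * ((g * h)⁻¹ * x * (g * h)) * h⁻¹ = g⁻¹ * x * g by group]
  obtain ⟨⟨t, htA⟩, ht⟩ : ∃ x : A, orderOf x = r :=
    haveI := Fact.mk hr; exists_prime_orderOf_dvd_card' r hrA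
  have htne : t ≠ 1 := by
    intro e
    subst e
    exact hr.one_lt.ne (by rw [← ht]; exact orderOf_one.symm)
  have htT₀ : t ∈ T₀ := ⟨htA, by
    rw [← ht]
    exact congrArg Subtype.val (pow_orderOf_eq_one (⟨t, htA⟩ : A))⟩
  refine ⟨G ⧸ H, inferInstance, inferInstance, inferInstance, ⟨
    { pts := pts, k := k, lam := lam, two_le := htwo, kv := hkv2, card_eq := hcard,
      card_pts := hcardB, card_star := fun p => ?_, pair_pts := fun p q hpq => ?_,
      pair_blk := d.pair_blk, smul_pts := hsmul,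
      faithful := fun g hg => eq_of_smul_eq_smul (α := Ω) fun p => by rw [hg p, one_smul],
      two_blk := htwoblk, trans_in := hin, trans_out := hout', r := r, prime := hr, T := T,
      conj_mem := ?_, comm := ?_, pow_eq := ?_, fixes := ?_, ne_bot := ?_ }⟩⟩
  · exact hstar p
  · exact hpair p q hpq
  · intro g C x hx
    induction C using QuotientGroup.induction_on with
    | H y =>
      rw [MulAction.Quotient.smul_mk, smul_eq_mul, hT]
      rw [hT] at hx
      rwa [show (g * y)⁻¹ * (g * x * g⁻¹) * (g * y) = y⁻¹ * x * y by group]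
  · intro C x hx y hy
    induction C using QuotientGroup.induction_on with
    | H g =>
      rw [hT] at hx hy
      have h1 := hAcomm _ hx.1 _ hy.1
      calc x * y = g * ((g⁻¹ * x * g) * (g⁻¹ * y * g)) * g⁻¹ := by group
        _ = g * ((g⁻¹ * y * g) * (g⁻¹ * x * g)) * g⁻¹ := by rw [h1]
        _ = y * x := by group
  · intro C x hx
    induction C using QuotientGroup.induction_on with
    | H g =>
      rw [hT] at hx
      have h1 := hx.2
      rw [show g⁻¹ * x * g = g⁻¹ * x * g⁻¹⁻¹ by rw [inv_inv], conj_pow, inv_inv] at h1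
      calc x ^ r = g * (g⁻¹ * x ^ r * g) * g⁻¹ := by group
        _ = 1 := by rw [h1]; group
  · intro C x hx p hp
    induction C using QuotientGroup.induction_on with
    | H g =>
      rw [hT] at hx
      rw [hptsmk] at hp
      obtain ⟨h, hh, he⟩ := (hB _).1 hp
      have h1 : (h⁻¹ * (g⁻¹ * x * g) * h) • a = a := by
        refine ha _ ?_
        have := hAnorm h⁻¹ (inv_mem hh) _ hx.1
        rwa [inv_inv] at this
      have h3 : p = (g * h) • a := by rw [mul_smul, he, smul_inv_smul]
      rw [h3, ← mul_smul, show x * (g * h) = (g * h) * (h⁻¹ * (g⁻¹ * x * g) * h) by group,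
        mul_smul (g * h), h1]
  · intro C e
    induction C using QuotientGroup.induction_on with
    | H g =>
      refine htne ?_
      have h1 : g * t * g⁻¹ ∈ T (QuotientGroup.mk g) := (hT _ _).2 (by
        rwa [show g⁻¹ * (g * t * g⁻¹) * g = t by group])
      rw [e, Subgroup.mem_bot] at h1
      exact conj_eq_one_iff.1 h1

end Cfsg.Agent.Lib.AxialDesign74
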