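import Cfsg.Agent.Lib.AxialDesign74.Pre
import Cfsg.Agent.Lib.AxialDesign74.Cen
import Cfsg.Agent.Lib.AxialDesign74.Setup
import Cfsg.Agent.Lib.AxialDesign74.Field

/-!
Assembly: a subgroup of the degree as index with an abelian normal subgroup fixing a point gives a
projective special linear group.
-/

set_option autoImplicit false

namespace Cfsg.Agent.Lib.AxialDesign74

open Finset MulAction

universe u v w

variable {G : Type u} {Ω : Type v} {Β : Type w} [Group G] [Fintype Ω] [Fintype Β] [DecidableEq Ω]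
  [DecidableEq Β] [MulAction G Ω] [MulAction G Β]

namespace Ax

variable (d : Ax G Ω Β)

theorem point_eq_of_star {c c' : Ω} (h : ∀ D : Β, c ∈ d.pts D → c' ∈ d.pts D) : c = c' := by
  by_contra hne
  have h1 : (univ.filter fun D : Β => c ∈ d.pts D) ⊆
      univ.filter fun D : Β => c ∈ d.pts D ∧ c' ∈ d.pts D := fun D hD => by
    have := (Finset.mem_filter.1 hD).2
    exact Finset.mem_filter.2 ⟨mem_univ _, this, h D this⟩
  have h2 := Finset.card_le_card h1
  rw [d.card_star, d.pair_pts c c' hne] at h2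
  have := d.two_le
  omega

variable {d}

theorem Cen.inE_iff (k : d.Cen) {C : Β} {c : Ω} {x : G} (hx : d.InE C c x) (hx1 : x ≠ 1) (D : Β) :
    x • D = D ↔ c ∈ d.pts D := by
  obtain ⟨c₀, -, hc₀⟩ := k.centre C x hx.1 hx1
  rw [hc₀, d.point_eq_of_star fun E hE => (hc₀ E).1 (hx.2 E hE)]

/-- The group of elations with a given centre. -/
def ES (d : Ax G Ω Β) (C : Β) (c : {c : Ω // c ∈ d.pts C}) : AddSubgroup (d.TV C) where
  carrier := {v | d.InE C c.1 (Additive.toMul v : d.T C)}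
  zero_mem' := ⟨one_mem _, fun D _ => one_smul G D⟩
  add_mem' := fun {a b} ha hb => ⟨(Additive.toMul (a + b) : d.T C).2, fun D hD => by
    show ((Additive.toMul a : d.T C).1 * (Additive.toMul b : d.T C).1) • D = D
    rw [mul_smul, hb.2 D hD, ha.2 D hD]⟩
  neg_mem' := fun {a} ha => ⟨(Additive.toMul (-a) : d.T C).2, fun D hD => by
    show (Additive.toMul a : d.T C).1⁻¹ • D = D
    rw [inv_smul_eq_iff, ha.2 D hD]⟩

/-- The stabiliser of a second block. -/
def XH (d : Ax G Ω Β) (C : Β) (D : {D : Β // D ≠ C}) : AddSubgroup (d.TV C) where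
  carrier := {v | (Additive.toMul v : d.T C).1 • D.1 = D.1}
  zero_mem' := one_smul G D.1
  add_mem' := fun {a b} (ha : _ = _) (hb : _ = _) => by
    show ((Additive.toMul a : d.T C).1 * (Additive.toMul b : d.T C).1) • D.1 = D.1
    rw [mul_smul, hb, ha]
  neg_mem' := fun {a} (ha : _ = _) => by
    show (Additive.toMul a : d.T C).1⁻¹ • D.1 = D.1
    rw [inv_smul_eq_iff, ha]

theorem mem_ES {C : Β} {c : {c : Ω // c ∈ d.pts C}} {v : d.TV C} :
    v ∈ d.ES C c ↔ d.InE C c.1 (Additive.toMul v : d.T C) := Iff.rfl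

theorem mem_XH {C : Β} {D : {D : Β // D ≠ C}} {v : d.TV C} :
    v ∈ d.XH C D ↔ (Additive.toMul v : d.T C).1 • D.1 = D.1 := Iff.rfl

theorem toMul_ne_one {C : Β} {v : d.TV C} (hv : v ≠ 0) :
    (Additive.toMul v : d.T C).1 ≠ 1 := fun h =>
  hv (Additive.toMul.injective (Subtype.ext h))

theorem Cen.card_ES (k : d.Cen) (C : Β) (c : {c : Ω // c ∈ d.pts C}) :
    Nat.card (d.ES C c) = k.q := by
  rw [← k.card_E C c.1 c.2]
  exact Nat.card_congr
    { toFun := fun v => ⟨(Additive.toMul v.1 : d.T C).1, v.2⟩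
      invFun := fun x => ⟨Additive.ofMul (⟨x.1, x.2.1⟩ : d.T C), x.2⟩
      left_inv := fun _ => rfl
      right_inv := fun _ => rfl }

theorem card_XH (C : Β) (D : {D : Β // D ≠ C}) :
    Nat.card (d.XH C D) = Nat.card {x : G // x ∈ d.T C ∧ x • D.1 = D.1} :=
  Nat.card_congr
    { toFun := fun v => ⟨(Additive.toMul v.1 : d.T C).1, (Additive.toMul v.1 : d.T C).2, v.2⟩
      invFun := fun x => ⟨Additive.ofMul (⟨x.1, x.2.1⟩ : d.T C), x.2.2⟩
      left_inv := fun _ => rfl
      right_inv := fun _ => rfl }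

theorem Cen.ES_le_XH (k : d.Cen) {C : Β} {c : {c : Ω // c ∈ d.pts C}} {D : {D : Β // D ≠ C}} :
    d.ES C c ≤ d.XH C D ↔ c.1 ∈ d.pts D.1 := by
  constructor
  · intro h
    obtain ⟨v, hv, hv0⟩ := (AddSubgroup.bot_or_exists_ne_zero (d.ES C c)).resolve_left (fun e => by
      have := k.card_ES C c
      rw [e, AddSubgroup.card_bot] at this
      have := k.two_le_q
      omega)
    exact (k.inE_iff hv (d.toMul_ne_one hv0) D.1).1 (h hv)
  · intro h v hv
    exact hv.2 D.1 h

/-- The shear system of a block. -/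
theorem Cen.shearSys [Finite G] (k : d.Cen) (C : Β) :
    ShearSys d.r k.q (d.ES C) (d.XH C) where
  prime := d.prime
  char v := Additive.toMul.injective (Subtype.ext (by
    show ((Additive.toMul v : d.T C) ^ d.r : d.T C).1 = 1
    rw [Subgroup.coe_pow, d.pow_eq C _ (Additive.toMul v : d.T C).2]))
  two_le := k.two_le_q
  card_E := k.card_ES C
  cover v hv := by
    obtain ⟨c, hc, hcD⟩ := k.centre C _ (Additive.toMul v : d.T C).2 (d.toMul_ne_one hv)
    refine ⟨⟨c, hc⟩, ⟨(Additive.toMul v : d.T C).2, fun D hD => (hcD D).2 hD⟩, fun c' hc' => ?_⟩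
    exact Subtype.ext (d.point_eq_of_star fun D hD => (hcD D).1 (hc'.2 D hD))
  index_X D := by
    have h1 := (d.XH C D).card_mul_index
    rw [card_XH, show Nat.card (d.TV C) = Nat.card (d.T C) from rfl, ← k.card_X C D.1 D.2.symm]
      at h1
    refine Nat.eq_of_mul_eq_mul_left ?_ h1
    have := k.q_le C D.1 D.2.symm
    have := k.two_le_q
    omega
  X_ne_bot D h := by
    have h1 := card_XH (d := d) C D
    rw [h, AddSubgroup.card_bot] at h1
    have := k.q_le C D.1 D.2.symm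
    have := k.two_le_q
    omega
  union D c v hv hv0 hvX := k.ES_le_XH.2 ((k.inE_iff hv (d.toMul_ne_one hv0) D.1).1 hvX)
  pair i j hij := by
    by_contra hall
    push Not at hall
    refine hij (Subtype.ext (d.point_eq_of_star fun D hD => ?_))
    by_cases hDC : D = C
    · exact hDC ▸ j.2
    · exact k.ES_le_XH.1 (hall ⟨D, hDC⟩ ((k.ES_le_XH (D := ⟨D, hDC⟩)).2 hD))
  three D i₀ i₁ i₂ h1 h2 h0 h12 := by
    rw [k.ES_le_XH] at h1 h2 h0
    by_contra hall
    push Not at hall
    have h02 : i₀.1 ≠ i₂.1 := fun e => h0 (e ▸ h2)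
    have h12' : i₁.1 ≠ i₂.1 := fun e => h12 (Subtype.ext e)
    let S : Ω → Ω → Finset Β := fun a b => univ.filter fun E => a ∈ d.pts E ∧ b ∈ d.pts E
    have hsub : S i₀.1 i₂.1 ⊆ S i₁.1 i₂.1 := by
      intro E hE
      obtain ⟨-, hE0, hE2⟩ := Finset.mem_filter.1 hE
      refine Finset.mem_filter.2 ⟨mem_univ _, ?_, hE2⟩
      by_cases hEC : E = C
      · exact hEC ▸ i₁.2
      · exact k.ES_le_XH.1 (hall ⟨E, hEC⟩ (k.ES_le_XH.2 hE0) (k.ES_le_XH.2 hE2))
    have heq := Finset.eq_of_subset_of_card_le hsub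
      (by rw [d.pair_pts _ _ h02, d.pair_pts _ _ h12'])
    have hD : D.1 ∈ S i₁.1 i₂.1 := Finset.mem_filter.2 ⟨mem_univ _, h1, h2⟩
    rw [← heq] at hD
    exact h0 (Finset.mem_filter.1 hD).2.1
  nonempty := by
    obtain ⟨D, hD⟩ := d.exists_ne_blk C
    exact ⟨⟨D, hD⟩⟩
  shear D u x hu hx := by
    obtain ⟨y, hy, hyC, hyx⟩ := k.exists_shear C D.1 D.2.symm (Additive.toMul u : d.T C).1
      (Additive.toMul u : d.T C).2 hu (Additive.toMul x : d.T C).1 (Additive.toMul x : d.T C).2 hx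
    refine ⟨MonoidHom.toAdditive (d.shearHom C y hyC), fun v hv => ?_, fun v => ?_,
      fun i hxi v => ?_, fun i => ?_, ?_⟩
    · refine Additive.toMul.injective (Subtype.ext ?_)
      show y * (Additive.toMul v : d.T C).1 * y⁻¹ * (Additive.toMul v : d.T C).1⁻¹ = 1
      rw [← d.commute' D.2.symm (Additive.toMul v : d.T C).2 hv hy hyC]
      group
    · exact k.shear_fixes C D.1 D.2.symm y hy hyC _ (Additive.toMul v : d.T C).2 D.1
        (d.smul_axis hy)
    · by_cases hy1 : y = 1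
      · subst hy1
        refine ⟨(Additive.toMul (MonoidHom.toAdditive (d.shearHom C 1 hyC) v) : d.T C).2,
          fun E _ => ?_⟩
        show (1 * (Additive.toMul v : d.T C).1 * 1⁻¹ * (Additive.toMul v : d.T C).1⁻¹) • E = E
        simp
      · refine ⟨(Additive.toMul (MonoidHom.toAdditive (d.shearHom C y hyC) v) : d.T C).2,
          fun E hE => ?_⟩
        refine k.shear_fixes C D.1 D.2.symm y hy hyC _ (Additive.toMul v : d.T C).2 E ?_
        obtain ⟨c, -, hc⟩ := k.centre D.1 y hy hy1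
        have hx1 : (Additive.toMul x : d.T C).1 ≠ 1 := fun h => hu (d.smul_eq_of_commute hy hy1 (by
          calc (Additive.toMul u : d.T C).1 * y
              = (y * (Additive.toMul u : d.T C).1 * y⁻¹ * (Additive.toMul u : d.T C).1⁻¹) *
                ((Additive.toMul u : d.T C).1 * y) := by rw [hyx, h, one_mul]
            _ = y * (Additive.toMul u : d.T C).1 := by group))
        have hci : c = i.1 := by
          refine d.point_eq_of_star fun F hF => (k.inE_iff hxi hx1 F).1 ?_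
          rw [← hyx]
          exact k.shear_fixes C D.1 D.2.symm y hy hyC _ (Additive.toMul u : d.T C).2 F
            ((hc F).2 hF)
        exact (hc E).2 (hci ▸ hE)
    · refine ⟨⟨y • i.1, (d.pts_smul hyC i.1).2 i.2⟩, fun v hv => ?_⟩
      have hval : (Additive.toMul (v + MonoidHom.toAdditive (d.shearHom C y hyC) v) : d.T C).1
          = y * (Additive.toMul v : d.T C).1 * y⁻¹ := by
        show (Additive.toMul v : d.T C).1 *
          (y * (Additive.toMul v : d.T C).1 * y⁻¹ * (Additive.toMul v : d.T C).1⁻¹) = _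
        rw [d.comm C _ (Additive.toMul v : d.T C).2 _
          (mul_mem (d.mem_T_of_smul hyC (Additive.toMul v : d.T C).2)
            (inv_mem (Additive.toMul v : d.T C).2))]
        group
      refine ⟨(Additive.toMul _ : d.T C).2, fun E hE => ?_⟩
      rw [hval, mul_smul, mul_smul]
      have hE' : i.1 ∈ d.pts (y⁻¹ • E) := by
        rwa [← d.smul_pts y, smul_inv_smul]
      rw [hv.2 _ hE', smul_inv_smul]
    · exact Additive.toMul.injective (Subtype.ext hyx)

end Ax

/-- The engine of S3705 and S3706. -/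
theorem concl_of_abelian (hF : ONan64.FieldStmt.{u, v}) (hP : ProjBrick.{u, v, u})
    {G : Type u} {Ω : Type v} [Group G] [Finite G] [MulAction G Ω] [FaithfulSMul G Ω] [Finite Ω]
    (h2 : MulAction.IsMultiplyPretransitive G Ω 2) (H : Subgroup G) (hidx : H.index = Nat.card Ω)
    (hnt : ¬ MulAction.IsPretransitive H Ω) (hfix : ∀ a : Ω, ∃ h : H, h • a ≠ a)
    (A : Subgroup G) (hAH : A ≤ H) (hA : A ≠ ⊥) (hAn : ∀ h ∈ H, ∀ x ∈ A, h * x * h⁻¹ ∈ A)
    (hAc : ∀ x ∈ A, ∀ y ∈ A, x * y = y * x) (a : Ω) (hAa : ∀ x ∈ A, x • a = a) :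
    Concl G Ω := by
  classical
  have := Fintype.ofFinite Ω
  obtain ⟨Β, iF, iD, iA, ⟨d⟩⟩ :=
    setup G Ω h2 H hidx hnt hfix A hAH hA hAn hAc a hAa
  obtain ⟨P⟩ := preBrick G Ω Β d
  obtain ⟨k⟩ := cen G Ω Β d P
  obtain ⟨C₀, -, -⟩ := d.exists_blk_pair
  obtain ⟨F, i1, i2, i3, hcard, hmem⟩ :=
    (field.{u, v, u} hF) (d.TV C₀) {c : Ω // c ∈ d.pts C₀} {D : Β // D ≠ C₀} d.r k.q (d.ES C₀)
      (d.XH C₀) (k.shearSys C₀)
  exact hP G Ω Β d k C₀ F hcard fun f c x hc hx => hmem f ⟨c, hc⟩ x hx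

end Cfsg.Agent.Lib.AxialDesign74
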