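import Cfsg.Agent.Lib.AxialDesign74.Spec2
import Cfsg.Agent.Lib.LinGroup.Generation

/-!
The permutations of a projective space induced by transvections generate the projective special
linear group.
-/

set_option autoImplicit false

namespace Cfsg.Agent.Lib.AxialDesign74

open Matrix

universe u

variable {F : Type} [Field F] {V : Type u} [AddCommGroup V] [Module F V]

/-- The bijection of projective spaces given by coordinates. -/
noncomputable def projCoord {ι : Type} (e : V ≃ₗ[F] (ι → F)) :
    Projectivization F V ≃ Projectivization F (ι → F) :=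
  Equiv.ofBijective (Projectivization.map e.toLinearMap e.injective)
    ⟨Projectivization.map_injective _ _, fun y => by
      induction y using Projectivization.ind with | _ w hw =>
      exact ⟨Projectivization.mk F (e.symm w) (by simpa using hw), by
        simp [Projectivization.map_mk]⟩⟩

theorem projCoord_mk {ι : Type} (e : V ≃ₗ[F] (ι → F)) (x : V) (hx : x ≠ 0) :
    projCoord e (Projectivization.mk F x hx) =
      Projectivization.mk F (e x) (by simpa using hx) := rfl

/-- Transport of permutations along coordinates. -/
noncomputable def permCoord {ι : Type} (e : V ≃ₗ[F] (ι → F)) :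
    Equiv.Perm (Projectivization F V) ≃* Equiv.Perm (Projectivization F (ι → F)) :=
  (projCoord e).permCongrHom

theorem permCoord_apply {ι : Type} (e : V ≃ₗ[F] (ι → F)) (σ : Equiv.Perm (Projectivization F V))
    (y : Projectivization F (ι → F)) :
    permCoord e σ y = projCoord e (σ ((projCoord e).symm y)) := rfl

variable {ι : Type} [Fintype ι] [DecidableEq ι]

theorem psl_mk_smul (g : SpecialLinearGroup ι F) (y : Projectivization F (ι → F)) :
    Projectivization.PSLAction.toPermHom (g : ProjectiveSpecialLinearGroup ι F) y = g • y := rfl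

theorem sl_smul_mk (g : SpecialLinearGroup ι F) (w : ι → F) (hw : w ≠ 0)
    (h : (g : Matrix ι ι F) *ᵥ w ≠ 0) :
    g • Projectivization.mk F w hw = Projectivization.mk F ((g : Matrix ι ι F) *ᵥ w) h := rfl

theorem transv_mem_range (e : V ≃ₗ[F] (ι → F)) {σ : Equiv.Perm (Projectivization F V)}
    (hσ : σ ∈ transvPerms F V) :
    permCoord e σ ∈ (Projectivization.PSLAction.toPermHom (K := F) (ι := ι)).range := by
  obtain ⟨f, w, hfw, hx⟩ := hσ
  let a : ι → F := fun i => f (e.symm (Pi.single i 1))
  have ha : ∀ y : ι → F, f (e.symm y) = a ⬝ᵥ y := by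
    intro y
    conv_lhs => rw [pi_eq_sum_univ' y]
    simp [dotProduct, a, map_sum, mul_comm]
  have hdet : (1 + Matrix.replicateCol Unit (e w) * Matrix.replicateRow Unit a).det = 1 := by
    rw [Matrix.det_one_add_replicateCol_mul_replicateRow, ← ha, e.symm_apply_apply, hfw, add_zero]
  let g : SpecialLinearGroup ι F := ⟨_, hdet⟩
  have hg : ∀ y : ι → F, (g : Matrix ι ι F) *ᵥ y = y + (a ⬝ᵥ y) • e w := by
    intro y
    show (1 + Matrix.replicateCol Unit (e w) * Matrix.replicateRow Unit a) *ᵥ y = _
    rw [Matrix.add_mulVec, Matrix.one_mulVec]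
    ext i
    simp [Matrix.mulVec, dotProduct, Matrix.mul_apply, Finset.sum_mul, mul_comm, mul_left_comm]
  refine ⟨(g : ProjectiveSpecialLinearGroup ι F), Equiv.ext fun y => ?_⟩
  obtain ⟨p, rfl⟩ := (projCoord e).surjective y
  induction p using Projectivization.ind with | _ x hx0 =>
  obtain ⟨h, hσx⟩ := hx x hx0
  have hne : (g : Matrix ι ι F) *ᵥ e x ≠ 0 := by
    rw [hg, ← ha, e.symm_apply_apply, ← map_smul, ← map_add]
    exact fun h0 => h (e.injective (h0.trans (map_zero e).symm))
  rw [psl_mk_smul, permCoord_apply, Equiv.symm_apply_apply, hσx, projCoord_mk, projCoord_mk,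
    sl_smul_mk g _ _ hne]
  congr 1
  rw [hg, ← ha, e.symm_apply_apply, map_add, map_smul]

theorem elem_mem_map (e : V ≃ₗ[F] (ι → F)) (i j : ι) (hij : i ≠ j) (c : F) :
    Projectivization.PSLAction.toPermHom
        ((SpecialLinearGroup.transvection hij c : SpecialLinearGroup ι F) :
          ProjectiveSpecialLinearGroup ι F) ∈
      (Subgroup.closure (transvPerms F V)).map (permCoord e).toMonoidHom := by
  set g : SpecialLinearGroup ι F := SpecialLinearGroup.transvection hij c with hgdef
  have hg : ∀ y : ι → F, (g : Matrix ι ι F) *ᵥ y = y + y j • (Pi.single i c : ι → F) := by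
    intro y
    ext k
    rw [hgdef, LinGroup.coe_transvection, LinGroup.transvection_mulVec_apply]
    by_cases hk : k = i
    · subst hk
      simp [mul_comm]
    · simp [hk]
  set σ : Equiv.Perm (Projectivization F V) :=
    (permCoord e).symm (Projectivization.PSLAction.toPermHom (g : ProjectiveSpecialLinearGroup ι F))
    with hσdef
  have hmem : σ ∈ transvPerms F V := by
    refine ⟨(LinearMap.proj j).comp e.toLinearMap, e.symm (Pi.single i c), ?_, fun x hx0 => ?_⟩
    · simp [hij.symm]
    have hex : e x ≠ 0 := by simpa using hx0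
    have hne : (g : Matrix ι ι F) *ᵥ e x ≠ 0 := fun h0 => hex <| by
      have h1 := congrArg (fun z => ((g⁻¹ : SpecialLinearGroup ι F) : Matrix ι ι F) *ᵥ z) h0
      simpa [Matrix.mulVec_mulVec, Matrix.adjugate_mul, g.prop] using h1
    have key : e (x + e x j • e.symm (Pi.single i c)) = (g : Matrix ι ι F) *ᵥ e x := by
      rw [hg, map_add, map_smul, e.apply_symm_apply]
    have hne' : x + e x j • e.symm (Pi.single i c) ≠ 0 := fun h0 => hne (by rw [← key, h0, map_zero])
    refine ⟨hne', (projCoord e).injective ?_⟩
    have h1 : projCoord e (σ (Projectivization.mk F x hx0)) =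
        g • Projectivization.mk F (e x) hex := by
      rw [← psl_mk_smul, ← (permCoord e).apply_symm_apply
        (Projectivization.PSLAction.toPermHom (g : ProjectiveSpecialLinearGroup ι F)), ← hσdef,
        permCoord_apply, ← projCoord_mk e x hx0, Equiv.symm_apply_apply]
    rw [h1, sl_smul_mk g _ hex hne]
    refine Eq.trans ?_ (projCoord_mk e _ hne').symm
    congr 1
    exact key.symm
  exact ⟨σ, Subgroup.subset_closure hmem, (permCoord e).apply_symm_apply _⟩

theorem map_closure_transvPerms (e : V ≃ₗ[F] (ι → F)) :
    (Subgroup.closure (transvPerms F V)).map (permCoord e).toMonoidHom =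
      (Projectivization.PSLAction.toPermHom (K := F) (ι := ι)).range := by
  apply le_antisymm
  · rw [Subgroup.map_le_iff_le_comap, Subgroup.closure_le]
    exact fun σ hσ => transv_mem_range e hσ
  · rw [MonoidHom.range_eq_map, ← Subgroup.map_top_of_surjective
      (QuotientGroup.mk' (Subgroup.center (SpecialLinearGroup ι F))) (QuotientGroup.mk'_surjective _),
      ← LinGroup.closure_transvections_eq_top, MonoidHom.map_closure, MonoidHom.map_closure,
      Subgroup.closure_le]
    rintro _ ⟨_, ⟨_, ⟨i, j, hij, c, rfl⟩, rfl⟩, rfl⟩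
    exact elem_mem_map e i j hij c

/-- Transvections generate the projective special linear group. -/
theorem psl : PSLBrick.{u} := by
  intro F _ _ V _ _ _ m _ hrank
  have e : V ≃ₗ[F] (Fin (m + 1) → F) := LinearEquiv.ofFinrankEq _ _ (by simp [hrank])
  exact ⟨((permCoord e).subgroupMap (Subgroup.closure (transvPerms F V))).trans
    ((MulEquiv.subgroupCongr (map_closure_transvPerms e)).trans
      (MonoidHom.ofInjective ProjectiveSpecialLinearGroup.toPermHom_injective).symm)⟩

end Cfsg.Agent.Lib.AxialDesign74
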