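import Cfsg.Agent.Lib.AxialDesign74.Spec2

/-!
The first half of the counting: semiregularity, orbit lengths, the classes of blocks with a given
intersection with the axis, and the shears.
-/

set_option autoImplicit false

namespace Cfsg.Agent.Lib.AxialDesign74

open Finset MulAction

universe u v w

variable {G : Type u} {Ω : Type v} {Β : Type w} [Group G] [Fintype Ω] [Fintype Β] [DecidableEq Ω]
  [DecidableEq Β] [MulAction G Ω] [MulAction G Β]

namespace Ax

variable (d : Ax G Ω Β)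

include d in
theorem exists_ne_blk (C : Β) : ∃ D : Β, D ≠ C := by
  refine Fintype.exists_ne_of_one_lt_card ?_ C
  rw [d.card_eq]
  have := d.kv
  omega

include d in
theorem exists_blk_pair : ∃ C D : Β, C ≠ D := by
  have h := d.kv
  have hne : Nonempty Β := Fintype.card_pos_iff.1 (by rw [d.card_eq]; omega)
  obtain ⟨C⟩ := hne
  obtain ⟨D, hD⟩ := d.exists_ne_blk C
  exact ⟨C, D, hD.symm⟩

include d in
theorem blk_trans (C C' : Β) : ∃ g : G, g • C = C' := by
  obtain ⟨D, hD⟩ := d.exists_ne_blk C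
  obtain ⟨D', hD'⟩ := d.exists_ne_blk C'
  obtain ⟨g, hg, -⟩ := d.two_blk C D C' D' hD.symm hD'.symm
  exact ⟨g, hg⟩

theorem pts_smul {g : G} {C : Β} (hg : g • C = C) (p : Ω) : g • p ∈ d.pts C ↔ p ∈ d.pts C := by
  have := d.smul_pts g p C
  rwa [hg] at this

theorem smul_axis {x : G} {C : Β} (hx : x ∈ d.T C) : x • C = C :=
  d.axis_fixed (d.isAut x) (fun p hp => d.fixes C x hx p hp)

theorem mem_T_of_smul {g : G} {C : Β} (hg : g • C = C) {x : G} (hx : x ∈ d.T C) :
    g * x * g⁻¹ ∈ d.T C := by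
  have := d.conj_mem g C x hx
  rwa [hg] at this

include d in
theorem toPerm_ne_one {x : G} (hx : x ≠ 1) : (toPerm x : Equiv.Perm Ω) ≠ 1 := fun h =>
  hx (d.faithful x fun p => by
    have := congrArg (fun σ : Equiv.Perm Ω => σ p) h
    simpa using this)

/-- The axial group is semiregular off its axis. -/
theorem free' {C : Β} {x : G} (hx : x ∈ d.T C) (hx1 : x ≠ 1) {p : Ω} (hp : p ∉ d.pts C) :
    x • p ≠ p := by
  intro hxp
  have key : ∀ t ∈ d.T C, t • p = p := by
    intro t ht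
    refine d.fix_out_unique (d.isAut x) (d.toPerm_ne_one hx1) (fun q hq => d.fixes C x hx q hq)
      ?_ ?_ hp hxp
    · exact fun h => hp ((d.pts_smul (d.smul_axis ht) p).1 h)
    · show x • t • p = t • p
      rw [← mul_smul, d.comm C x hx t ht, mul_smul, hxp]
  refine hx1 (d.faithful x fun p' => ?_)
  by_cases hp' : p' ∈ d.pts C
  · exact d.fixes C x hx p' hp'
  · obtain ⟨g, hgC, rfl⟩ := d.trans_out C p p' hp hp'
    have h := key _ (d.mem_T_of_smul (inv_smul_eq_iff.2 hgC.symm) hx)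
    rw [inv_inv, mul_smul, mul_smul, inv_smul_eq_iff] at h
    exact h

theorem fix_points {C : Β} {x : G} (hx : x ∈ d.T C) (hx1 : x ≠ 1) (p : Ω) :
    x • p = p ↔ p ∈ d.pts C :=
  ⟨fun h => by by_contra hp; exact d.free' hx hx1 hp h, fun h => d.fixes C x hx p h⟩

theorem card_fix' {C : Β} {x : G} (hx : x ∈ d.T C) (hx1 : x ≠ 1) :
    (univ.filter fun E : Β => x • E = E).card = d.k := by
  have h : (univ.filter fun p : Ω => x • p = p) = d.pts C := by
    ext p
    simp [d.fix_points hx hx1 p]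
  rw [← d.card_pts C, ← h]
  exact (d.fix_eq (d.isAut x)).symm

theorem eq_one_of_two_axes {C D : Β} (hCD : C ≠ D) {x : G} (hC : x ∈ d.T C) (hD : x ∈ d.T D) :
    x = 1 := by
  by_contra h1
  obtain ⟨p, hpD, hpC⟩ : ∃ p, p ∈ d.pts D ∧ p ∉ d.pts C := by
    by_contra h
    push Not at h
    refine hCD (d.pts_inj ?_).symm
    exact Finset.eq_of_subset_of_card_le h (by rw [d.card_pts, d.card_pts])
  exact d.free' hC h1 hpC (d.fixes D x hD p hpD)

/-- The stabiliser of `D` in the axial group of `C`. -/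
def XS (C D : Β) : Subgroup G := d.T C ⊓ stabilizer G D

theorem mem_XS {C D : Β} {x : G} : x ∈ d.XS C D ↔ x ∈ d.T C ∧ x • D = D := Iff.rfl

theorem card_XS_subtype (C D : Β) :
    Nat.card {x : G // x ∈ d.T C ∧ x • D = D} = Nat.card (d.XS C D) :=
  Nat.card_congr (Equiv.subtypeEquivRight fun _ => Iff.rfl)

theorem mem_T_iff (g : G) (C : Β) (x : G) : g * x * g⁻¹ ∈ d.T (g • C) ↔ x ∈ d.T C := by
  refine ⟨fun h => ?_, d.conj_mem g C x⟩
  have := d.conj_mem g⁻¹ _ _ h
  rwa [inv_smul_smul, show g⁻¹ * (g * x * g⁻¹) * g⁻¹⁻¹ = x by group] at this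

theorem card_XS_eq {C D C' D' : Β} (h : C ≠ D) (h' : C' ≠ D') :
    Nat.card (d.XS C D) = Nat.card (d.XS C' D') := by
  obtain ⟨g, rfl, rfl⟩ := d.two_blk C D C' D' h h'
  refine Nat.card_congr ((MulAut.conj g).toEquiv.subtypeEquiv fun x => ?_)
  show x ∈ d.XS C D ↔ g * x * g⁻¹ ∈ d.XS (g • C) (g • D)
  rw [mem_XS, mem_XS, d.mem_T_iff, mul_smul, mul_smul, inv_smul_smul, smul_left_cancel_iff]

theorem card_T_eq (C C' : Β) : Nat.card (d.T C) = Nat.card (d.T C') := by
  obtain ⟨g, rfl⟩ := d.blk_trans C C'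
  refine Nat.card_congr ((MulAut.conj g).toEquiv.subtypeEquiv fun x => ?_)
  exact (d.mem_T_iff g C x).symm

theorem card_stab (C D : Β) : Nat.card (stabilizer (d.T C) D) = Nat.card (d.XS C D) :=
  Nat.card_congr
    { toFun := fun x => ⟨x.1.1, x.1.2, x.2⟩
      invFun := fun x => ⟨⟨x.1, x.2.1⟩, x.2.2⟩
      left_inv := fun _ => rfl
      right_inv := fun _ => rfl }

/-- The orbit of a block under the axial group of another one. -/
noncomputable def orb [Finite G] (C D : Β) : Finset Β :=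
  have := Fintype.ofFinite (d.T C)
  univ.image fun t : d.T C => (t : G) • D

theorem mem_orb [Finite G] {C D E : Β} : E ∈ d.orb C D ↔ ∃ t ∈ d.T C, t • D = E := by
  unfold orb
  simp

theorem card_orb [Finite G] (C D : Β) :
    (d.orb C D).card * Nat.card (d.XS C D) = Nat.card (d.T C) := by
  have h : (d.orb C D).card = Nat.card (orbit (d.T C) D) := by
    rw [← Nat.card_eq_finsetCard]
    refine Nat.card_congr (Equiv.subtypeEquivRight fun E => ?_)
    rw [d.mem_orb, MulAction.mem_orbit_iff]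
    constructor
    · rintro ⟨t, ht, rfl⟩
      exact ⟨⟨t, ht⟩, rfl⟩
    · rintro ⟨t, rfl⟩
      exact ⟨t.1, t.2, rfl⟩
  rw [h, ← d.card_stab, mul_comm]
  have := index_stabilizer (d.T C) D
  rw [← Nat.card_coe_set_eq] at this
  rw [← this, Subgroup.card_mul_index]

theorem count_sum [Finite G] (C D₀ : Β) (h : C ≠ D₀) :
    Fintype.card Ω + (Nat.card (d.T C) - 1) * d.k =
      Nat.card (d.T C) + (Fintype.card Ω - 1) * Nat.card (d.XS C D₀) := by
  classical
  have := Fintype.ofFinite (d.T C)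
  have hswap : ∑ t : d.T C, (univ.filter fun E : Β => (t : G) • E = E).card
      = ∑ E : Β, (univ.filter fun t : d.T C => (t : G) • E = E).card := by
    simp only [Finset.card_filter]
    exact Finset.sum_comm
  rw [← Finset.add_sum_erase univ _ (mem_univ (1 : d.T C)),
    ← Finset.add_sum_erase univ _ (mem_univ C)] at hswap
  rw [Finset.sum_congr rfl (g := fun _ => d.k) (fun t ht => d.card_fix' t.2
      (fun h1 => (Finset.mem_erase.1 ht).1 (Subtype.ext h1))),
    Finset.sum_congr rfl (s₁ := univ.erase C) (g := fun _ => Nat.card (d.XS C D₀)) (fun E hE => by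
      rw [← d.card_XS_eq (Finset.mem_erase.1 hE).1.symm h, ← d.card_stab, ← Nat.card_eq_finsetCard]
      exact Nat.card_congr (Equiv.subtypeEquivRight fun t => by simp [Subgroup.smul_def]))] at hswap
  simp only [Finset.sum_const, smul_eq_mul, Finset.card_erase_of_mem (mem_univ _),
    Finset.card_univ, d.card_eq, OneMemClass.coe_one, one_smul, Finset.filter_true] at hswap
  rw [Finset.filter_true_of_mem (s := (univ : Finset (d.T C))) fun t _ => d.smul_axis t.2,
    Finset.card_univ] at hswap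
  rw [Nat.card_eq_fintype_card]
  exact hswap

theorem dvd_off [Finite G] (C : Β) : ∃ m, Fintype.card Ω = d.k + m * Nat.card (d.T C) := by
  classical
  have := Fintype.ofFinite (d.T C)
  let f : Ω → Finset Ω := fun p => univ.image fun t : d.T C => (t : G) • p
  have hfib : ∀ F ∈ (d.pts C)ᶜ.image f,
      ((d.pts C)ᶜ.filter fun p => f p = F).card = Nat.card (d.T C) := by
    intro F hF
    obtain ⟨p, hp, rfl⟩ := Finset.mem_image.1 hF
    rw [Finset.mem_compl] at hp
    have h1 : ((d.pts C)ᶜ.filter fun p' => f p' = f p) = f p := by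
      ext p'
      simp only [f, Finset.mem_filter, Finset.mem_compl, Finset.mem_image, Finset.mem_univ,
        true_and]
      constructor
      · rintro ⟨-, h⟩
        have hm : p' ∈ univ.image fun t : d.T C => (t : G) • p' :=
          Finset.mem_image.2 ⟨1, Finset.mem_univ _, one_smul G p'⟩
        rw [h] at hm
        obtain ⟨t, -, ht⟩ := Finset.mem_image.1 hm
        exact ⟨t, ht⟩
      · rintro ⟨t, rfl⟩
        refine ⟨fun hh => hp ((d.pts_smul (d.smul_axis t.2) p).1 hh), ?_⟩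
        ext x
        simp only [Finset.mem_image, Finset.mem_univ, true_and]
        constructor
        · rintro ⟨s, rfl⟩
          exact ⟨s * t, by rw [Subgroup.coe_mul, mul_smul]⟩
        · rintro ⟨s, rfl⟩
          exact ⟨s * t⁻¹, by rw [Subgroup.coe_mul, mul_smul, Subgroup.coe_inv, inv_smul_smul]⟩
    rw [h1, Nat.card_eq_fintype_card, ← Finset.card_univ]
    refine Finset.card_image_of_injective _ fun s t hst => ?_
    by_contra hne
    refine d.free' (mul_mem (inv_mem t.2) s.2) (fun h => hne (Subtype.ext ?_)) hp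
      (by rw [mul_smul]; exact inv_smul_eq_iff.2 hst)
    exact (inv_mul_eq_one.1 h).symm
  have h := Finset.card_eq_sum_card_image f (d.pts C)ᶜ
  rw [Finset.sum_congr rfl hfib, Finset.sum_const, smul_eq_mul, Finset.card_compl,
    d.card_pts] at h
  refine ⟨((d.pts C)ᶜ.image f).card, ?_⟩
  have := d.kv
  omega

theorem lam_eq [Nonempty Ω] : d.lam * (Fintype.card Ω - 1) = d.k * (d.k - 1) := by
  classical
  obtain ⟨p⟩ := ‹Nonempty Ω›
  have h : ∑ x ∈ univ.erase p, (univ.filter fun C : Β => p ∈ d.pts C ∧ x ∈ d.pts C).card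
      = ∑ C ∈ univ.filter (fun C : Β => p ∈ d.pts C), ((d.pts C).erase p).card := by
    have hl : ∀ x, (univ.filter fun C : Β => p ∈ d.pts C ∧ x ∈ d.pts C)
        = (univ.filter fun C : Β => p ∈ d.pts C).filter fun C => x ∈ d.pts C := fun x =>
      (Finset.filter_filter _ _ _).symm
    simp only [hl]
    refine Eq.trans (Finset.sum_card_bipartiteAbove_eq_sum_card_bipartiteBelow
      (fun (C : Β) (x : Ω) => x ∈ d.pts C) (s := univ.filter fun C : Β => p ∈ d.pts C)
      (t := univ.erase p)).symm ?_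
    refine Finset.sum_congr rfl fun C _ => congrArg Finset.card ?_
    ext x
    simp [Finset.bipartiteAbove, and_comm]
  rw [Finset.sum_congr rfl (g := fun _ => d.lam)
      (fun x hx => d.pair_pts p x (Finset.mem_erase.1 hx).1.symm),
    Finset.sum_congr rfl (s₁ := univ.filter fun C : Β => p ∈ d.pts C) (g := fun _ => d.k - 1)
      (fun C hC => by
        rw [Finset.card_erase_of_mem (Finset.mem_filter.1 hC).2, d.card_pts]),
    Finset.sum_const, Finset.sum_const, d.card_star, Finset.card_erase_of_mem (mem_univ _),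
    Finset.card_univ, smul_eq_mul, smul_eq_mul] at h
  rw [mul_comm, h]

section Shear

variable {C D : Β}

theorem commute' (hCD : C ≠ D) {x : G} (hx : x ∈ d.T C) (hxD : x • D = D) {y : G} (hy : y ∈ d.T D)
    (hyC : y • C = C) : x * y = y * x := by
  have h1 : x * y * x⁻¹ * y⁻¹ ∈ d.T D := mul_mem (d.mem_T_of_smul hxD hy) (inv_mem hy)
  have h2 : x * y * x⁻¹ * y⁻¹ ∈ d.T C := by
    rw [show x * y * x⁻¹ * y⁻¹ = x * (y * x⁻¹ * y⁻¹) by group]
    exact mul_mem hx (d.mem_T_of_smul hyC (inv_mem hx))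
  have h3 := d.eq_one_of_two_axes hCD h2 h1
  calc x * y = x * y * x⁻¹ * y⁻¹ * (y * x) := by group
    _ = y * x := by rw [h3, one_mul]

theorem smul_ne_axis (hCD : C ≠ D) {t : G} (ht : t ∈ d.T C) : t • D ≠ C := fun h =>
  hCD (smul_left_cancel t (h.trans (d.smul_axis ht).symm)).symm

theorem inter_translate {t : G} (ht : t ∈ d.T C) (htD : t • D ≠ D) :
    d.pts D ∩ d.pts (t • D) = d.pts D ∩ d.pts C :=
  d.inter_moved (d.isAut t) (fun p hp => d.fixes C t ht p hp) htD

theorem orbit'' [Finite G] {m e q : ℕ} (hq : (d.orb C D).card = q)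
    (hq' : ∀ D' : Β, D' ≠ C → (d.orb C D').card = q) (hv : Fintype.card Ω = d.k + m * (q * e))
    (hn : d.k * (m * e) = (d.k - d.lam) * (d.k - 1 + m)) (hm : m < d.k) (hq0 : 0 < q)
    (hDC : D ≠ C) {D' : Β} (hD'C : D' ≠ C) (hW : d.pts D ∩ d.pts C = d.pts D' ∩ d.pts C) :
    ∃ x ∈ d.T C, x • D = D' := by
  classical
  by_contra hno
  let S := univ.filter fun E : Β => E ≠ C ∧ d.pts E ∩ d.pts C = d.pts D ∩ d.pts C
  have hinv : ∀ E₀, E₀ ≠ C → d.pts E₀ ∩ d.pts C = d.pts D ∩ d.pts C → d.orb C E₀ ⊆ S := by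
    intro E₀ h0 hW0 E hE
    obtain ⟨t, ht, rfl⟩ := d.mem_orb.1 hE
    refine Finset.mem_filter.2 ⟨mem_univ _, d.smul_ne_axis h0.symm ht, ?_⟩
    rw [← hW0]
    ext p
    simp only [Finset.mem_inter]
    constructor <;> rintro ⟨h1, h2⟩ <;> refine ⟨?_, h2⟩
    · have := d.smul_pts t p E₀
      rw [d.fixes C t ht p h2] at this
      exact this.1 h1
    · have := d.smul_pts t p E₀
      rw [d.fixes C t ht p h2] at this
      exact this.2 h1
  have hdisj : Disjoint (d.orb C D) (d.orb C D') := by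
    rw [Finset.disjoint_left]
    intro E hE hE'
    obtain ⟨t, ht, rfl⟩ := d.mem_orb.1 hE
    obtain ⟨s, hs, hst⟩ := d.mem_orb.1 hE'
    exact hno ⟨s⁻¹ * t, mul_mem (inv_mem hs) ht, by rw [mul_smul, inv_smul_eq_iff]; exact hst.symm⟩
  have h2q : 2 * q ≤ S.card := by
    have := Finset.card_le_card (Finset.union_subset (hinv D hDC rfl) (hinv D' hD'C hW.symm))
    rw [Finset.card_union_of_disjoint hdisj, hq, hq' D' hD'C] at this
    omega
  have hsub : (S.biUnion fun E => d.pts E \ d.pts C) ⊆ (d.pts C)ᶜ := by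
    intro p hp
    obtain ⟨E, -, hpE⟩ := Finset.mem_biUnion.1 hp
    exact Finset.mem_compl.2 (Finset.mem_sdiff.1 hpE).2
  have hcard := Finset.card_le_card hsub
  rw [Finset.card_biUnion, Finset.sum_congr rfl (g := fun _ => d.k - d.lam), Finset.sum_const,
    smul_eq_mul, Finset.card_compl, d.card_pts, hv, Nat.add_sub_cancel_left] at hcard
  · have h3 : 2 * q * (d.k - d.lam) ≤ m * (q * e) :=
      le_trans (Nat.mul_le_mul_right _ h2q) hcard
    have h4 : q * (2 * (d.k - d.lam)) ≤ q * (m * e) := by linarith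
    have h5 := Nat.mul_le_mul_left d.k (Nat.le_of_mul_le_mul_left h4 hq0)
    rw [hn] at h5
    have hpos : 0 < d.k - d.lam := by have := d.two_le; omega
    have h6 : d.k * 2 ≤ d.k - 1 + m := by
      refine Nat.le_of_mul_le_mul_left ?_ hpos
      calc (d.k - d.lam) * (d.k * 2) = d.k * (2 * (d.k - d.lam)) := by ring
        _ ≤ _ := h5
    omega
  · intro E hE
    obtain ⟨hEC, -⟩ := (Finset.mem_filter.1 hE).2
    rw [Finset.card_sdiff, Finset.inter_comm, d.pair_blk E C hEC, d.card_pts]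
  · intro E hE F hF hEF
    rw [Function.onFun, Finset.disjoint_left]
    intro p hpE hpF
    obtain ⟨hEC, hWE⟩ := (Finset.mem_filter.1 (Finset.mem_coe.1 hE)).2
    obtain ⟨-, hWF⟩ := (Finset.mem_filter.1 (Finset.mem_coe.1 hF)).2
    have hsub' : d.pts E ∩ d.pts C ⊆ d.pts E ∩ d.pts F := by
      intro x hx
      refine Finset.mem_inter.2 ⟨(Finset.mem_inter.1 hx).1, ?_⟩
      rw [hWE, ← hWF] at hx
      exact (Finset.mem_inter.1 hx).1
    have heq := Finset.eq_of_subset_of_card_le hsub'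
      (by rw [d.pair_blk E F hEF, d.pair_blk E C hEC])
    have hp : p ∈ d.pts E ∩ d.pts C := by
      rw [heq]
      exact Finset.mem_inter.2 ⟨(Finset.mem_sdiff.1 hpE).1, (Finset.mem_sdiff.1 hpF).1⟩
    exact (Finset.mem_sdiff.1 hpE).2 (Finset.mem_inter.1 hp).2

variable (horb : ∀ C D D' : Β, D ≠ C → D' ≠ C → d.pts D ∩ d.pts C = d.pts D' ∩ d.pts C →
    ∃ x ∈ d.T C, x • D = D')

include horb in
theorem fix_orbit' (hCD : C ≠ D) {y : G} (hy : y ∈ d.T D) (hyC : y • C = C) {t : G}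
    (ht : t ∈ d.T C) : y • t • D = t • D := by
  by_cases htD : t • D = D
  · rw [htD]
    exact d.smul_axis hy
  · obtain ⟨u, hu, huC⟩ := horb D C (t • D) hCD htD (by
      rw [Finset.inter_comm, ← d.inter_translate ht htD, Finset.inter_comm])
    rw [← huC, ← mul_smul, d.comm D y hy u hu, mul_smul, hyC]

include horb in
theorem comm_mem' (hCD : C ≠ D) {y : G} (hy : y ∈ d.T D) (hyC : y • C = C) {t : G}
    (ht : t ∈ d.T C) :
    y * t * y⁻¹ * t⁻¹ ∈ d.T C ∧ (y * t * y⁻¹ * t⁻¹) • D = D := by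
  refine ⟨mul_mem (d.mem_T_of_smul hyC ht) (inv_mem ht), ?_⟩
  rw [mul_smul, mul_smul, mul_smul, d.fix_orbit' horb hCD (inv_mem hy)
    (inv_smul_eq_iff.2 hyC.symm) (inv_mem ht), smul_inv_smul]
  exact d.smul_axis hy

/-- An element of the axial group of `C` commuting with a shear fixes its axis. -/
theorem smul_eq_of_commute {y : G} (hy : y ∈ d.T D) (hy1 : y ≠ 1) {t : G}
    (h : t * y = y * t) : t • D = D := by
  refine d.pts_inj (Finset.eq_of_subset_of_card_le ?_ (by rw [d.card_pts, d.card_pts]))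
  intro p hp
  obtain ⟨p, rfl⟩ : ∃ p₀, t • p₀ = p := ⟨t⁻¹ • p, smul_inv_smul t p⟩
  have hp' := (d.smul_pts t p D).1 hp
  refine (d.fix_points hy hy1 _).1 ?_
  rw [← mul_smul, ← h, mul_smul, d.fixes D y hy p hp']

/-- Commutation with a shear, as a homomorphism. -/
def shearHom (C : Β) (y : G) (hyC : y • C = C) : d.T C →* d.T C where
  toFun t := ⟨y * t * y⁻¹ * t.1⁻¹, mul_mem (d.mem_T_of_smul hyC t.2) (inv_mem t.2)⟩
  map_one' := Subtype.ext (by simp)
  map_mul' s t := Subtype.ext (by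
    have h : (y * t * y⁻¹ * (t : G)⁻¹) * (s : G)⁻¹ = (s : G)⁻¹ * (y * t * y⁻¹ * (t : G)⁻¹) :=
      d.comm C _ (mul_mem (d.mem_T_of_smul hyC t.2) (inv_mem t.2)) _ (inv_mem s.2)
    show y * ((s : G) * t) * y⁻¹ * ((s : G) * t)⁻¹
      = (y * s * y⁻¹ * (s : G)⁻¹) * (y * t * y⁻¹ * (t : G)⁻¹)
    calc y * ((s : G) * t) * y⁻¹ * ((s : G) * t)⁻¹
        = y * s * y⁻¹ * ((y * t * y⁻¹ * (t : G)⁻¹) * (s : G)⁻¹) := by group
      _ = y * s * y⁻¹ * ((s : G)⁻¹ * (y * t * y⁻¹ * (t : G)⁻¹)) := by rw [h]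
      _ = _ := by group)

theorem mem_ker_iff (hCD : C ≠ D) {y : G} (hy : y ∈ d.T D) (hyC : y • C = C) (hy1 : y ≠ 1)
    (t : d.T C) : t ∈ (d.shearHom C y hyC).ker ↔ (t : G) • D = D := by
  rw [MonoidHom.mem_ker, Subtype.ext_iff]
  show y * t * y⁻¹ * (t : G)⁻¹ = 1 ↔ _
  constructor
  · intro h
    refine d.smul_eq_of_commute hy hy1 ?_
    calc (t : G) * y = (y * t * y⁻¹ * (t : G)⁻¹) * (t * y) := by rw [h, one_mul]
      _ = y * t := by group
  · intro h
    rw [← d.commute' hCD t.2 h hy hyC]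
    group

theorem card_range' [Finite G] {e q : ℕ} (hT : Nat.card (d.T C) = q * e)
    (he : Nat.card (d.XS C D) = e) (he0 : 0 < e) (hCD : C ≠ D) {y : G} (hy : y ∈ d.T D)
    (hyC : y • C = C) (hy1 : y ≠ 1) :
    Nat.card {x : G // ∃ t ∈ d.T C, y * t * y⁻¹ * t⁻¹ = x} = q := by
  have h1 : Nat.card {x : G // ∃ t ∈ d.T C, y * t * y⁻¹ * t⁻¹ = x}
      = Nat.card (d.shearHom C y hyC).range := Nat.card_congr
    { toFun := fun x => ⟨⟨x.1, by
        obtain ⟨t, ht, e⟩ := x.2
        rw [← e]; exact (d.shearHom C y hyC ⟨t, ht⟩).2⟩, by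
        obtain ⟨t, ht, e⟩ := x.2
        exact ⟨⟨t, ht⟩, Subtype.ext e⟩⟩
      invFun := fun x => ⟨x.1.1, by
        obtain ⟨t, ht⟩ := x.2
        exact ⟨t.1, t.2, congrArg Subtype.val ht⟩⟩
      left_inv := fun _ => rfl
      right_inv := fun _ => rfl }
  have h2 : (d.shearHom C y hyC).ker = (d.XS C D).subgroupOf (d.T C) := by
    ext t
    rw [d.mem_ker_iff hCD hy hyC hy1, Subgroup.mem_subgroupOf, mem_XS]
    exact ⟨fun h => ⟨t.2, h⟩, fun h => h.2⟩
  have h3 := (d.shearHom C y hyC).ker.card_mul_index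
  have hle : d.XS C D ≤ d.T C := inf_le_left
  rw [Subgroup.index_ker, h2,
    Nat.card_congr (Subgroup.subgroupOfEquivOfLe hle).toEquiv,
    he, hT, mul_comm q e] at h3
  rw [h1]
  exact Nat.eq_of_mul_eq_mul_left he0 h3

theorem shear_inj' {t : G} (htD : t • D ≠ D) {y : G} (hy : y ∈ d.T D) {y' : G} (hy' : y' ∈ d.T D)
    (h : y * t * y⁻¹ * t⁻¹ = y' * t * y'⁻¹ * t⁻¹) : y = y' := by
  by_contra hne
  refine htD (d.smul_eq_of_commute (mul_mem (inv_mem hy') hy)
    (fun h1 => hne (inv_mul_eq_one.1 h1).symm) ?_)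
  have h' : y * t * y⁻¹ = y' * t * y'⁻¹ := mul_right_cancel h
  calc t * (y'⁻¹ * y) = y'⁻¹ * (y' * t * y'⁻¹) * y := by group
    _ = y'⁻¹ * (y * t * y⁻¹) * y := by rw [h']
    _ = y'⁻¹ * y * t := by group

include horb in
theorem fix_eq' [Finite G] (hCD : C ≠ D) {y : G} (hy : y ∈ d.T D) (hyC : y • C = C) {t : G}
    (ht : t ∈ d.T C) (htD : t • D ≠ D) (hy1 : y ≠ 1) (E : Β) :
    (y * t * y⁻¹ * t⁻¹) • E = E ↔ y • E = E := by
  classical
  obtain ⟨hxC, hxD⟩ := d.comm_mem' horb hCD hy hyC ht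
  set x := y * t * y⁻¹ * t⁻¹ with hx
  have hx1 : x ≠ 1 := fun h1 => htD (d.smul_eq_of_commute hy hy1 (by
    calc t * y = x * (t * y) := by rw [h1, one_mul]
      _ = y * t := by rw [hx]; group))
  have key : ∀ E : Β, x • E = E → y • E = E := by
    intro E hxE
    by_contra hyE
    have hxy := d.commute' hCD hxC hxD hy hyC
    have hy2 : t * y * t⁻¹ = x⁻¹ * y := by rw [hx]; group
    have hy2E : (t * y * t⁻¹) • E = y • E := by
      have : x⁻¹ * y = y * x⁻¹ := (Commute.inv_left hxy).eq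
      rw [hy2, this, mul_smul, inv_smul_eq_iff.2 hxE.symm]
    have h1 := d.inter_moved (d.isAut y) (fun p hp => d.fixes D y hy p hp) (D := E) hyE
    have h2 : d.pts E ∩ d.pts ((t * y * t⁻¹) • E) = d.pts E ∩ d.pts (t • D) :=
      d.inter_moved (d.isAut (t * y * t⁻¹))
        (fun p hp => d.fixes _ _ (d.conj_mem t D y hy) p hp) (D := E) (by
          rw [← hy2E] at hyE; exact hyE)
    rw [hy2E] at h2
    have h1' : d.pts E ∩ d.pts (y • E) = d.pts E ∩ d.pts D := h1
    have hED : E ≠ D := fun e => hyE (by rw [e]; exact d.smul_axis hy)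
    have hEC : E ≠ C := fun e => hyE (by rw [e]; exact hyC)
    have hsub : d.pts E ∩ d.pts D ⊆ d.pts D ∩ d.pts C := by
      intro p hp
      rw [← d.inter_translate ht htD]
      refine Finset.mem_inter.2 ⟨(Finset.mem_inter.1 hp).2, ?_⟩
      rw [← h1', h2] at hp
      exact (Finset.mem_inter.1 hp).2
    have heq := Finset.eq_of_subset_of_card_le hsub
      (by rw [d.pair_blk E D hED, d.pair_blk D C hCD.symm])
    have hsub2 : d.pts D ∩ d.pts C ⊆ d.pts E ∩ d.pts C := by
      intro p hp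
      refine Finset.mem_inter.2 ⟨?_, (Finset.mem_inter.1 hp).2⟩
      rw [← heq] at hp
      exact (Finset.mem_inter.1 hp).1
    have heq2 := Finset.eq_of_subset_of_card_le hsub2
      (by rw [d.pair_blk E C hEC, d.pair_blk D C hCD.symm])
    obtain ⟨u, hu, rfl⟩ := horb C D E hCD.symm hEC heq2
    exact hyE (d.fix_orbit' horb hCD hy hyC hu)
  have heq : (univ.filter fun E : Β => x • E = E) = univ.filter fun E : Β => y • E = E := by
    refine Finset.eq_of_subset_of_card_le (fun E hE => ?_) ?_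
    · exact Finset.mem_filter.2 ⟨mem_univ _, key E (Finset.mem_filter.1 hE).2⟩
    · rw [d.card_fix' hxC hx1, d.card_fix' hy hy1]
  simpa using Finset.ext_iff.1 heq E

end Shear

end Ax

/-- The first half of the counting. -/
theorem preBrick : PreBrick.{u, v, w} := by
  intro G Ω Β _ _ _ _ _ _ _ _ d
  classical
  obtain ⟨C₀, D₀, h0⟩ := d.exists_blk_pair
  have hne : Nonempty Ω := Fintype.card_pos_iff.1 (by have := d.kv; omega)
  obtain ⟨o, ho⟩ : ∃ o, o = Nat.card (d.T C₀) := ⟨_, rfl⟩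
  obtain ⟨e, he⟩ : ∃ e, e = Nat.card (d.XS C₀ D₀) := ⟨_, rfl⟩
  obtain ⟨q, hq⟩ : ∃ q, q = (d.orb C₀ D₀).card := ⟨_, rfl⟩
  have hTc : ∀ C, Nat.card (d.T C) = o := fun C => by rw [ho]; exact d.card_T_eq C C₀
  have hXc : ∀ C D, C ≠ D → Nat.card (d.XS C D) = e := fun C D h => by
    rw [he]; exact d.card_XS_eq h h0
  have hoq : o = q * e := by rw [ho, hq, he]; exact (d.card_orb C₀ D₀).symm
  have he0 : 0 < e := he ▸ Nat.card_pos
  have ho2 : 2 ≤ o := by
    rw [ho]
    exact (Subgroup.one_lt_card_iff_ne_bot _).2 (d.ne_bot C₀)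
  have horbc : ∀ C D, D ≠ C → (d.orb C D).card = q := fun C D h => by
    refine Nat.eq_of_mul_eq_mul_right he0 ?_
    rw [← hoq, ← hTc C, ← hXc C D h.symm]
    exact d.card_orb C D
  obtain ⟨m, hm⟩ := d.dvd_off C₀
  rw [← ho] at hm
  have hsum := d.count_sum C₀ D₀ h0
  rw [← ho, ← he, hm] at hsum
  have hk2 : 2 ≤ d.k := by have := d.two_le; omega
  have hm1 : 1 ≤ m := by
    have := d.kv
    rcases Nat.eq_zero_or_pos m with h | h
    · subst h; omega
    · exact h
  have he2 : 2 ≤ e := by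
    by_contra h
    have h1 : e = 1 := by omega
    subst h1
    have hmo : 1 ≤ m * o := Nat.mul_pos hm1 (by omega)
    obtain ⟨o', rfl⟩ : ∃ o', o = o' + 2 := ⟨o - 2, by omega⟩
    obtain ⟨k', hk'⟩ : ∃ k', d.k = k' + 2 := ⟨d.k - 2, by omega⟩
    rw [hk'] at hsum
    simp at hsum
    nlinarith
  have hq2 : 2 ≤ q := by
    by_contra h
    have h1 : q ≤ 1 := by omega
    have h1' : o ≤ e := by rw [hoq]; nlinarith
    have hoe : o = e := le_antisymm h1' (by
      rw [hoq]
      rcases Nat.eq_zero_or_pos q with hh | hh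
      · subst hh; simp at hoq; omega
      · exact Nat.le_mul_of_pos_left e hh)
    rw [← hoe] at hsum
    have hmo : 1 ≤ m * o := Nat.mul_pos hm1 (by omega)
    obtain ⟨o', rfl⟩ : ∃ o', o = o' + 2 := ⟨o - 2, by omega⟩
    obtain ⟨k', hk'⟩ : ∃ k', d.k = k' + 2 := ⟨d.k - 2, by omega⟩
    rw [hk', show k' + 2 + m * (o' + 2) - 1 = k' + 1 + m * (o' + 2) by omega] at hsum
    simp at hsum
    nlinarith
  rw [hoq] at hm hsum
  have hcount : (q - 1) * (d.k - 1) = m * q * (e - 1) := by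
    obtain ⟨e', rfl⟩ : ∃ e', e = e' + 2 := ⟨e - 2, by omega⟩
    obtain ⟨q', rfl⟩ : ∃ q', q = q' + 2 := ⟨q - 2, by omega⟩
    obtain ⟨k', hk'⟩ : ∃ k', d.k = k' + 2 := ⟨d.k - 2, by omega⟩
    rw [hk'] at hsum ⊢
    have h1 : (q' + 2) * (e' + 2) - 1 = q' * e' + 2 * q' + 2 * e' + 3 := by
      rw [show (q' + 2) * (e' + 2) = q' * e' + 2 * q' + 2 * e' + 4 by ring]; omega
    have h2 : k' + 2 + m * ((q' + 2) * (e' + 2)) - 1 = k' + 1 + m * ((q' + 2) * (e' + 2)) := by
      omega
    rw [h1, h2] at hsum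
    simp only [show q' + 2 - 1 = q' + 1 by omega, show k' + 2 - 1 = k' + 1 by omega,
      show e' + 2 - 1 = e' + 1 by omega]
    refine Nat.eq_of_mul_eq_mul_left (show 0 < e' + 2 by omega) ?_
    nlinarith
  have hcn : d.k * (m * e) = (d.k - d.lam) * (d.k - 1 + m) := by
    have hl := d.lam_eq
    rw [hm] at hl
    obtain ⟨n, hn⟩ : ∃ n, d.k = d.lam + n := ⟨d.k - d.lam, by have := d.two_le; omega⟩
    obtain ⟨e', rfl⟩ : ∃ e', e = e' + 1 := ⟨e - 1, by omega⟩
    obtain ⟨q', rfl⟩ : ∃ q', q = q' + 2 := ⟨q - 2, by omega⟩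
    obtain ⟨k', hk'⟩ : ∃ k', d.k = k' + 1 := ⟨d.k - 1, by omega⟩
    rw [hn, Nat.add_sub_cancel_left, ← hn]
    rw [show d.k + m * ((q' + 2) * (e' + 1)) - 1 = k' + m * ((q' + 2) * (e' + 1)) by omega,
      show d.k - 1 = k' by omega] at hl
    simp only [show q' + 2 - 1 = q' + 1 by omega, show d.k - 1 = k' by omega,
      show e' + 1 - 1 = e' by omega] at hcount
    rw [show d.k - 1 = k' by omega]
    refine Nat.eq_of_mul_eq_mul_left (show 0 < q' + 2 by omega) ?_
    nlinarith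
  have hmk : m < d.k := by
    by_contra h
    have h1 : d.k - 1 < m := by omega
    have h2 : (q - 1) * (d.k - 1) < (q - 1) * m := Nat.mul_lt_mul_of_pos_left h1 (by omega)
    have h3 : (q - 1) * m ≤ m * q * (e - 1) := by
      calc (q - 1) * m ≤ q * m := Nat.mul_le_mul_right m (by omega)
        _ = m * q * 1 := by ring
        _ ≤ m * q * (e - 1) := Nat.mul_le_mul_left _ (by omega)
    omega
  have horbit : ∀ C D D' : Β, D ≠ C → D' ≠ C → d.pts D ∩ d.pts C = d.pts D' ∩ d.pts C →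
      ∃ x ∈ d.T C, x • D = D' := fun C D D' h h' hW =>
    d.orbit'' (horbc C D h) (horbc C) hm hcn hmk (by omega) h h' hW
  have hrange : ∀ C D : Β, C ≠ D → ∀ y ∈ d.T D, y • C = C → y ≠ 1 →
      Nat.card {x : G // ∃ t ∈ d.T C, y * t * y⁻¹ * t⁻¹ = x} = q := fun C D h y hy hyC hy1 =>
    d.card_range' (by rw [hTc, hoq]) (hXc C D h) he0 h hy hyC hy1
  have hqe : q ≤ e := by
    have : Nontrivial (d.XS D₀ C₀) :=
      Finite.one_lt_card_iff_nontrivial.1 (by rw [hXc D₀ C₀ h0.symm]; omega)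
    obtain ⟨⟨y, hy, hyC⟩, hy1⟩ := exists_ne (1 : d.XS D₀ C₀)
    rw [← hrange C₀ D₀ h0 y hy hyC (fun h => hy1 (Subtype.ext h)), ← hXc C₀ D₀ h0]
    refine Nat.card_le_card_of_injective
      (fun x => (⟨x.1, ?_⟩ : d.XS C₀ D₀)) (fun a b h => ?_)
    · obtain ⟨t, ht, e⟩ := x.2
      rw [← e]
      exact d.comm_mem' horbit h0 hy hyC ht
    · exact Subtype.ext (congrArg Subtype.val h :)
  have hmq : m * q < d.k := by
    have h1 : m * q * (q - 1) ≤ (q - 1) * (d.k - 1) :=
      hcount ▸ Nat.mul_le_mul_left _ (by omega)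
    have h2 : m * q ≤ d.k - 1 := Nat.le_of_mul_le_mul_right
      (by rw [mul_comm (d.k - 1)]; exact h1) (show 0 < q - 1 by omega)
    omega
  refine ⟨{
    e := e, q := q, m := m
    two_le_e := he2, two_le_q := hq2, q_le_e := hqe, one_le_m := hm1, mq_lt := hmq
    card_T := fun C => by rw [hTc, hoq]
    card_X := fun C D h => by rw [d.card_XS_subtype]; exact hXc C D h
    card_v := hm
    count := hcount
    count_n := hcn
    free := fun C x hx hx1 p hp => d.free' hx hx1 hp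
    card_fix := fun C x hx hx1 => by
      rw [Nat.card_eq_fintype_card, Fintype.card_subtype]; exact d.card_fix' hx hx1
    orbit := horbit
    commute := fun C D h x hx hxD y hy hyC => d.commute' h hx hxD hy hyC
    fix_orbit := fun C D h y hy hyC t ht => d.fix_orbit' horbit h hy hyC ht
    comm_mem := fun C D h y hy hyC t ht => d.comm_mem' horbit h hy hyC ht
    shear_inj := fun C D h t ht htD y hy hyC y' hy' hyC' hh => d.shear_inj' htD hy hy' hh
    exists_shear := ?_
    card_range := hrange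
    fix_eq := fun C D h y hy hyC t ht htD hy1 E => d.fix_eq' horbit h hy hyC ht htD hy1 E }⟩
  intro C D h t ht htD x hx hxD
  let f : d.XS D C → d.XS C D := fun y =>
    ⟨y.1 * t * y.1⁻¹ * t⁻¹, d.comm_mem' horbit h y.2.1 y.2.2 ht⟩
  have hf : Function.Injective f := fun a b hab =>
    Subtype.ext (d.shear_inj' htD a.2.1 b.2.1 (congrArg Subtype.val hab))
  obtain ⟨y, hy⟩ := ((Nat.bijective_iff_injective_and_card f).2
    ⟨hf, by rw [hXc D C h.symm, hXc C D h]⟩).2 ⟨x, hx, hxD⟩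
  exact ⟨y.1, y.2.1, y.2.2, congrArg Subtype.val hy⟩

end Cfsg.Agent.Lib.AxialDesign74
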