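import Cfsg.Agent.Lib.AxialDesign74.Spec2

/-!
Recognition of the projective space and of its little projective group.
-/

set_option autoImplicit false

namespace Cfsg.Agent.Lib.AxialDesign74

open Finset

universe u v w

namespace Recog

variable {G : Type u} {Ω : Type v} {Β : Type w} [Group G] [Fintype Ω] [Fintype Β]
  [DecidableEq Ω] [DecidableEq Β] [MulAction G Ω] [MulAction G Β]

/-- A point off a block. -/
theorem exists_out (d : Ax G Ω Β) (C : Β) : ∃ p, p ∉ d.pts C := by
  by_contra h
  push Not at h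
  have h1 := d.card_pts C
  rw [Finset.eq_univ_iff_forall.2 h, Finset.card_univ] at h1
  have := d.kv
  omega

/-- A block is determined by its star. -/
theorem star_inj (d : Ax G Ω Β) {c c' : Ω} (h : ∀ D, c ∈ d.pts D → c' ∈ d.pts D) : c = c' := by
  by_contra hne
  have h1 := d.pair_pts c c' hne
  have h2 : (univ.filter fun D => c ∈ d.pts D ∧ c' ∈ d.pts D) =
      univ.filter fun D => c ∈ d.pts D := by
    ext D
    simp only [Finset.mem_filter, Finset.mem_univ, true_and, and_iff_left_iff_imp]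
    exact h D
  rw [h2, d.card_star] at h1
  have := d.two_le
  omega

theorem centre_eq (d : Ax G Ω Β) {C : Β} {c c' : Ω} {x : G} (h : d.InE C c x)
    (hc' : ∀ D : Β, x • D = D ↔ c' ∈ d.pts D) : c = c' :=
  star_inj d fun D hD => (hc' D).1 (h.2 D hD)

theorem col_smul (d : Ax G Ω Β) {p r s : Ω} (g : G)
    (h : ∀ D, p ∈ d.pts D → r ∈ d.pts D → s ∈ d.pts D) :
    ∀ D, g • p ∈ d.pts D → g • r ∈ d.pts D → g • s ∈ d.pts D := by
  intro D hp hr
  have key : ∀ t : Ω, g • t ∈ d.pts D ↔ t ∈ d.pts (g⁻¹ • D) := fun t => by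
    have := d.smul_pts g t (g⁻¹ • D)
    rwa [smul_inv_smul] at this
  rw [key] at hp hr ⊢
  exact h _ hp hr

/-- An identification of the points with a projective space in which blocks are hyperplanes. -/
structure Model (d : Ax G Ω Β) (F : Type) [Field F] (V : Type u) [AddCommGroup V] [Module F V]
    where
  /-- The identification. -/
  e : Ω ≃ Projectivization F V
  blk : ∀ f : Module.Dual F V, f ≠ 0 → ∃ D : Β, ∀ p, p ∈ d.pts D ↔ f (e p).rep = 0
  hyp : ∀ D : Β, ∃ f : Module.Dual F V, f ≠ 0 ∧ ∀ p, p ∈ d.pts D ↔ f (e p).rep = 0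
  dim : 3 ≤ Module.finrank F V

section Model

variable {d : Ax G Ω Β} {F : Type} [Field F] {V : Type u} [AddCommGroup V] [Module F V]
  (M : Model d F V)

/-- The representative vector of a point. -/
noncomputable def Model.vec (p : Ω) : V := (M.e p).rep

theorem Model.vec_ne (p : Ω) : M.vec p ≠ 0 := (M.e p).rep_nonzero

theorem Model.exists_pt {x : V} (hx : x ≠ 0) :
    ∃ (p : Ω) (a : F), a ≠ 0 ∧ M.vec p = a • x := by
  refine ⟨M.e.symm (Projectivization.mk F x hx), ?_⟩
  obtain ⟨a, ha⟩ := Projectivization.exists_smul_eq_mk_rep F x hx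
  exact ⟨a, a.ne_zero, by rw [Model.vec, Equiv.apply_symm_apply]; exact ha.symm⟩

theorem Model.mk_vec (p : Ω) : Projectivization.mk F (M.vec p) (M.vec_ne p) = M.e p :=
  Projectivization.mk_rep _

theorem Model.col_iff (p r s : Ω) :
    (∀ D, p ∈ d.pts D → r ∈ d.pts D → s ∈ d.pts D) ↔
      M.vec s ∈ Submodule.span F {M.vec p, M.vec r} := by
  constructor
  · intro h
    by_contra hs
    obtain ⟨f, hf, hf0⟩ := Submodule.exists_dual_map_eq_bot_of_notMem hs inferInstance
    have hker : ∀ y ∈ Submodule.span F {M.vec p, M.vec r}, f y = 0 := fun y hy => by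
      have h1 : f y ∈ (Submodule.span F {M.vec p, M.vec r}).map f :=
        Submodule.mem_map_of_mem hy
      rwa [hf0, Submodule.mem_bot] at h1
    obtain ⟨D, hD⟩ := M.blk f (fun h0 => hf (by rw [h0]; rfl))
    exact hf ((hD s).1 (h D ((hD p).2 (hker _ (Submodule.subset_span (by simp [Model.vec]))))
      ((hD r).2 (hker _ (Submodule.subset_span (by simp [Model.vec]))))))
  · intro h D hp hr
    obtain ⟨f, -, hD⟩ := M.hyp D
    obtain ⟨a, b, hab⟩ := Submodule.mem_span_pair.1 h
    refine (hD s).2 ?_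
    show f (M.vec s) = 0
    have hp' : f (M.vec p) = 0 := (hD p).1 hp
    have hr' : f (M.vec r) = 0 := (hD r).1 hr
    rw [← hab, map_add, map_smul, map_smul, hp', hr', smul_zero, smul_zero, add_zero]

/-- An axial element is a transvection. -/
theorem Model.transvection (K : d.Cen) {D : Β} {x : G} (hx : x ∈ d.T D) (f : Module.Dual F V)
    (hD : ∀ p, p ∈ d.pts D ↔ f (M.vec p) = 0) :
    ∃ z : V, f z = 0 ∧ ∀ y : Ω, ∃ a : F, a ≠ 0 ∧
      M.vec (x • y) = a • (M.vec y + f (M.vec y) • z) := by
  classical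
  by_cases hx1 : x = 1
  · exact ⟨0, map_zero f, fun y => ⟨1, one_ne_zero, by simp [hx1]⟩⟩
  obtain ⟨c, hcD, hc⟩ := K.centre D x hx hx1
  set u := M.vec c with hu
  have hfu : f u = 0 := (hD c).1 hcD
  have hxD : x • D = D := (hc D).2 hcD
  have hout : ∀ y, y ∉ d.pts D → x • y ∉ d.pts D := fun y hy h => hy (by
    have h1 := d.smul_pts x y D
    rw [hxD] at h1
    exact h1.1 h)
  let n : Ω → V := fun y => (f (M.vec y))⁻¹ • M.vec y
  have hfn : ∀ y, y ∉ d.pts D → f (n y) = 1 := fun y hy => by
    have h0 : f (M.vec y) ≠ 0 := fun h => hy ((hD y).2 h)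
    show f ((f (M.vec y))⁻¹ • M.vec y) = 1
    rw [map_smul, smul_eq_mul, inv_mul_cancel₀ h0]
  have hmem : ∀ y, y ∉ d.pts D → ∀ W : Submodule F V, M.vec y ∈ W ↔ n y ∈ W := fun y hy W => by
    have h0 : f (M.vec y) ≠ 0 := fun h => hy ((hD y).2 h)
    show _ ↔ (f (M.vec y))⁻¹ • M.vec y ∈ W
    rw [Submodule.smul_mem_iff _ (inv_ne_zero h0)]
  have hline : ∀ y, y ∉ d.pts D → ∃ b : F, n (x • y) = n y + b • u := by
    intro y hy
    have hcol : ∀ E, c ∈ d.pts E → y ∈ d.pts E → x • y ∈ d.pts E := fun E hcE hyE => by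
      have h1 := (d.smul_pts x y E).2 hyE
      rwa [(hc E).2 hcE] at h1
    have h1 := (M.col_iff c y (x • y)).1 hcol
    have h2 : n (x • y) ∈ Submodule.span F {u, n y} := by
      have h3 := (hmem _ (hout y hy) _).1 h1
      have h4 : Submodule.span F {M.vec c, M.vec y} ≤ Submodule.span F {u, n y} := by
        rw [Submodule.span_le]
        intro t ht
        rcases ht with rfl | rfl
        · exact Submodule.subset_span (by simp [hu])
        · exact (hmem y hy _).2 (Submodule.subset_span (by simp))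
      exact h4 h3
    obtain ⟨a, b, hab⟩ := Submodule.mem_span_pair.1 h2
    have hb : b = 1 := by
      have := congrArg f hab
      simpa [hfu, hfn y hy, hfn _ (hout y hy)] using this
    exact ⟨a, by rw [← hab, hb, one_smul, add_comm]⟩
  choose β hβ using hline
  have hstep : ∀ y (hy : y ∉ d.pts D) y' (hy' : y' ∉ d.pts D),
      n y' - n y ∉ Submodule.span F {u} → β y' hy' = β y hy := by
    intro y hy y' hy' hind
    have hz0 : n y' - n y ≠ 0 := fun h => hind (h ▸ Submodule.zero_mem _)
    obtain ⟨z, a, ha, hz⟩ := M.exists_pt hz0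
    have hfz : f (M.vec z) = 0 := by
      rw [hz, map_smul, map_sub, hfn y hy, hfn y' hy', sub_self, smul_zero]
    have hzx : x • z = z := d.fixes D x hx z ((hD z).2 hfz)
    have hin : M.vec y' ∈ Submodule.span F {M.vec y, M.vec z} := by
      rw [hmem y' hy']
      have h1 : n y' = a⁻¹ • M.vec z + n y := by
        rw [hz, smul_smul, inv_mul_cancel₀ ha, one_smul, sub_add_cancel]
      rw [h1]
      exact add_mem (Submodule.smul_mem _ _ (Submodule.subset_span (by simp)))
        ((hmem y hy _).1 (Submodule.subset_span (by simp)))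
    have h2 := (M.col_iff _ _ _).1 (col_smul d x ((M.col_iff y z y').2 hin))
    rw [hzx] at h2
    have h3 : n (x • y') ∈ Submodule.span F {n (x • y), n y' - n y} := by
      have h4 := (hmem _ (hout y' hy') _).1 h2
      have h5 : Submodule.span F {M.vec (x • y), M.vec z} ≤
          Submodule.span F {n (x • y), n y' - n y} := by
        rw [Submodule.span_le]
        intro t ht
        rcases ht with rfl | rfl
        · exact (hmem _ (hout y hy) _).2 (Submodule.subset_span (by simp))
        · rw [hz]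
          exact Submodule.smul_mem _ _ (Submodule.subset_span (by simp))
      exact h5 h4
    obtain ⟨γ, δ, hγ⟩ := Submodule.mem_span_pair.1 h3
    have hγ1 : γ = 1 := by
      have := congrArg f hγ
      simpa [hfn y hy, hfn y' hy', hfn _ (hout y hy), hfn _ (hout y' hy')] using this
    rw [hβ y hy, hβ y' hy', hγ1, one_smul] at hγ
    have h6 : (δ - 1) • (n y' - n y) = (β y' hy' - β y hy) • u := by
      linear_combination (norm := module) hγ
    by_contra hne
    by_cases hδ : δ - 1 = 0
    · rw [hδ, zero_smul] at h6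
      rcases smul_eq_zero.1 h6.symm with h | h
      · exact hne (sub_eq_zero.1 h)
      · exact M.vec_ne c h
    · refine hind ?_
      rw [← inv_smul_smul₀ hδ (n y' - n y), h6]
      exact Submodule.smul_mem _ _ (Submodule.smul_mem _ _ (Submodule.mem_span_singleton_self u))
  obtain ⟨y₀, hy₀⟩ := exists_out d D
  have hfin : FiniteDimensional F V := Module.finite_of_finrank_pos (by have := M.dim; omega)
  obtain ⟨t, htker, htu⟩ : ∃ t, f t = 0 ∧ t ∉ Submodule.span F {u} := by
    by_contra h
    push Not at h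
    have h1 : LinearMap.ker f ≤ Submodule.span F {u} := fun t ht => h t ht
    have h2 := Submodule.finrank_mono h1
    have h3 := finrank_span_singleton (K := F) (M.vec_ne c)
    have h4 := LinearMap.finrank_range_add_finrank_ker f
    have h5 : Module.finrank F (LinearMap.range f) ≤ 1 := by
      simpa using Submodule.finrank_le (LinearMap.range f)
    have := M.dim
    rw [hu] at h2
    omega
  have hconst : ∀ y (hy : y ∉ d.pts D), β y hy = β y₀ hy₀ := by
    intro y hy
    by_cases hind : n y - n y₀ ∈ Submodule.span F {u}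
    swap
    · exact hstep y₀ hy₀ y hy hind
    have hne : n y₀ + t ≠ 0 := fun h => by
      have := congrArg f h
      simp [hfn y₀ hy₀, htker] at this
    obtain ⟨y', a, ha, hy'v⟩ := M.exists_pt hne
    have hfy' : f (M.vec y') = a := by
      rw [hy'v, map_smul, map_add, hfn y₀ hy₀, htker]; simp
    have hy' : y' ∉ d.pts D := fun h => ha (by rw [← hfy']; exact (hD y').1 h)
    have hny' : n y' = n y₀ + t := by
      show (f (M.vec y'))⁻¹ • M.vec y' = _
      rw [hfy', hy'v, smul_smul, inv_mul_cancel₀ ha, one_smul]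
    have h1 : n y' - n y₀ ∉ Submodule.span F {u} := by
      rw [hny', add_sub_cancel_left]; exact htu
    have h2 : n y - n y' ∉ Submodule.span F {u} := fun h => htu (by
      have h3 := sub_mem hind h
      rw [show n y - n y₀ - (n y - n y') = t by rw [hny']; abel] at h3
      exact h3)
    rw [hstep y' hy' y hy h2, hstep y₀ hy₀ y' hy' h1]
  refine ⟨β y₀ hy₀ • u, by rw [map_smul, hfu, smul_zero], fun y => ?_⟩
  by_cases hy : y ∈ d.pts D
  · refine ⟨1, one_ne_zero, ?_⟩
    rw [d.fixes D x hx y hy, (hD y).1 hy, zero_smul, add_zero, one_smul]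
  · have h0 : f (M.vec y) ≠ 0 := fun h => hy ((hD y).2 h)
    have h1 : f (M.vec (x • y)) ≠ 0 := fun h => hout y hy ((hD _).2 h)
    refine ⟨f (M.vec (x • y)) * (f (M.vec y))⁻¹, mul_ne_zero h1 (inv_ne_zero h0), ?_⟩
    have h2 : (f (M.vec (x • y)))⁻¹ • M.vec (x • y) =
        (f (M.vec y))⁻¹ • M.vec y + β y₀ hy₀ • u := by rw [← hconst y hy]; exact hβ y hy
    conv_lhs => rw [← smul_inv_smul₀ h1 (M.vec (x • y)), h2]
    rw [smul_add, smul_add, smul_smul, smul_smul, smul_smul, smul_smul]
    congr 2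
    field_simp

/-- The action on the projective space. -/
noncomputable def Model.theta : G →* Equiv.Perm (Projectivization F V) :=
  (Equiv.permCongrHom M.e).toMonoidHom.comp (MulAction.toPermHom G Ω)

theorem Model.theta_apply (g : G) (P : Projectivization F V) :
    M.theta g P = M.e (g • M.e.symm P) := rfl

theorem Model.theta_injective : Function.Injective M.theta := by
  rw [injective_iff_map_eq_one]
  intro g hg
  refine d.faithful g fun p => M.e.injective ?_
  have h := congrArg (fun σ : Equiv.Perm (Projectivization F V) => σ (M.e p)) hg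
  simpa [Model.theta_apply] using h

theorem Model.image_T (K : d.Cen) :
    M.theta '' (⋃ D, (d.T D : Set G)) = transvPerms F V := by
  classical
  have step : ∀ {D : Β} {x : G}, x ∈ d.T D → ∀ f : Module.Dual F V,
      (∀ p, p ∈ d.pts D ↔ f (M.vec p) = 0) → ∃ z : V, f z = 0 ∧ ∀ (s : V) (hs : s ≠ 0),
        ∃ h : s + f s • z ≠ 0, M.theta x (Projectivization.mk F s hs) =
          Projectivization.mk F (s + f s • z) h := by
    intro D x hx f hD
    obtain ⟨z, hz, hall⟩ := M.transvection K hx f hD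
    refine ⟨z, hz, fun s hs => ?_⟩
    have hne : s + f s • z ≠ 0 := fun h => by
      have h1 := congrArg f h
      rw [map_add, map_smul, hz, smul_zero, add_zero, map_zero] at h1
      rw [h1, zero_smul, add_zero] at h
      exact hs h
    refine ⟨hne, ?_⟩
    set y := M.e.symm (Projectivization.mk F s hs) with hy
    obtain ⟨a, ha, hay⟩ := hall y
    obtain ⟨b, hb⟩ := Projectivization.exists_smul_eq_mk_rep F s hs
    have hvy : M.vec y = (b : F) • s := by
      rw [Model.vec, hy, Equiv.apply_symm_apply]; exact hb.symm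
    rw [Model.theta_apply, ← hy, ← M.mk_vec, Projectivization.mk_eq_mk_iff']
    exact ⟨a * b, by rw [hay, hvy, map_smul, mul_smul, smul_add, smul_assoc]⟩
  ext σ
  constructor
  · rintro ⟨x, hx, rfl⟩
    obtain ⟨D, hxD⟩ := Set.mem_iUnion.1 hx
    obtain ⟨f, -, hD⟩ := M.hyp D
    obtain ⟨z, hz, hs⟩ := step hxD f hD
    exact ⟨f, z, hz, hs⟩
  · rintro ⟨f, z, hz, hσ⟩
    by_cases hf : f = 0
    · obtain ⟨D⟩ : Nonempty Β := Fintype.card_pos_iff.1 (by
        rw [d.card_eq]; have := d.kv; omega)
      refine ⟨1, Set.mem_iUnion.2 ⟨D, one_mem _⟩, ?_⟩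
      rw [map_one]
      refine Equiv.ext fun P => ?_
      induction P using Projectivization.ind with
      | h s hs =>
        obtain ⟨h, he⟩ := hσ s hs
        rw [he, Equiv.Perm.one_apply, Projectivization.mk_eq_mk_iff']
        exact ⟨1, by simp [hf]⟩
    obtain ⟨D, hD⟩ := M.blk f hf
    obtain ⟨y, hy⟩ := exists_out d D
    have h0 : f (M.vec y) ≠ 0 := fun h => hy ((hD y).2 h)
    obtain ⟨hne, he⟩ := hσ (M.vec y) (M.vec_ne y)
    set p' := M.e.symm (σ (M.e y)) with hp'
    have hep : M.e p' = Projectivization.mk F (M.vec y + f (M.vec y) • z) hne := by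
      rw [hp', Equiv.apply_symm_apply, ← M.mk_vec y, he]
    have hp'D : p' ∉ d.pts D := fun h => by
      have h1 : f (M.vec p') = 0 := (hD p').1 h
      rw [← M.mk_vec p', Projectivization.mk_eq_mk_iff'] at hep
      obtain ⟨a, ha⟩ := hep
      have ha0 : a ≠ 0 := fun ha0 => M.vec_ne p' (by rw [← ha, ha0, zero_smul])
      rw [← ha, map_smul, map_add, map_smul, hz, smul_zero, add_zero, smul_eq_mul] at h1
      exact h0 ((mul_eq_zero.1 h1).resolve_left ha0)
    obtain ⟨x, hx, hxy⟩ := K.trans D y p' hy hp'D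
    refine ⟨x, Set.mem_iUnion.2 ⟨D, hx⟩, ?_⟩
    obtain ⟨z', hz', hall⟩ := step hx f hD
    have hzz : z' = z := by
      obtain ⟨h', he'⟩ := hall (M.vec y) (M.vec_ne y)
      rw [Model.theta_apply, M.mk_vec, Equiv.symm_apply_apply, hxy, hep,
        Projectivization.mk_eq_mk_iff'] at he'
      obtain ⟨a, ha⟩ := he'
      have ha1 : a = 1 := by
        have h1 := congrArg f ha
        simp only [map_smul, map_add, hz, hz', smul_eq_mul, mul_zero, add_zero] at h1
        exact (mul_eq_right₀ h0).1 h1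
      rw [ha1, one_smul] at ha
      exact smul_right_injective V h0 (add_left_cancel ha)
    refine Equiv.ext fun P => ?_
    induction P using Projectivization.ind with
    | h s hs =>
      obtain ⟨h1, he1⟩ := hall s hs
      obtain ⟨h2, he2⟩ := hσ s hs
      rw [he1, he2, Projectivization.mk_eq_mk_iff']
      exact ⟨1, by rw [one_smul, hzz]⟩

include M in
/-- The group generated by the axial groups. -/
theorem Model.concl [Fintype F] (K : d.Cen) {m : ℕ} (hm : 2 ≤ m)
    (hV : Module.finrank F V = m + 1) (hP : PSLBrick.{u}) : Concl G Ω := by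
  classical
  have hfin : FiniteDimensional F V := Module.finite_of_finrank_pos (by omega)
  let N : Subgroup G := Subgroup.closure (⋃ D, (d.T D : Set G))
  refine ⟨m, F, inferInstance, inferInstance, hm, ?_, N, ?_, ?_, ?_⟩
  · rw [Nat.card_congr M.e, Projectivization.card'', Nat.card_eq_fintype_card (α := F),
      Module.natCard_eq_pow_finrank (K := F), hV, Nat.card_eq_fintype_card]
  · constructor
    intro x hx g
    have h1 : N ≤ N.comap (MulAut.conj g).toMonoidHom := by
      refine (Subgroup.closure_le _).2 fun y hy => ?_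
      obtain ⟨D, hyD⟩ := Set.mem_iUnion.1 hy
      exact Subgroup.subset_closure (Set.mem_iUnion.2 ⟨g • D, d.conj_mem g D y hyD⟩)
    exact h1 hx
  · obtain ⟨φ⟩ := hP F V m (by omega) hV
    have h1 : N.map M.theta = Subgroup.closure (transvPerms F V) := by
      rw [MonoidHom.map_closure, M.image_T K]
    exact ⟨((N.equivMapOfInjective M.theta M.theta_injective).trans
      (MulEquiv.subgroupCongr h1)).trans φ⟩
  · rw [Subgroup.eq_bot_iff_forall]
    intro g hg
    have hgD : ∀ D : Β, g • D = D := by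
      intro D
      by_contra hne
      obtain ⟨x, hx, hx1⟩ := (Subgroup.bot_or_exists_ne_one (d.T D)).resolve_left (d.ne_bot D)
      have h2 : g * x * g⁻¹ = x := by
        rw [← Subgroup.mem_centralizer_iff.1 hg x
          (Subgroup.subset_closure (Set.mem_iUnion.2 ⟨D, hx⟩)), mul_inv_cancel_right]
      have h3 := d.conj_mem g D x hx
      rw [h2] at h3
      obtain ⟨p, hpg, hpD⟩ := Finset.not_subset.1 (fun hsub : d.pts (g • D) ⊆ d.pts D =>
        hne (d.pts_inj (Finset.eq_of_subset_of_card_le hsub (by rw [d.card_pts, d.card_pts]))))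
      exact K.free D x hx hx1 p hpD (d.fixes (g • D) x h3 p hpg)
    have h4 := d.eq_one_of_blocks (d.isAut g) (fun C => hgD C)
    exact d.faithful g fun p => by
      have := congrArg (fun σ : Equiv.Perm Ω => σ p) h4
      simpa using this

end Model

section Build

variable [Finite G] (d : Ax G Ω Β) (C₀ : Β)

/-- The group element of an axial vector. -/
def gv (x : d.TV C₀) : G := ((Additive.toMul x : d.T C₀) : G)

omit [Finite G] in
theorem gv_mem (x : d.TV C₀) : gv d C₀ x ∈ d.T C₀ := (Additive.toMul x : d.T C₀).2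

omit [Finite G] in
theorem gv_zero : gv d C₀ 0 = 1 := rfl

omit [Finite G] in
theorem gv_add (x y : d.TV C₀) : gv d C₀ (x + y) = gv d C₀ x * gv d C₀ y := rfl

omit [Finite G] in
theorem gv_eq_one {x : d.TV C₀} (h : gv d C₀ x = 1) : x = 0 := by
  have h1 : (Additive.toMul x : d.T C₀) = 1 := Subtype.ext h
  exact Additive.toMul.injective h1

omit [Finite G] in
theorem exists_gv {x : G} (h : x ∈ d.T C₀) : ∃ v : d.TV C₀, gv d C₀ v = x :=
  ⟨Additive.ofMul ⟨x, h⟩, rfl⟩

theorem exists_model (K : d.Cen) {F : Type} [Field F] [Fintype F] [Module F (d.TV C₀)]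
    (hq : Fintype.card F = K.q)
    (hsmul : ∀ (f : F) (c : Ω) (x : d.TV C₀), c ∈ d.pts C₀ →
      d.InE C₀ c (Additive.toMul x : d.T C₀) →
      d.InE C₀ c (Additive.toMul (f • x) : d.T C₀)) :
    ∃ m : ℕ, 2 ≤ m ∧ Module.finrank F (F × d.TV C₀) = m + 1 ∧
      Nonempty (Model d F (F × d.TV C₀)) := by
  classical
  have hfin : Finite (d.TV C₀) := inferInstanceAs (Finite (Additive (d.T C₀)))
  have : FiniteDimensional F (d.TV C₀) := Module.Finite.of_finite
  set g := gv d C₀ with hg
  have hgadd : ∀ a b, g (a + b) = g a * g b := fun _ _ => rfl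
  have hg1 : g 0 = 1 := rfl
  have hT : ∀ a, g a ∈ d.T C₀ := gv_mem d C₀
  have hgne : ∀ a, a ≠ 0 → g a ≠ 1 := fun a ha h => ha (gv_eq_one d C₀ h)
  -- centres
  have hEc : ∀ c, c ∈ d.pts C₀ → ∃ S : Submodule F (d.TV C₀),
      (∀ a, a ∈ S ↔ d.InE C₀ c (g a)) ∧ Nat.card S = K.q := by
    intro c hc
    refine ⟨{
      carrier := {a | d.InE C₀ c (g a)}
      add_mem' := fun {a b} ha hb => ⟨hT _, fun D hD => by
        rw [hgadd, mul_smul, hb.2 D hD, ha.2 D hD]⟩
      zero_mem' := ⟨hT _, fun D _ => by rw [hg1, one_smul]⟩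
      smul_mem' := fun f a ha => hsmul f c a hc ha }, fun a => Iff.rfl, ?_⟩
    refine (Nat.card_congr ?_).trans (K.card_E C₀ c hc)
    exact
      { toFun := fun a => ⟨g a.1, a.2⟩
        invFun := fun x => ⟨Additive.ofMul ⟨x.1, x.2.1⟩, x.2⟩
        left_inv := fun a => rfl
        right_inv := fun x => rfl }
  choose! E hE hEcard using hEc
  have hu : ∀ c, c ∈ d.pts C₀ → ∃ a, a ∈ E c ∧ a ≠ 0 := by
    intro c hc
    by_contra h
    push Not at h
    have h1 : E c = ⊥ := (Submodule.eq_bot_iff _).2 h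
    have h2 := hEcard c hc
    rw [h1, Nat.card_unique] at h2
    have := K.two_le_q
    omega
  choose! u huE hu0 using hu
  have hline : ∀ c, c ∈ d.pts C₀ → ∀ a ∈ E c, ∃ f : F, f • u c = a := by
    intro c hc a ha
    have hinj : Function.Injective (fun f : F => (⟨f • u c, (E c).smul_mem f (huE c hc)⟩ : E c)) :=
      fun f f' h => smul_left_injective F (hu0 c hc) (congrArg Subtype.val h)
    have hbij := hinj.bijective_of_nat_card_le (by
      rw [hEcard c hc, Nat.card_eq_fintype_card, hq])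
    obtain ⟨f, hf⟩ := hbij.2 ⟨a, ha⟩
    exact ⟨f, congrArg Subtype.val hf⟩
  have hcen : ∀ a : d.TV C₀, a ≠ 0 → ∃ c ∈ d.pts C₀, a ∈ E c ∧
      (∀ D : Β, g a • D = D ↔ c ∈ d.pts D) := by
    intro a ha
    obtain ⟨c, hc, h⟩ := K.centre C₀ (g a) (hT a) (hgne a ha)
    exact ⟨c, hc, (hE c hc a).2 ⟨hT a, fun D hD => (h D).2 hD⟩, h⟩
  -- coordinates
  obtain ⟨p₀, hp₀⟩ := exists_out d C₀
  have hout : ∀ a, g a • p₀ ∉ d.pts C₀ := fun a h => hp₀ (by
    have h1 := d.fixes C₀ (g a) (hT a) _ h
    rw [smul_left_cancel_iff] at h1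
    rwa [h1] at h)
  have hreg : ∀ p, p ∉ d.pts C₀ → ∃ a, g a • p₀ = p := by
    intro p hp
    obtain ⟨x, hx, hxp⟩ := K.trans C₀ p₀ p hp₀ hp
    obtain ⟨a, rfl⟩ := exists_gv d C₀ hx
    exact ⟨a, hxp⟩
  choose! co hco using hreg
  have hfree : ∀ a b, g a • p₀ = g b • p₀ → a = b := by
    intro a b h
    by_contra hne
    refine K.free C₀ (g (a - b)) (hT _) (hgne _ (sub_ne_zero.2 hne)) (g b • p₀) (hout b) ?_
    rw [← mul_smul, ← hgadd, sub_add_cancel, h]
  let pt : Ω → F × d.TV C₀ := fun p => if p ∈ d.pts C₀ then (0, u p) else (1, co p)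
  have hptI : ∀ p, p ∈ d.pts C₀ → pt p = (0, u p) := fun p hp => if_pos hp
  have hptO : ∀ p, p ∉ d.pts C₀ → pt p = (1, co p) := fun p hp => if_neg hp
  have hpt0 : ∀ p, pt p ≠ 0 := fun p h => by
    by_cases hp : p ∈ d.pts C₀
    · rw [hptI p hp] at h; exact hu0 p hp (congrArg Prod.snd h)
    · rw [hptO p hp] at h; exact one_ne_zero (congrArg Prod.fst h)
  let Φ : Ω → Projectivization F (F × d.TV C₀) := fun p => Projectivization.mk F (pt p) (hpt0 p)
  have hΦinj : Function.Injective Φ := by
    intro p r h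
    obtain ⟨a, ha⟩ := (Projectivization.mk_eq_mk_iff' F _ _ _ _).1 h
    by_cases hp : p ∈ d.pts C₀
    · by_cases hr : r ∈ d.pts C₀
      · rw [hptI p hp, hptI r hr, Prod.smul_mk, Prod.mk.injEq] at ha
        have h1 : u p ∈ E r := ha.2 ▸ (E r).smul_mem a (huE r hr)
        obtain ⟨c, -, -, hc⟩ := hcen (u p) (hu0 p hp)
        rw [centre_eq d ((hE p hp _).1 (huE p hp)) hc, centre_eq d ((hE r hr _).1 h1) hc]
      · rw [hptI p hp, hptO r hr, Prod.smul_mk, Prod.mk.injEq, smul_eq_mul, mul_one] at ha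
        exact absurd (by rw [← ha.2, ha.1, zero_smul]) (hu0 p hp)
    · by_cases hr : r ∈ d.pts C₀
      · rw [hptO p hp, hptI r hr, Prod.smul_mk, Prod.mk.injEq, smul_zero] at ha
        exact absurd ha.1 zero_ne_one
      · rw [hptO p hp, hptO r hr, Prod.smul_mk, Prod.mk.injEq, smul_eq_mul, mul_one] at ha
        rw [← hco p hp, ← hco r hr, ← ha.2, ha.1, one_smul]
  have hΦsurj : Function.Surjective Φ := by
    intro P
    induction P using Projectivization.ind with
    | h s hs =>
      obtain ⟨a, b⟩ := s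
      by_cases ha : a = 0
      · have hb : b ≠ 0 := fun hb => hs (by rw [ha, hb]; rfl)
        obtain ⟨c, hc, hbc, -⟩ := hcen b hb
        obtain ⟨f, hf⟩ := hline c hc b hbc
        refine ⟨c, ((Projectivization.mk_eq_mk_iff' F _ _ _ _).2 ⟨f, ?_⟩).symm⟩
        rw [hptI c hc, Prod.smul_mk, smul_zero, hf, ha]
      · refine ⟨g (a⁻¹ • b) • p₀, ((Projectivization.mk_eq_mk_iff' F _ _ _ _).2 ⟨a, ?_⟩).symm⟩
        have h1 : co (g (a⁻¹ • b) • p₀) = a⁻¹ • b := hfree _ _ (hco _ (hout _))
        rw [hptO _ (hout _), h1, Prod.smul_mk, smul_eq_mul, mul_one, smul_inv_smul₀ ha]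
  let e := Equiv.ofBijective Φ ⟨hΦinj, hΦsurj⟩
  have hrep : ∀ (f : Module.Dual F (F × d.TV C₀)) p, f (e p).rep = 0 ↔ f (pt p) = 0 := by
    intro f p
    obtain ⟨a, ha⟩ := Projectivization.exists_smul_eq_mk_rep F (pt p) (hpt0 p)
    show f (Projectivization.mk F (pt p) (hpt0 p)).rep = 0 ↔ _
    rw [← ha, Units.smul_def, map_smul, smul_eq_zero]
    simp
  -- dimension
  obtain ⟨D₁, hD₁⟩ : ∃ D, D ≠ C₀ := by
    by_contra h
    push Not at h
    have h1 : Fintype.card Β ≤ 1 := Fintype.card_le_one_iff.2 fun a b => by rw [h a, h b]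
    rw [d.card_eq] at h1
    have := d.kv
    omega
  have hX : ∀ D, D ≠ C₀ → ∃ X : Submodule F (d.TV C₀),
      (∀ a, a ∈ X ↔ g a • D = D) ∧ Nat.card X * K.q = Nat.card (d.TV C₀) ∧
        K.q ≤ Nat.card X := by
    intro D hD
    refine ⟨{
      carrier := {a | g a • D = D}
      add_mem' := fun {a b} ha hb => by
        show g (a + b) • D = D
        rw [hgadd, mul_smul, hb, ha]
      zero_mem' := by
        show g 0 • D = D
        rw [hg1, one_smul]
      smul_mem' := fun f a ha => by
        show g (f • a) • D = D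
        by_cases ha0 : a = 0
        · rw [ha0, smul_zero, hg1, one_smul]
        · obtain ⟨c, hc, hac, h⟩ := hcen a ha0
          exact ((hE c hc _).1 ((E c).smul_mem f hac)).2 D ((h D).1 ha) }, fun a => Iff.rfl, ?_⟩
    have key : ∀ W : Submodule F (d.TV C₀), (∀ a, a ∈ W ↔ g a • D = D) →
        Nat.card W = Nat.card {x : G // x ∈ d.T C₀ ∧ x • D = D} := fun W hW => Nat.card_congr
      { toFun := fun a => ⟨g a.1, hT _, (hW _).1 a.2⟩
        invFun := fun x => ⟨Additive.ofMul ⟨x.1, x.2.1⟩, (hW _).2 x.2.2⟩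
        left_inv := fun a => rfl
        right_inv := fun x => rfl }
    rw [key _ fun a => Iff.rfl]
    exact ⟨(K.card_X C₀ D (Ne.symm hD)).trans (Nat.card_congr Additive.ofMul),
      K.q_le C₀ D (Ne.symm hD)⟩
  choose! X hXmem hXcard hXq using hX
  have hqF : Nat.card F = K.q := by rw [Nat.card_eq_fintype_card, hq]
  have hq2 := K.two_le_q
  set a := Module.finrank F (d.TV C₀) with ha
  have hXdim : ∀ D, D ≠ C₀ → Module.finrank F (X D) + 1 = a ∧ 2 ≤ a := by
    intro D hD
    have h1 := hXcard D hD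
    have h2 := hXq D hD
    rw [Module.natCard_eq_pow_finrank (K := F), Module.natCard_eq_pow_finrank (K := F) (V := d.TV C₀),
      hqF, ← pow_succ] at h1
    have h3 := Nat.pow_right_injective hq2 h1
    rw [Module.natCard_eq_pow_finrank (K := F), hqF] at h2
    have h4 : Module.finrank F (X D) ≠ 0 := fun h => by rw [h, pow_zero] at h2; omega
    exact ⟨h3, by omega⟩
  have ha2 : 2 ≤ a := (hXdim D₁ hD₁).2
  have hV : Module.finrank F (F × d.TV C₀) = a + 1 := by
    rw [Module.finrank_prod, Module.finrank_self, Nat.add_comm]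
  -- hyperplanes
  have hhyp : ∀ D : Β, ∃ f : Module.Dual F (F × d.TV C₀), f ≠ 0 ∧
      ∀ p, p ∈ d.pts D ↔ f (pt p) = 0 := by
    intro D
    by_cases hD : D = C₀
    · subst hD
      refine ⟨LinearMap.fst F F _, fun h => ?_, fun p => ?_⟩
      · exact one_ne_zero (LinearMap.congr_fun h ((1 : F), (0 : d.TV D)))
      · by_cases hp : p ∈ d.pts D
        · simp [hp, hptI p hp]
        · simp [hp, hptO p hp]
    obtain ⟨q₁, hq₁D, hq₁C⟩ := Finset.not_subset.1 (fun h : d.pts D ⊆ d.pts C₀ =>
      hD (d.pts_inj (Finset.eq_of_subset_of_card_le h (by rw [d.card_pts, d.card_pts]))))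
    have hfr : Module.finrank F ((d.TV C₀) ⧸ X D) = 1 := by
      have := Submodule.finrank_quotient_add_finrank (X D)
      have := (hXdim D hD).1
      omega
    let φ : (d.TV C₀ ⧸ X D) ≃ₗ[F] F :=
      LinearEquiv.ofFinrankEq _ _ (by rw [hfr, Module.finrank_self])
    let h : Module.Dual F (d.TV C₀) := φ.toLinearMap.comp (X D).mkQ
    have hh : ∀ b, h b = 0 ↔ b ∈ X D := fun b => by
      show φ (Submodule.Quotient.mk b) = 0 ↔ _
      rw [LinearEquiv.map_eq_zero_iff, Submodule.Quotient.mk_eq_zero]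
    refine ⟨h.comp (LinearMap.snd F F _) - h (co q₁) • LinearMap.fst F F _, fun hzero => ?_,
      fun p => ?_⟩
    · have h1 : ∀ b, b ∈ X D := fun b => by
        have := LinearMap.congr_fun hzero ((0 : F), b)
        simpa [hh] using this
      have h2 : X D = ⊤ := Submodule.eq_top_iff'.2 h1
      rw [h2] at hfr
      have h3 : Module.finrank F (d.TV C₀ ⧸ (⊤ : Submodule F (d.TV C₀))) = 0 :=
        Module.finrank_zero_of_subsingleton
      omega
    by_cases hp : p ∈ d.pts C₀
    · rw [hptI p hp]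
      simp only [LinearMap.sub_apply, LinearMap.comp_apply, LinearMap.snd_apply,
        LinearMap.smul_apply, LinearMap.fst_apply, smul_zero, sub_zero]
      rw [hh, hXmem D hD]
      obtain ⟨c, hc, huc, hiff⟩ := hcen (u p) (hu0 p hp)
      have hpc : p = c := centre_eq d ((hE p hp _).1 (huE p hp)) hiff
      rw [hiff, hpc]
    · rw [hptO p hp]
      simp only [LinearMap.sub_apply, LinearMap.comp_apply, LinearMap.snd_apply,
        LinearMap.smul_apply, LinearMap.fst_apply, smul_eq_mul, mul_one]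
      rw [← map_sub, hh, hXmem D hD]
      have hmove : g (co p - co q₁) • q₁ = p := by
        calc g (co p - co q₁) • q₁ = g (co p - co q₁) • g (co q₁) • p₀ := by rw [hco q₁ hq₁C]
          _ = p := by rw [← mul_smul, ← hgadd, sub_add_cancel, hco p hp]
      constructor
      · intro hpD
        by_contra hne
        have h1 := d.inter_moved (d.isAut (g (co p - co q₁))) (fun r hr => d.fixes C₀ _ (hT _) r hr)
          (D := D) hne
        have h2 : p ∈ d.pts D ∩ d.pts (g (co p - co q₁) • D) := Finset.mem_inter.2 ⟨hpD, by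
          have hkey := (d.smul_pts (g (co p - co q₁)) q₁ D).2 hq₁D
          rwa [hmove] at hkey⟩
        have h3 : p ∈ d.pts D ∩ d.pts C₀ := by
          have h4 : d.pts D ∩ d.pts (g (co p - co q₁) • D) = d.pts D ∩ d.pts C₀ := h1
          rwa [h4] at h2
        exact hp (Finset.mem_inter.1 h3).2
      · intro hfix
        have hkey := (d.smul_pts (g (co p - co q₁)) q₁ D).2 hq₁D
        rwa [hfix, hmove] at hkey
  choose H hH0 hH using hhyp
  let Ψ : Β → Projectivization F (Module.Dual F (F × d.TV C₀)) :=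
    fun D => Projectivization.mk F (H D) (hH0 D)
  have hΨinj : Function.Injective Ψ := by
    intro D D' h
    obtain ⟨b, hb⟩ := (Projectivization.mk_eq_mk_iff' F _ _ _ _).1 h
    have hb0 : b ≠ 0 := fun hb0 => hH0 D (by rw [← hb, hb0, zero_smul])
    refine d.pts_inj (Finset.ext fun p => ?_)
    rw [hH, hH, ← hb]
    simp [hb0]
  have hdualfin : Finite (Module.Dual F (F × d.TV C₀)) := Module.finite_of_finite F
  have hΨsurj : Function.Surjective Ψ := by
    refine (hΨinj.bijective_of_nat_card_le ?_).2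
    rw [Nat.card_eq_fintype_card (α := Β), d.card_eq, ← Nat.card_eq_fintype_card,
      Nat.card_congr e, Projectivization.card_of_finrank F _ hV,
      Projectivization.card_of_finrank F _ (Subspace.dual_finrank_eq.trans hV)]
  refine ⟨a, ha2, hV, ⟨{ e := e, blk := ?_, hyp := ?_, dim := by omega }⟩⟩
  · intro f hf
    obtain ⟨D, hD⟩ := hΨsurj (Projectivization.mk F f hf)
    obtain ⟨b, hb⟩ := (Projectivization.mk_eq_mk_iff' F _ _ _ _).1 hD
    have hb0 : b ≠ 0 := fun hb0 => hH0 D (by rw [← hb, hb0, zero_smul])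
    refine ⟨D, fun p => ?_⟩
    rw [hH, hrep, ← hb]
    simp [hb0]
  · intro D
    exact ⟨H D, hH0 D, fun p => by rw [hH, hrep]⟩

end Build

end Recog

/-- Brick Proj. -/
theorem proj (hP : PSLBrick.{u}) : ProjBrick.{u, v, w} := by
  intro G Ω Β _ _ _ _ _ _ _ _ d K C₀ F _ _ _ hq hsmul
  obtain ⟨m, hm, hV, ⟨M⟩⟩ := Recog.exists_model d C₀ K hq hsmul
  exact M.concl K hm hV hP

end Cfsg.Agent.Lib.AxialDesign74
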