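import Cfsg.Agent.Lib.AxialDesign74.Design

/-!
An automorphism of a symmetric design fixing exactly the points of a block `C` fixes a block `D`
according to `D ∩ C` alone: with `g a` the excess of fixed blocks through `a ∈ C`, the sum of the
squares of `n χ(D) - ∑ g` over the blocks `D ≠ C` vanishes.
-/

set_option autoImplicit false

namespace Cfsg.Agent.Lib.AxialDesign74

open Finset

universe v w

namespace Des

variable {Ω : Type v} {Β : Type w} [Fintype Ω] [Fintype Β] [DecidableEq Ω] [DecidableEq Β]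
  (d : Des Ω Β)

/-- Whether a block is fixed depends only on its intersection with the axis. -/
theorem fixed_of_inter {σ : Equiv.Perm Ω} {ρ : Equiv.Perm Β} {C : Β} (h : d.IsAut σ ρ)
    (hC : ∀ p ∈ d.pts C, σ p = p) (hfree : ∀ p, p ∉ d.pts C → σ p ≠ p) {D D' : Β} (hD : D ≠ C)
    (hD' : D' ≠ C) (hW : d.pts D ∩ d.pts C = d.pts D' ∩ d.pts C) (hfix : ρ D = D) :
    ρ D' = D' := by
  classical
  set Φ : Finset Β := (univ.filter fun E => ρ E = E).erase C with hΦdef
  have hCfix := d.axis_fixed h hC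
  have hmemΦ : ∀ E, E ∈ Φ ↔ E ≠ C ∧ ρ E = E := fun E => by simp [hΦdef]
  have hFk : (univ.filter fun E => ρ E = E).card = d.k := by
    rw [← d.fix_eq h, ← d.card_pts C]
    refine congrArg Finset.card ?_
    ext p
    simp only [mem_filter, mem_univ, true_and]
    exact ⟨fun hp => by by_contra hn; exact hfree p hn hp, hC p⟩
  have hΦ : Φ.card = d.k - 1 := by
    rw [hΦdef, card_erase_of_mem (by simp [hCfix]), hFk]
  obtain ⟨n, hn⟩ : ∃ n, d.k = d.lam + n := ⟨d.k - d.lam, by have := d.two_le; omega⟩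
  have hk1 : 1 ≤ d.k := by have := d.two_le; omega
  let f : Ω → ℤ := fun a => ∑ E ∈ Φ, if a ∈ d.pts E then 1 else 0
  have hf : ∀ a, f a = ((Φ.filter fun E => a ∈ d.pts E).card : ℤ) := fun a => by
    simp [f, Finset.sum_boole]
  have hΦC : ∀ E ∈ Φ, E ≠ C := fun E hE => ((hmemΦ E).1 hE).1
  have hinterC : ∀ E ∈ Φ, ∑ a ∈ d.pts C, (if a ∈ d.pts E then (1 : ℤ) else 0) = d.lam := by
    intro E hE
    rw [Finset.sum_boole, Finset.filter_mem_eq_inter, d.pair_blk C E (hΦC E hE).symm]
  -- the fixed blocks through an outside point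
  have hle : ∀ p ∈ (d.pts C)ᶜ, f p ≤ d.lam := by
    intro p hp
    rw [mem_compl] at hp
    rw [hf]
    refine Int.ofNat_le.2 (le_trans (card_le_card fun E hE => ?_)
      (le_of_eq (d.pair_pts p (σ p) (Ne.symm (hfree p hp)))))
    obtain ⟨hE, hpE⟩ := mem_filter.1 hE
    refine mem_filter.2 ⟨mem_univ _, hpE, ?_⟩
    have := (h p E).2 hpE
    rwa [((hmemΦ E).1 hE).2] at this
  have hsumF : ∑ a ∈ d.pts C, f a = ((d.k : ℤ) - 1) * d.lam := by
    simp only [f]
    rw [Finset.sum_comm, Finset.sum_congr rfl hinterC, sum_const, hΦ, nsmul_eq_mul]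
    push_cast [Nat.cast_sub hk1]
    ring
  have hsumAll : ∑ a, f a = ((d.k : ℤ) - 1) * d.k := by
    simp only [f]
    rw [Finset.sum_comm, Finset.sum_congr rfl (g := fun _ => (d.k : ℤ))
      (fun E _ => by rw [Finset.sum_boole, Finset.filter_univ_mem, d.card_pts]),
      sum_const, hΦ, nsmul_eq_mul]
    push_cast [Nat.cast_sub hk1]
    ring
  have hlam : (d.lam : ℤ) * ((Fintype.card Ω : ℤ) - d.k) = ((d.k : ℤ) - 1) * (d.k - d.lam) := by
    obtain ⟨p⟩ : Nonempty Ω := Fintype.card_pos_iff.1 (by have := d.kv; omega)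
    have h1 : ∑ q ∈ univ.erase p, ∑ E : Β, (if p ∈ d.pts E ∧ q ∈ d.pts E then (1 : ℤ) else 0)
        = ((d.k : ℤ)) * (d.k - 1) := by
      rw [Finset.sum_comm, Finset.sum_congr rfl (g := fun E : Β =>
        if p ∈ d.pts E then ((d.k : ℤ) - 1) else 0) (fun E _ => ?_), ← Finset.sum_filter,
        sum_const, d.card_star, nsmul_eq_mul]
      by_cases hpE : p ∈ d.pts E
      · simp only [hpE, true_and, if_true]
        rw [Finset.sum_boole, show ((univ.erase p).filter fun q => q ∈ d.pts E)
          = (d.pts E).erase p by ext q; simp [and_comm], card_erase_of_mem hpE, d.card_pts]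
        push_cast [Nat.cast_sub hk1]
        ring
      · simp [hpE]
    rw [Finset.sum_congr rfl (g := fun _ => (d.lam : ℤ)) (fun q hq => by
      rw [Finset.sum_boole, d.pair_pts p q (mem_erase.1 hq).1.symm]), sum_const,
      card_erase_of_mem (mem_univ _), card_univ, nsmul_eq_mul] at h1
    have hv : 1 ≤ Fintype.card Ω := by have := d.kv; omega
    rw [Nat.cast_sub hv, Nat.cast_one] at h1
    linear_combination h1
  have hsumO : ∑ a ∈ (d.pts C)ᶜ, f a = ∑ a ∈ (d.pts C)ᶜ, (d.lam : ℤ) := by
    have h1 := Finset.sum_add_sum_compl (d.pts C) f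
    rw [hsumAll, hsumF] at h1
    rw [sum_const, card_compl, d.card_pts, nsmul_eq_mul,
      Nat.cast_sub (by have := d.kv; omega)]
    linear_combination h1 - hlam
  have hout : ∀ p ∈ (d.pts C)ᶜ, f p = d.lam :=
    (Finset.sum_eq_sum_iff_of_le hle).1 hsumO
  -- the second moment
  have hcardE : ∀ E : Β, ((d.pts E).card : ℤ) = d.k := fun E => by rw [d.card_pts]
  have hsqAll : ∑ a, f a * f a = ((d.k : ℤ) - 1) * d.k + ((d.k : ℤ) - 1) * (d.k - 2) * d.lam := by
    simp only [f, Finset.sum_mul_sum]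
    rw [Finset.sum_comm, Finset.sum_congr rfl (g := fun _ => (d.k : ℤ) + ((d.k : ℤ) - 2) * d.lam)
      (fun E hE => ?_), sum_const, hΦ, nsmul_eq_mul]
    · push_cast [Nat.cast_sub hk1]
      ring
    · rw [Finset.sum_comm]
      have key : ∀ E' : Β, ∑ a : Ω, ((if a ∈ d.pts E then (1 : ℤ) else 0) *
          if a ∈ d.pts E' then 1 else 0) = (d.lam : ℤ) + if E = E' then (d.k : ℤ) - d.lam else 0 := by
        intro E'
        simp only [ite_mul, one_mul, zero_mul, ← ite_and]
        rw [Finset.sum_boole, show (univ.filter fun a => a ∈ d.pts E ∧ a ∈ d.pts E')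
          = d.pts E ∩ d.pts E' by ext a; simp]
        by_cases hEE : E = E'
        · subst hEE
          rw [if_pos rfl, inter_self, d.card_pts]
          ring
        · rw [if_neg hEE, d.pair_blk E E' hEE, add_zero]
      rw [Finset.sum_congr rfl fun E' _ => key E', sum_add_distrib, sum_const,
        Finset.sum_ite_eq, if_pos hE, hΦ, nsmul_eq_mul]
      push_cast [Nat.cast_sub hk1]
      ring
  have hsqC : ∑ a ∈ d.pts C, f a * f a
      = ((d.k : ℤ) - 1) * (d.k - 2 * d.lam + d.lam * d.lam) := by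
    have h1 := Finset.sum_add_sum_compl (d.pts C) fun a => f a * f a
    rw [hsqAll, Finset.sum_congr rfl (fun a ha => by rw [hout a ha] :
      ∀ a ∈ (d.pts C)ᶜ, f a * f a = (d.lam : ℤ) * d.lam), sum_const, card_compl, d.card_pts,
      nsmul_eq_mul, Nat.cast_sub (by have := d.kv; omega)] at h1
    linear_combination h1 - (d.lam : ℤ) * hlam
  -- the excess
  let g : Ω → ℤ := fun a => f a - ((d.lam : ℤ) - 1)
  have hnZ : (d.k : ℤ) = d.lam + n := by exact_mod_cast hn
  have hg1 : ∑ a ∈ d.pts C, g a = n := by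
    simp only [g]
    rw [Finset.sum_sub_distrib, hsumF, sum_const, d.card_pts, nsmul_eq_mul]
    linear_combination hnZ
  have hg2 : ∑ a ∈ d.pts C, g a * g a = (n : ℤ) * n := by
    have : ∀ a, g a * g a = f a * f a - 2 * ((d.lam : ℤ) - 1) * f a
        + ((d.lam : ℤ) - 1) * ((d.lam : ℤ) - 1) := fun a => by simp only [g]; ring
    rw [Finset.sum_congr rfl fun a _ => this a, sum_add_distrib, Finset.sum_sub_distrib,
      ← Finset.mul_sum, hsqC, hsumF, sum_const, d.card_pts, nsmul_eq_mul]
    rw [hnZ]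
    ring
  -- the identity
  let S : Finset Β := univ.erase C
  let χ : Β → ℤ := fun E => if ρ E = E then 1 else 0
  let Gs : Β → ℤ := fun E => ∑ a ∈ d.pts C, if a ∈ d.pts E then g a else 0
  have hΦS : S.filter (fun E => ρ E = E) = Φ := by
    ext E
    simp [S, hmemΦ]
  have hχ : ∑ E ∈ S, χ E = (d.k : ℤ) - 1 := by
    simp only [χ]
    rw [Finset.sum_boole, hΦS, hΦ]
    push_cast [Nat.cast_sub hk1]
    ring
  have hχG : ∑ E ∈ S, χ E * Gs E = (n : ℤ) * (d.k - 1) := by
    simp only [χ, ite_mul, one_mul, zero_mul]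
    rw [← Finset.sum_filter, hΦS]
    simp only [Gs]
    rw [Finset.sum_comm, Finset.sum_congr rfl (g := fun a => g a * g a + ((d.lam : ℤ) - 1) * g a)
      (fun a _ => ?_), sum_add_distrib, ← Finset.mul_sum, hg1, hg2]
    · rw [hnZ]; ring
    · rw [← Finset.sum_filter, sum_const, nsmul_eq_mul, ← hf]
      simp only [g]
      ring
  have hGG : ∑ E ∈ S, Gs E * Gs E = (n : ℤ) * n * (d.k - 1) := by
    simp only [Gs, Finset.sum_mul_sum]
    rw [Finset.sum_comm, Finset.sum_congr rfl (g := fun a =>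
      ((d.lam : ℤ) - 1) * (∑ b ∈ d.pts C, g b) * g a + ((d.k : ℤ) - d.lam) * (g a * g a))
      (fun a ha => ?_), sum_add_distrib, ← Finset.mul_sum, ← Finset.mul_sum, hg1, hg2]
    · rw [hnZ]; ring
    · rw [Finset.sum_comm]
      have key : ∀ b ∈ d.pts C, ∑ E ∈ S, ((if a ∈ d.pts E then g a else 0) *
          if b ∈ d.pts E then g b else 0)
          = ((d.lam : ℤ) - 1) * g b * g a + if a = b then ((d.k : ℤ) - d.lam) * (g a * g b) else 0 := by
        intro b hb
        simp only [ite_mul, zero_mul, mul_ite, mul_zero, ← ite_and]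
        rw [← Finset.sum_filter, sum_const, nsmul_eq_mul, show (S.filter fun E =>
          b ∈ d.pts E ∧ a ∈ d.pts E) = (univ.filter fun E => a ∈ d.pts E ∧ b ∈ d.pts E).erase C by
            ext E; simp [S, and_comm], card_erase_of_mem (by simp [ha, hb])]
        by_cases hab : a = b
        · subst hab
          simp only [and_self, if_true]
          rw [d.card_star, Nat.cast_sub hk1]
          push_cast
          ring
        · have hlam1 : 1 ≤ d.lam := by
            rw [← d.pair_pts a b hab]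
            exact card_pos.2 ⟨C, by simp [ha, hb]⟩
          rw [if_neg hab, d.pair_pts a b hab, Nat.cast_sub hlam1]
          push_cast
          ring
      rw [Finset.sum_congr rfl key, sum_add_distrib, Finset.sum_ite_eq, if_pos ha,
        ← Finset.sum_mul, ← Finset.mul_sum]
  have hzero : ∑ E ∈ S, ((n : ℤ) * χ E - Gs E) * ((n : ℤ) * χ E - Gs E) = 0 := by
    have hχ2 : ∀ E, χ E * χ E = χ E := fun E => by simp only [χ]; split_ifs <;> simp
    have : ∀ E, ((n : ℤ) * χ E - Gs E) * ((n : ℤ) * χ E - Gs E)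
        = (n : ℤ) * n * χ E - 2 * n * (χ E * Gs E) + Gs E * Gs E := fun E => by
      linear_combination ((n : ℤ) * n) * hχ2 E
    rw [Finset.sum_congr rfl fun E _ => this E, sum_add_distrib, Finset.sum_sub_distrib,
      ← Finset.mul_sum, ← Finset.mul_sum, hχ, hχG, hGG]
    ring
  have hall : ∀ E ∈ S, (n : ℤ) * χ E = Gs E := fun E hE => sub_eq_zero.1 (mul_self_eq_zero.1
    ((Finset.sum_eq_zero_iff_of_nonneg fun E _ => mul_self_nonneg _).1 hzero E hE))
  have hG : Gs D = Gs D' := by
    refine Finset.sum_congr rfl fun a ha => ?_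
    have : a ∈ d.pts D ↔ a ∈ d.pts D' := by
      have := Finset.ext_iff.1 hW a
      simpa [ha] using this
    simp only [this]
  have hEq := (hall D (by simp [S, hD])).trans (hG.trans (hall D' (by simp [S, hD'])).symm)
  by_contra hne
  simp only [χ, if_pos hfix, if_neg hne, mul_one, mul_zero] at hEq
  have := d.two_le
  omega

end Des

end Cfsg.Agent.Lib.AxialDesign74
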