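import Mathlib

/-!
A nontrivial solvable normal subgroup contains a nontrivial abelian one.
-/

set_option autoImplicit false

namespace Cfsg.Agent.Lib.AxialDesign74

variable {G : Type*} [Group G]

/-- The last nontrivial term of the derived series. -/
theorem exists_abelian_normal_le (H : Subgroup G) (N : Subgroup H) (hN : N.Normal) (hN1 : N ≠ ⊥)
    (hsol : Group.IsSolvable N) :
    ∃ A : Subgroup G, A ≤ H ∧ A ≠ ⊥ ∧ (∀ h ∈ H, ∀ x ∈ A, h * x * h⁻¹ ∈ A) ∧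
      (∀ x ∈ A, ∀ y ∈ A, x * y = y * x) ∧ ∀ x ∈ A, ∃ y ∈ N, (y : G) = x := by
  classical
  have hex : ∃ n, derivedSeries N n = ⊥ := (Group.isSolvable_def _).1 hsol
  obtain ⟨n, hn⟩ : ∃ n, Nat.find hex = n + 1 := by
    refine Nat.exists_eq_succ_of_ne_zero fun h0 => hN1 ?_
    have h := Nat.find_spec hex
    rw [h0, derivedSeries_zero] at h
    refine (Subgroup.eq_bot_iff_forall _).2 fun x hx => ?_
    have h1 : (⟨x, hx⟩ : N) ∈ (⊥ : Subgroup N) := h ▸ Subgroup.mem_top _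
    exact congrArg Subtype.val (Subgroup.mem_bot.1 h1)
  have hne : derivedSeries N n ≠ ⊥ := Nat.find_min hex (by omega)
  have hbot : derivedSeries N (n + 1) = ⊥ := hn ▸ Nat.find_spec hex
  rw [derivedSeries_succ, Subgroup.commutator_eq_bot_iff_le_centralizer] at hbot
  set S := derivedSeries N n with hS
  have hSc : S.Characteristic := derivedSeries_characteristic _ n
  have hB : (S.map N.subtype).Normal := ConjAct.normal_of_characteristic_of_normal
  refine ⟨(S.map N.subtype).map H.subtype, Subgroup.map_subtype_le _, ?_, ?_, ?_, ?_⟩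
  · rw [Ne, Subgroup.map_eq_bot_iff_of_injective _ H.subtype_injective,
      Subgroup.map_eq_bot_iff_of_injective _ N.subtype_injective]
    exact hne
  · rintro h hh _ ⟨x, hx, rfl⟩
    exact ⟨⟨h, hh⟩ * x * ⟨h, hh⟩⁻¹, hB.conj_mem x hx _, rfl⟩
  · rintro _ ⟨_, ⟨x, hx, rfl⟩, rfl⟩ _ ⟨_, ⟨y, hy, rfl⟩, rfl⟩
    have := congrArg Subtype.val (congrArg Subtype.val
      (Subgroup.mem_centralizer_iff.1 (hbot hy) x hx))
    exact this
  · rintro _ ⟨_, ⟨x, hx, rfl⟩, rfl⟩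
    exact ⟨x.1, x.2, rfl⟩

/-- A solvable normal subgroup fixing a point gives an abelian one fixing a point. -/
theorem exists_abelian_fix {Ω : Type*} [MulAction G Ω] (H : Subgroup G) (N : Subgroup H)
    (hN : N.Normal) (hN1 : N ≠ ⊥) (hsol : Group.IsSolvable N)
    (hNfix : ∃ a : Ω, ∀ x ∈ N, x • a = a) :
    ∃ A : Subgroup G, A ≤ H ∧ A ≠ ⊥ ∧ (∀ h ∈ H, ∀ x ∈ A, h * x * h⁻¹ ∈ A) ∧
      (∀ x ∈ A, ∀ y ∈ A, x * y = y * x) ∧ ∃ a : Ω, ∀ x ∈ A, x • a = a := by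
  obtain ⟨A, h1, h2, h3, h4, h5⟩ := exists_abelian_normal_le H N hN hN1 hsol
  obtain ⟨a, ha⟩ := hNfix
  refine ⟨A, h1, h2, h3, h4, a, fun x hx => ?_⟩
  obtain ⟨y, hy, rfl⟩ := h5 x hx
  exact ha y hy

end Cfsg.Agent.Lib.AxialDesign74
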