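import Cfsg.Agent.Lib.AxialDesign74.Design

/-!
A 2-transitive symmetric design with an abelian group of automorphisms fixing each block pointwise
is the design of points and hyperplanes of a projective space.  Statements of the bricks.
-/

set_option autoImplicit false

namespace Cfsg.Agent.Lib.AxialDesign74

open Finset

universe u v w

/-- A symmetric design with a group 2-transitive on blocks and an equivariant family of abelian
groups fixing each block pointwise. -/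
structure Ax (G : Type u) (Ω : Type v) (Β : Type w) [Group G] [Fintype Ω] [Fintype Β]
    [DecidableEq Ω] [DecidableEq Β] [MulAction G Ω] [MulAction G Β] extends Des Ω Β where
  smul_pts : ∀ (g : G) (p : Ω) (C : Β), g • p ∈ pts (g • C) ↔ p ∈ pts C
  faithful : ∀ g : G, (∀ p : Ω, g • p = p) → g = 1
  two_blk : ∀ C D C' D' : Β, C ≠ D → C' ≠ D' → ∃ g : G, g • C = C' ∧ g • D = D'
  trans_in : ∀ (C : Β) (p p' : Ω), p ∈ pts C → p' ∈ pts C → ∃ g : G, g • C = C ∧ g • p = p'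
  trans_out : ∀ (C : Β) (p p' : Ω), p ∉ pts C → p' ∉ pts C → ∃ g : G, g • C = C ∧ g • p = p'
  /-- The prime exponent. -/
  r : ℕ
  prime : r.Prime
  /-- The axial groups. -/
  T : Β → Subgroup G
  conj_mem : ∀ (g : G) (C : Β), ∀ x ∈ T C, g * x * g⁻¹ ∈ T (g • C)
  comm : ∀ (C : Β), ∀ x ∈ T C, ∀ y ∈ T C, x * y = y * x
  pow_eq : ∀ (C : Β), ∀ x ∈ T C, x ^ r = 1
  fixes : ∀ (C : Β), ∀ x ∈ T C, ∀ p ∈ pts C, x • p = p
  ne_bot : ∀ C : Β, T C ≠ ⊥

variable {G : Type u} {Ω : Type v} {Β : Type w} [Group G] [Fintype Ω] [Fintype Β] [DecidableEq Ω]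
  [DecidableEq Β] [MulAction G Ω] [MulAction G Β]

instance Ax.instCommGroupT (d : Ax G Ω Β) (C : Β) : CommGroup (d.T C) :=
  { (inferInstance : Group (d.T C)) with
    mul_comm := fun x y => Subtype.ext (d.comm C x.1 x.2 y.1 y.2) }

/-- The axial group of a block, written additively. -/
abbrev Ax.TV (d : Ax G Ω Β) (C : Β) : Type u := Additive (d.T C)

/-- `x` lies in the axial group of `C` and fixes every block through `c`. -/
def Ax.InE (d : Ax G Ω Β) (C : Β) (c : Ω) (x : G) : Prop :=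
  x ∈ d.T C ∧ ∀ D : Β, c ∈ d.pts D → x • D = D

/-- Every group element is an automorphism of the design. -/
theorem Ax.isAut (d : Ax G Ω Β) (g : G) :
    d.toDes.IsAut (MulAction.toPerm g) (MulAction.toPerm g) :=
  fun p C => d.smul_pts g p C

/-- Everything needed from the counting. -/
structure Ax.Cen (d : Ax G Ω Β) where
  /-- The order of a group of elations with given centre and axis. -/
  q : ℕ
  two_le_q : 2 ≤ q
  /-- The axial group is semiregular off its axis. -/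
  free : ∀ (C : Β), ∀ x ∈ d.T C, x ≠ 1 → ∀ p : Ω, p ∉ d.pts C → x • p ≠ p
  /-- The axial group is transitive off its axis. -/
  trans : ∀ (C : Β) (p p' : Ω), p ∉ d.pts C → p' ∉ d.pts C → ∃ x ∈ d.T C, x • p = p'
  centre : ∀ (C : Β), ∀ x ∈ d.T C, x ≠ 1 →
    ∃ c ∈ d.pts C, ∀ D : Β, x • D = D ↔ c ∈ d.pts D
  card_E : ∀ (C : Β) (c : Ω), c ∈ d.pts C → Nat.card {x : G // d.InE C c x} = q
  card_X : ∀ C D : Β, C ≠ D → Nat.card {x : G // x ∈ d.T C ∧ x • D = D} * q = Nat.card (d.T C)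
  q_le : ∀ C D : Β, C ≠ D → q ≤ Nat.card {x : G // x ∈ d.T C ∧ x • D = D}
  orbit : ∀ C D D' : Β, D ≠ C → D' ≠ C → d.pts D ∩ d.pts C = d.pts D' ∩ d.pts C →
    ∃ x ∈ d.T C, x • D = D'
  /-- Shears exist. -/
  exists_shear : ∀ C D : Β, C ≠ D → ∀ t ∈ d.T C, t • D ≠ D → ∀ x ∈ d.T C, x • D = D →
    ∃ y ∈ d.T D, y • C = C ∧ y * t * y⁻¹ * t⁻¹ = x
  /-- A shear moves everything in the direction of its centre. -/
  shear_fixes : ∀ C D : Β, C ≠ D → ∀ y ∈ d.T D, y • C = C → ∀ t ∈ d.T C, ∀ E : Β, y • E = E →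
    (y * t * y⁻¹ * t⁻¹) • E = E

/-- An elementary abelian group with centres, hyperplanes and shears. -/
structure ShearSys {V : Type u} [AddCommGroup V] {ι : Type v} {κ : Type w} (r q : ℕ)
    (E : ι → AddSubgroup V) (X : κ → AddSubgroup V) : Prop where
  prime : r.Prime
  char : ∀ v : V, r • v = 0
  two_le : 2 ≤ q
  card_E : ∀ i, Nat.card (E i) = q
  cover : ∀ v : V, v ≠ 0 → ∃! i, v ∈ E i
  index_X : ∀ c, (X c).index = q
  X_ne_bot : ∀ c, X c ≠ ⊥
  union : ∀ c i, ∀ v ∈ E i, v ≠ 0 → v ∈ X c → E i ≤ X c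
  pair : ∀ i j, i ≠ j → ∃ c, E i ≤ X c ∧ ¬ E j ≤ X c
  three : ∀ c i₀ i₁ i₂, E i₁ ≤ X c → E i₂ ≤ X c → ¬ E i₀ ≤ X c → i₁ ≠ i₂ →
    ∃ c', E i₀ ≤ X c' ∧ E i₂ ≤ X c' ∧ ¬ E i₁ ≤ X c'
  nonempty : Nonempty κ
  shear : ∀ c (u x : V), u ∉ X c → x ∈ X c → ∃ φ : V →+ V,
    (∀ v ∈ X c, φ v = 0) ∧ (∀ v, φ v ∈ X c) ∧ (∀ i, x ∈ E i → ∀ v, φ v ∈ E i) ∧
    (∀ i, ∃ j, ∀ v ∈ E i, v + φ v ∈ E j) ∧ φ u = x

/-- The conclusion of S3705 and S3706. -/
def Concl (G : Type u) (Ω : Type v) [Group G] : Prop :=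
  ∃ (m : ℕ) (F : Type) (_ : Field F) (_ : Fintype F), 2 ≤ m ∧
    Nat.card Ω = (Fintype.card F ^ (m + 1) - 1) / (Fintype.card F - 1) ∧
    ∃ N : Subgroup G, N.Normal ∧
      Nonempty (N ≃* Matrix.ProjectiveSpecialLinearGroup (Fin (m + 1)) F) ∧
      Subgroup.centralizer (N : Set G) = ⊥

/-- Brick Setup: the design of a 2-transitive group with a subgroup of the degree as index. -/
def SetupBrick : Prop :=
  ∀ (G : Type u) (Ω : Type v) [Group G] [Finite G] [MulAction G Ω] [FaithfulSMul G Ω]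
    [Fintype Ω] [DecidableEq Ω],
    MulAction.IsMultiplyPretransitive G Ω 2 → ∀ H : Subgroup G, H.index = Nat.card Ω →
    ¬ MulAction.IsPretransitive H Ω → (∀ a : Ω, ∃ h : H, h • a ≠ a) →
    ∀ A : Subgroup G, A ≤ H → A ≠ ⊥ → (∀ h ∈ H, ∀ x ∈ A, h * x * h⁻¹ ∈ A) →
    (∀ x ∈ A, ∀ y ∈ A, x * y = y * x) → ∀ a : Ω, (∀ x ∈ A, x • a = a) →
    ∃ (Β : Type u) (_ : Fintype Β) (_ : DecidableEq Β) (_ : MulAction G Β), Nonempty (Ax G Ω Β)

/-- Brick Count. -/
def CountBrick : Prop :=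
  ∀ (G : Type u) (Ω : Type v) (Β : Type w) [Group G] [Finite G] [Fintype Ω] [Fintype Β]
    [DecidableEq Ω] [DecidableEq Β] [MulAction G Ω] [MulAction G Β] (d : Ax G Ω Β),
    Nonempty d.Cen

/-- Brick Field: shears give scalars. -/
def FieldBrick : Prop :=
  ∀ (V : Type u) [AddCommGroup V] [Finite V] (ι : Type v) (κ : Type w) [Finite ι] (r q : ℕ)
    (E : ι → AddSubgroup V) (X : κ → AddSubgroup V), ShearSys r q E X →
    ∃ (F : Type) (_ : Field F) (_ : Fintype F) (_ : Module F V),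
      Fintype.card F = q ∧ ∀ (f : F) (i : ι), ∀ v ∈ E i, f • v ∈ E i

/-- Brick Proj: recognition of the projective space and of its group. -/
def ProjBrick : Prop :=
  ∀ (G : Type u) (Ω : Type v) (Β : Type w) [Group G] [Finite G] [Fintype Ω] [Fintype Β]
    [DecidableEq Ω] [DecidableEq Β] [MulAction G Ω] [MulAction G Β] (d : Ax G Ω Β) (k : d.Cen)
    (C₀ : Β) (F : Type) [Field F] [Fintype F] [Module F (d.TV C₀)],
    Fintype.card F = k.q →
    (∀ (f : F) (c : Ω) (x : d.TV C₀), c ∈ d.pts C₀ → d.InE C₀ c (Additive.toMul x : d.T C₀) →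
      d.InE C₀ c (Additive.toMul (f • x) : d.T C₀)) →
    Concl G Ω

end Cfsg.Agent.Lib.AxialDesign74
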