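import Cfsg.Agent.Lib.AxialDesign74.Spec

/-!
Sub-bricks of the counting and of the recognition.
-/

set_option autoImplicit false

namespace Cfsg.Agent.Lib.AxialDesign74

open Finset

universe u v w

variable {G : Type u} {Ω : Type v} {Β : Type w} [Group G] [Fintype Ω] [Fintype Β] [DecidableEq Ω]
  [DecidableEq Β] [MulAction G Ω] [MulAction G Β]

/-- The first half of the counting. -/
structure Ax.Pre (d : Ax G Ω Β) where
  /-- The order of the stabiliser of a second block. -/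
  e : ℕ
  /-- The length of an orbit on the other blocks. -/
  q : ℕ
  /-- The number of orbits off the axis. -/
  m : ℕ
  two_le_e : 2 ≤ e
  two_le_q : 2 ≤ q
  q_le_e : q ≤ e
  one_le_m : 1 ≤ m
  mq_lt : m * q < d.k
  card_T : ∀ C : Β, Nat.card (d.T C) = q * e
  card_X : ∀ C D : Β, C ≠ D → Nat.card {x : G // x ∈ d.T C ∧ x • D = D} = e
  card_v : Fintype.card Ω = d.k + m * (q * e)
  count : (q - 1) * (d.k - 1) = m * q * (e - 1)
  count_n : d.k * (m * e) = (d.k - d.lam) * (d.k - 1 + m)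
  free : ∀ (C : Β), ∀ x ∈ d.T C, x ≠ 1 → ∀ p : Ω, p ∉ d.pts C → x • p ≠ p
  card_fix : ∀ (C : Β), ∀ x ∈ d.T C, x ≠ 1 → Nat.card {E : Β // x • E = E} = d.k
  orbit : ∀ C D D' : Β, D ≠ C → D' ≠ C → d.pts D ∩ d.pts C = d.pts D' ∩ d.pts C →
    ∃ x ∈ d.T C, x • D = D'
  commute : ∀ C D : Β, C ≠ D → ∀ x ∈ d.T C, x • D = D → ∀ y ∈ d.T D, y • C = C → x * y = y * x
  fix_orbit : ∀ C D : Β, C ≠ D → ∀ y ∈ d.T D, y • C = C → ∀ t ∈ d.T C,
    y • (t • D) = t • D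
  comm_mem : ∀ C D : Β, C ≠ D → ∀ y ∈ d.T D, y • C = C → ∀ t ∈ d.T C,
    y * t * y⁻¹ * t⁻¹ ∈ d.T C ∧ (y * t * y⁻¹ * t⁻¹) • D = D
  shear_inj : ∀ C D : Β, C ≠ D → ∀ t ∈ d.T C, t • D ≠ D → ∀ y ∈ d.T D, y • C = C →
    ∀ y' ∈ d.T D, y' • C = C → y * t * y⁻¹ * t⁻¹ = y' * t * y'⁻¹ * t⁻¹ → y = y'
  exists_shear : ∀ C D : Β, C ≠ D → ∀ t ∈ d.T C, t • D ≠ D → ∀ x ∈ d.T C, x • D = D →
    ∃ y ∈ d.T D, y • C = C ∧ y * t * y⁻¹ * t⁻¹ = x
  card_range : ∀ C D : Β, C ≠ D → ∀ y ∈ d.T D, y • C = C → y ≠ 1 →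
    Nat.card {x : G // ∃ t ∈ d.T C, y * t * y⁻¹ * t⁻¹ = x} = q
  fix_eq : ∀ C D : Β, C ≠ D → ∀ y ∈ d.T D, y • C = C → ∀ t ∈ d.T C, t • D ≠ D → y ≠ 1 →
    ∀ E : Β, (y * t * y⁻¹ * t⁻¹) • E = E ↔ y • E = E

/-- Brick Count, first half. -/
def PreBrick : Prop :=
  ∀ (G : Type u) (Ω : Type v) (Β : Type w) [Group G] [Finite G] [Fintype Ω] [Fintype Β]
    [DecidableEq Ω] [DecidableEq Β] [MulAction G Ω] [MulAction G Β] (d : Ax G Ω Β),
    Nonempty d.Pre

/-- Brick Count, second half. -/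
def CenBrick : Prop :=
  ∀ (G : Type u) (Ω : Type v) (Β : Type w) [Group G] [Finite G] [Fintype Ω] [Fintype Β]
    [DecidableEq Ω] [DecidableEq Β] [MulAction G Ω] [MulAction G Β] (d : Ax G Ω Β),
    d.Pre → Nonempty d.Cen

/-- The permutations of a projective space induced by transvections. -/
def transvPerms (F : Type) [Field F] (V : Type u) [AddCommGroup V] [Module F V] :
    Set (Equiv.Perm (Projectivization F V)) :=
  {σ | ∃ (f : Module.Dual F V) (w : V), f w = 0 ∧ ∀ (x : V) (hx : x ≠ 0),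
    ∃ h : x + f x • w ≠ 0, σ (Projectivization.mk F x hx) = Projectivization.mk F (x + f x • w) h}

/-- Brick PSL: transvections generate the projective special linear group. -/
def PSLBrick : Prop :=
  ∀ (F : Type) [Field F] [Fintype F] (V : Type u) [AddCommGroup V] [Module F V]
    [FiniteDimensional F V] (m : ℕ), 1 ≤ m → Module.finrank F V = m + 1 →
    Nonempty (Subgroup.closure (transvPerms F V) ≃*
      Matrix.ProjectiveSpecialLinearGroup (Fin (m + 1)) F)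

end Cfsg.Agent.Lib.AxialDesign74
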