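import Cfsg.Agent.Lib.AxialDesign74.DesignOf
import Cfsg.Agent.Lib.AxialDesign74.Semiregular
import Cfsg.Agent.Lib.AxialDesign74.CharSimpleCover
import Cfsg.Agent.Lib.Frobenius.KernelNilpotent

/-!
The kernel of the action on an orbit contains a nontrivial abelian normal subgroup.
-/

set_option autoImplicit false

namespace Cfsg.Agent.Lib.AxialDesign74

open Finset MulAction
open scoped Pointwise

universe u v w

variable {G : Type u} {Ω : Type v} {Β : Type w} [Group G] [Finite G] [Fintype Ω] [Fintype Β]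
  [DecidableEq Ω] [DecidableEq Β] [MulAction G Ω] [MulAction G Β]

theorem abelian_of_semiregular (d : Des Ω Β) (C₀ : Β) (H : Subgroup G)
    (hs : ∀ (g : G) (p : Ω) (C : Β), g • p ∈ d.pts (g • C) ↔ p ∈ d.pts C)
    (hfaith : ∀ g : G, (∀ p : Ω, g • p = p) → g = 1) (hC₀ : ∀ g : G, g • C₀ = C₀ ↔ g ∈ H)
    (htb : ∀ D D' : Β, D ≠ C₀ → D' ≠ C₀ → ∃ h ∈ H, h • D = D')
    (K : Subgroup H) [K.Normal] (hK1 : K ≠ ⊥)
    (hKfix : ∀ x ∈ K, ∀ p ∈ d.pts C₀, x • p = p)
    (hfree : ∀ x ∈ K, x ≠ 1 → ∀ p, p ∉ d.pts C₀ → x • p ≠ p) :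
    ∃ A : Subgroup H, A ≤ K ∧ A ≠ ⊥ ∧ A.Normal ∧ ∀ x ∈ A, ∀ y ∈ A, x * y = y * x := by
  classical
  obtain ⟨M, ⟨hMn, hM1, hMK⟩, hmin⟩ :=
    (Set.toFinite {S : Subgroup H | S.Normal ∧ S ≠ ⊥ ∧ S ≤ K}).exists_minimal
      ⟨K, inferInstance, hK1, le_rfl⟩
  refine ⟨M, hMK, hM1, hMn, ?_⟩
  have haut : ∀ g : G, d.IsAut (toPerm g) (toPerm g) := fun g p C => hs g p C
  have hfree' : ∀ x ∈ K, x ≠ 1 → ∀ p, p ∉ d.pts C₀ → toPerm (x : G) p ≠ p := fun x hx hx1 p hp =>
    hfree x hx hx1 p hp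
  have hfix' : ∀ x ∈ K, ∀ p ∈ d.pts C₀, toPerm (x : G) p = p := fun x hx p hp => hKfix x hx p hp
  have hsmulC : ∀ x : H, (x : G) • C₀ = C₀ := fun x => (hC₀ _).2 x.2
  let N : Β → Subgroup M := fun D => (stabilizer H D).comap M.subtype
  have hN : ∀ D (x : M), x ∈ N D ↔ ((x : H) : G) • D = D := fun _ _ => Iff.rfl
  have hNn : ∀ D, D ≠ C₀ → (N D).Normal := by
    intro D hD
    refine ⟨fun x hx t => ?_⟩
    rw [hN] at hx ⊢
    set y : H := (t : H) * (x : H) * (t : H)⁻¹ with hy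
    show (y : G) • D = D
    have hyK : y ∈ K := hMK (mul_mem (mul_mem t.2 x.2) (inv_mem t.2))
    by_cases hy1 : y = 1
    · rw [hy1, OneMemClass.coe_one, one_smul]
    set tg : G := ((t : H) : G) with htg
    have htD : tg • D ≠ C₀ := fun e => hD (smul_left_cancel _ (e.trans (hsmulC t).symm))
    have hW : d.pts (tg • D) ∩ d.pts C₀ = d.pts D ∩ d.pts C₀ := by
      ext p
      simp only [Finset.mem_inter]
      constructor <;> rintro ⟨h1, h2⟩ <;> refine ⟨?_, h2⟩
      · have := hs tg p D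
        rw [show tg • p = p from hKfix _ (hMK t.2) p h2] at this
        exact this.1 h1
      · have := hs tg p D
        rw [show tg • p = p from hKfix _ (hMK t.2) p h2] at this
        exact this.2 h1
    refine d.fixed_of_inter (haut (y : G)) (hfix' y hyK) (hfree' y hyK hy1) htD hD hW ?_
    show (y : G) • tg • D = tg • D
    rw [hy]
    simp only [Subgroup.coe_mul, Subgroup.coe_inv, mul_smul, inv_smul_smul, ← htg]
    rw [hx]
  have hne : ∃ D, D ≠ C₀ := Fintype.exists_ne_of_one_lt_card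
    (by rw [d.card_eq]; have := d.kv; omega) C₀
  have hNtop : ∀ D, D ≠ C₀ → N D ≠ ⊤ := by
    intro D hD htop
    refine hM1 ((Subgroup.eq_bot_iff_forall _).2 fun x hx => ?_)
    have hall : ∀ E : Β, (x : G) • E = E := by
      intro E
      by_cases hE : E = C₀
      · rw [hE]; exact hsmulC x
      · obtain ⟨h, hh, rfl⟩ := htb D E hD hE
        have hx' : (⟨h, hh⟩ : H)⁻¹ * x * ⟨h, hh⟩ ∈ M := hMn.conj_mem' x hx _
        have := (hN D ⟨_, hx'⟩).1 (htop ▸ Subgroup.mem_top _)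
        simp only [Subgroup.coe_mul, Subgroup.coe_inv, mul_smul, inv_smul_eq_iff] at this
        exact this
    have h1 := d.eq_one_of_blocks (haut (x : G)) hall
    exact Subtype.ext (hfaith _ fun p => by
      have := congrArg (fun σ : Equiv.Perm Ω => σ p) h1
      simpa using this)
  have hcover : ∀ z : M, ∃ S : Subgroup M, S.Normal ∧ S ≠ ⊤ ∧ z ∈ S := by
    intro z
    by_cases hz : (z : H) = 1
    · obtain ⟨D, hD⟩ := hne
      refine ⟨N D, hNn D hD, hNtop D hD, ?_⟩
      rw [hN, hz, OneMemClass.coe_one, one_smul]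
    · have hzK := hMK z.2
      have hcard : (univ.filter fun E : Β => ((z : H) : G) • E = E).card = d.k := by
        have h1 := d.fix_eq (haut ((z : H) : G))
        simp only [toPerm_apply] at h1
        rw [← h1, ← d.card_pts C₀]
        refine congrArg Finset.card ?_
        ext p
        simp only [mem_filter, mem_univ, true_and]
        exact ⟨fun hp => by by_contra hn; exact hfree _ hzK hz p hn hp, hKfix _ hzK p⟩
      obtain ⟨D, hDmem, hD⟩ := Finset.exists_mem_ne
        (s := univ.filter fun E : Β => ((z : H) : G) • E = E)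
        (by rw [hcard]; have := d.two_le; omega) C₀
      exact ⟨N D, hNn D hD, hNtop D hD, (hN D z).2 (mem_filter.1 hDmem).2⟩
  have hchar : ∀ J : Subgroup M, J.Characteristic → J = ⊥ ∨ J = ⊤ := by
    intro J hJ
    have hJn : (J.map M.subtype).Normal := ConjAct.normal_of_characteristic_of_normal
    by_cases hJ0 : J = ⊥
    · exact Or.inl hJ0
    · right
      have hne0 : J.map M.subtype ≠ ⊥ := fun e =>
        hJ0 ((Subgroup.map_eq_bot_iff_of_injective _ M.subtype_injective).1 e)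
      have hle := hmin ⟨hJn, hne0, (Subgroup.map_subtype_le J).trans hMK⟩ (Subgroup.map_subtype_le J)
      rw [eq_top_iff]
      intro x _
      obtain ⟨y, hy, e⟩ := hle x.2
      rwa [← Subtype.ext e (a1 := y) (a2 := x)]
  have : Nontrivial M := (Subgroup.nontrivial_iff_ne_bot M).2 hM1
  intro x hx y hy
  exact congrArg Subtype.val (comm_of_charSimple_cover hchar hcover ⟨x, hx⟩ ⟨y, hy⟩)

theorem abelian_of_fixed (d : Des Ω Β) (C₀ : Β) (H : Subgroup G)
    (hs : ∀ (g : G) (p : Ω) (C : Β), g • p ∈ d.pts (g • C) ↔ p ∈ d.pts C)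
    (hfaith : ∀ g : G, (∀ p : Ω, g • p = p) → g = 1) (hC₀ : ∀ g : G, g • C₀ = C₀ ↔ g ∈ H)
    (htr : ∀ p p' : Ω, p ∉ d.pts C₀ → p' ∉ d.pts C₀ → ∃ h ∈ H, h • p = p')
    (K : Subgroup H) [K.Normal]
    (hKfix : ∀ x ∈ K, ∀ p ∈ d.pts C₀, x • p = p)
    (hnfree : ∃ x ∈ K, x ≠ 1 ∧ ∃ p, p ∉ d.pts C₀ ∧ x • p = p) :
    ∃ A : Subgroup H, A ≤ K ∧ A ≠ ⊥ ∧ A.Normal ∧ ∀ x ∈ A, ∀ y ∈ A, x * y = y * x := by
  classical
  have := Fintype.ofFinite K
  have haut : ∀ g : G, d.IsAut (toPerm g) (toPerm g) := fun g p C => hs g p C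
  have hsmulC : ∀ (x : H) (p : Ω), x • p ∈ d.pts C₀ ↔ p ∈ d.pts C₀ := by
    intro x p
    have := hs (x : G) p C₀
    rwa [(hC₀ _).2 x.2] at this
  have huniq : ∀ x ∈ K, x ≠ 1 → ∀ p p' : Ω, p ∉ d.pts C₀ → p' ∉ d.pts C₀ → x • p = p →
      x • p' = p' → p = p' := by
    intro x hx hx1 p p' hp hp' e e'
    refine d.fix_out_unique (haut (x : G)) (fun h1 => hx1 (Subtype.ext (hfaith _ fun q => ?_)))
      (fun q hq => hKfix x hx q hq) hp e hp' e'
    have := congrArg (fun σ : Equiv.Perm Ω => σ q) h1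
    simpa using this
  obtain ⟨x₀, hx₀, hx₀1, p, hp, hxp⟩ := hnfree
  -- every outside point has a nontrivial stabiliser
  have hstab : ∀ q, q ∉ d.pts C₀ → ∃ x : K, x ≠ 1 ∧ x • q = q := by
    intro q hq
    obtain ⟨h, hh, rfl⟩ := htr p q hp hq
    refine ⟨⟨⟨h, hh⟩ * x₀ * ⟨h, hh⟩⁻¹, ‹K.Normal›.conj_mem x₀ hx₀ _⟩, fun e => ?_, ?_⟩
    · exact hx₀1 (conj_eq_one_iff.1 (congrArg Subtype.val e))
    · show (h * (x₀ : G) * h⁻¹) • (h • p) = h • p
      rw [mul_smul, mul_smul, inv_smul_smul]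
      exact congrArg (h • ·) hxp
  -- the kernel is transitive outside the axis
  let O : SubMulAction K Ω :=
    { carrier := {q | q ∉ d.pts C₀}
      smul_mem' := fun x q hq h => hq ((hsmulC x.1 q).1 h) }
  have := Fintype.ofFinite O
  have := Fintype.ofFinite (orbitRel.Quotient K O)
  have hburn : Fintype.card (orbitRel.Quotient K O) * Fintype.card K < 2 * Fintype.card K := by
    have hfixle : ∀ x : K, x ≠ 1 → Fintype.card (fixedBy O x) ≤ 1 := by
      intro x hx1
      rw [Fintype.card_le_one_iff]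
      intro a b
      exact Subtype.ext (Subtype.ext (huniq x.1 x.2 (fun e => hx1 (Subtype.ext e)) _ _ a.1.2 b.1.2
        (congrArg Subtype.val a.2) (congrArg Subtype.val b.2)))
    have h1 := sum_card_fixedBy_eq_card_orbits_mul_card_group K O
    rw [← Finset.add_sum_erase univ _ (mem_univ (1 : K))] at h1
    have h2 : ∑ x ∈ (univ : Finset K).erase 1, Fintype.card (fixedBy O x)
        ≤ Fintype.card K - 1 := by
      refine le_trans (Finset.sum_le_card_nsmul _ _ 1 fun x hx => hfixle x (mem_erase.1 hx).1) ?_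
      rw [smul_eq_mul, mul_one, card_erase_of_mem (mem_univ _), card_univ]
    have h3 : Fintype.card (fixedBy O (1 : K)) = Fintype.card O :=
      Fintype.card_congr (Equiv.subtypeUnivEquiv fun q => one_smul K q)
    have h4 : 2 * Fintype.card O ≤ Fintype.card (orbitRel.Quotient K O) * Fintype.card K := by
      rw [Fintype.card_congr (selfEquivSigmaOrbits K O), Fintype.card_sigma, Finset.mul_sum]
      refine le_trans (Finset.sum_le_card_nsmul _ _ (Fintype.card K) fun ω _ => ?_) ?_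
      · have hst : 2 ≤ Fintype.card (stabilizer K ω.out) := by
          obtain ⟨x, hx1, hx⟩ := hstab ω.out.1 ω.out.2
          exact Fintype.one_lt_card_iff.2 ⟨⟨x, Subtype.ext hx⟩, 1,
            fun e => hx1 (congrArg Subtype.val e)⟩
        have h5 := card_orbit_mul_card_stabilizer_eq_card_group K ω.out
        calc 2 * Fintype.card (orbit K ω.out)
            ≤ Fintype.card (stabilizer K ω.out) * Fintype.card (orbit K ω.out) :=
              Nat.mul_le_mul_right _ hst
          _ = Fintype.card K := by rw [mul_comm]; exact h5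
      · rw [smul_eq_mul, card_univ]
    have hKpos : 0 < Fintype.card K := Fintype.card_pos
    have h6 : Fintype.card (Quotient (orbitRel K O)) = Fintype.card (orbitRel.Quotient K O) :=
      Fintype.card_congr (Equiv.refl _)
    rw [h3, h6] at h1
    omega
  have hone : Fintype.card (orbitRel.Quotient K O) ≤ 1 := by
    have := Nat.lt_of_mul_lt_mul_right hburn
    omega
  have htrans : ∀ q, q ∉ d.pts C₀ → ∃ x : K, x • p = q := by
    intro q hq
    have h1 : (Quotient.mk'' (⟨q, hq⟩ : O) : orbitRel.Quotient K O)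
        = Quotient.mk'' (⟨p, hp⟩ : O) := Fintype.card_le_one_iff.1 hone _ _
    obtain ⟨x, hx⟩ := mem_orbit_iff.1 (Quotient.eq''.1 h1)
    exact ⟨x, congrArg Subtype.val hx⟩
  -- Frobenius
  have hFC : Cfsg.IsFrobeniusComplement (stabilizer K p) := by
    refine ⟨fun e => ?_, fun e => ?_, fun g hg => ?_⟩
    · have : (⟨x₀, hx₀⟩ : K) ∈ stabilizer K p := hxp
      rw [e, Subgroup.mem_bot] at this
      exact hx₀1 (congrArg Subtype.val this)
    · have hc : 1 < (d.pts C₀)ᶜ.card := by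
        rw [card_compl, d.card_pts]
        have := d.kv
        omega
      obtain ⟨q, hq, hqp⟩ := Finset.exists_mem_ne hc p
      obtain ⟨x, rfl⟩ := htrans q (Finset.mem_compl.1 hq)
      exact hqp (e ▸ Subgroup.mem_top x : x ∈ stabilizer K p)
    · refine (Subgroup.eq_bot_iff_forall _).2 fun x hx => ?_
      obtain ⟨h1, h2⟩ := Subgroup.mem_inf.1 hx
      rw [Frobenius.mem_conj_smul_iff, mem_stabilizer_iff, mul_smul, mul_smul,
        inv_smul_eq_iff] at h2
      by_contra hx1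
      exact hg (huniq x.1 x.2 (fun e => hx1 (Subtype.ext e)) _ _
        (fun hh => hp ((hsmulC g.1 p).1 hh)) hp h2 h1)
  obtain ⟨N, hN, hNn, hNc⟩ := Frobenius.exists_kernel hFC
  have hnil := Frobenius.isNilpotent_of_eq_kernel hFC hN.symm
  have hN1 : N ≠ ⊥ := by
    intro e
    have h1 := hNc.index_eq_card
    have h2 := Frobenius.one_lt_index hFC
    rw [e, Subgroup.card_bot] at h1
    omega
  have hNmem : ∀ x : K, x ∈ N ↔ x = 1 ∨ ∀ q, q ∉ d.pts C₀ → x • q ≠ q := by
    intro x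
    rw [← SetLike.mem_coe, hN]
    show (x = 1 ∨ ∀ g : K, x ∉ MulAut.conj g • stabilizer K p) ↔ _
    refine or_congr_right ⟨fun h q hq e => ?_, fun h g hg => ?_⟩
    · obtain ⟨g, rfl⟩ := htrans q hq
      exact h g (by
        rw [Frobenius.mem_conj_smul_iff, mem_stabilizer_iff, mul_smul, mul_smul, e,
          inv_smul_smul])
    · rw [Frobenius.mem_conj_smul_iff, mem_stabilizer_iff, mul_smul, mul_smul,
        inv_smul_eq_iff] at hg
      exact h (g • p) (fun hh => hp ((hsmulC g.1 p).1 hh)) hg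
  have hNH : (N.map K.subtype).Normal := by
    refine ⟨?_⟩
    rintro _ ⟨x, hx, rfl⟩ h
    refine ⟨⟨h * x * h⁻¹, ‹K.Normal›.conj_mem _ x.2 h⟩, ?_, rfl⟩
    rcases (hNmem x).1 hx with rfl | hxf
    · refine (hNmem _).2 (Or.inl (Subtype.ext ?_))
      show h * ((1 : K) : H) * h⁻¹ = 1
      rw [OneMemClass.coe_one, mul_one, mul_inv_cancel]
    · refine (hNmem _).2 (Or.inr fun q hq e => ?_)
      refine hxf (h⁻¹ • q) (fun hh => hq ((hsmulC h⁻¹ q).1 hh)) ?_
      have e' : (h * (x : H) * h⁻¹) • q = q := e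
      rw [mul_smul, mul_smul] at e'
      exact eq_inv_smul_iff.2 e'
  set M' : Subgroup H := N.map K.subtype with hM'
  have hM'1 : M' ≠ ⊥ := fun e =>
    hN1 ((Subgroup.map_eq_bot_iff_of_injective _ K.subtype_injective).1 e)
  have : Group.IsNilpotent M' := Group.nilpotent_of_mulEquiv
    (N.equivMapOfInjective K.subtype K.subtype_injective)
  have : Nontrivial M' := (Subgroup.nontrivial_iff_ne_bot M').2 hM'1
  have hZn : ((Subgroup.center M').map M'.subtype).Normal :=
    ConjAct.normal_of_characteristic_of_normal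
  refine ⟨(Subgroup.center M').map M'.subtype, ?_, ?_, hZn, ?_⟩
  · exact (Subgroup.map_subtype_le _).trans (Subgroup.map_subtype_le _)
  · rw [Ne, Subgroup.map_eq_bot_iff_of_injective _ M'.subtype_injective]
    intro e
    obtain ⟨n, hn⟩ := Group.IsNilpotent.nilpotent (G := M')
    have hall : ∀ i, Subgroup.upperCentralSeries M' i = ⊥ := by
      intro i
      induction i with
      | zero => exact Subgroup.upperCentralSeries_zero _
      | succ i ih =>
        refine (Subgroup.eq_bot_iff_forall _).2 fun x hx => ?_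
        rw [Subgroup.mem_upperCentralSeries_succ_iff] at hx
        have hxc : x ∈ Subgroup.center M' := by
          refine Subgroup.mem_center_iff.2 fun y => ?_
          have := hx y
          rw [ih, Subgroup.mem_bot, commutatorElement_eq_one_iff_mul_comm] at this
          exact this.symm
        rwa [e, Subgroup.mem_bot] at hxc
    rw [hall n] at hn
    exact bot_ne_top hn
  · rintro _ ⟨a, ha, rfl⟩ _ ⟨b, -, rfl⟩
    exact congrArg Subtype.val (Subgroup.mem_center_iff.1 ha b).symm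

/-- An element fixing an orbit pointwise gives an abelian normal subgroup fixing a point. -/
theorem exists_abelian_unfaithful {G : Type u} {Ω : Type v} [Group G] [Finite G] [MulAction G Ω]
    [FaithfulSMul G Ω] [Finite Ω] (h2 : MulAction.IsMultiplyPretransitive G Ω 2) (H : Subgroup G)
    (hidx : H.index = Nat.card Ω) (hnt : ¬ MulAction.IsPretransitive H Ω)
    (hfix : ∀ a : Ω, ∃ h : H, h • a ≠ a)
    (hunf : ∃ a : Ω, ∃ h : H, h ≠ 1 ∧ ∀ b ∈ MulAction.orbit H a, h • b = b) :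
    ∃ A : Subgroup G, A ≤ H ∧ A ≠ ⊥ ∧ (∀ h ∈ H, ∀ x ∈ A, h * x * h⁻¹ ∈ A) ∧
      (∀ x ∈ A, ∀ y ∈ A, x * y = y * x) ∧ ∃ a : Ω, ∀ x ∈ A, x • a = a := by
  classical
  obtain ⟨a, h₀, h₀1, h₀fix⟩ := hunf
  have := Fintype.ofFinite Ω
  obtain ⟨Β, iF, iD, iA, d, C₀, hs, hC₀, hB, htb, htr⟩ := exists_des h2 H hidx hnt hfix a
  let K : Subgroup H :=
    { carrier := {x | ∀ p ∈ d.pts C₀, x • p = p}
      one_mem' := fun p _ => one_smul H p
      mul_mem' := fun {x y} hx hy p hp => by rw [mul_smul, hy p hp, hx p hp]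
      inv_mem' := fun {x} hx p hp => by rw [inv_smul_eq_iff, hx p hp] }
  have hK : K.Normal := by
    refine ⟨fun x hx h p hp => ?_⟩
    have hp' : h⁻¹ • p ∈ d.pts C₀ := by
      rw [hB] at hp ⊢
      exact (orbit_eq_iff.2 hp ▸ mem_orbit p h⁻¹ : h⁻¹ • p ∈ orbit H a)
    rw [mul_smul, mul_smul, hx _ hp', smul_inv_smul]
  have hK1 : K ≠ ⊥ := fun e => h₀1 (Subgroup.mem_bot.1 (e ▸ fun p hp =>
    h₀fix p ((hB p).1 hp) : h₀ ∈ (⊥ : Subgroup H)))
  have hfaith : ∀ g : G, (∀ p : Ω, g • p = p) → g = 1 := fun g hg =>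
    eq_of_smul_eq_smul (α := Ω) fun p => by rw [hg p, one_smul]
  obtain ⟨A, hAK, hA, hAn, hAc⟩ : ∃ A : Subgroup H, A ≤ K ∧ A ≠ ⊥ ∧ A.Normal ∧
      ∀ x ∈ A, ∀ y ∈ A, x * y = y * x := by
    by_cases hf : ∀ x ∈ K, x ≠ 1 → ∀ p, p ∉ d.pts C₀ → x • p ≠ p
    · exact abelian_of_semiregular d C₀ H hs hfaith hC₀ htb K hK1 (fun x hx => hx) hf
    · push Not at hf
      exact abelian_of_fixed d C₀ H hs hfaith hC₀ htr K (fun x hx => hx) hf
  refine ⟨A.map H.subtype, Subgroup.map_subtype_le _, ?_, ?_, ?_, a, ?_⟩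
  · rw [Ne, Subgroup.map_eq_bot_iff_of_injective _ H.subtype_injective]
    exact hA
  · rintro h hh _ ⟨x, hx, rfl⟩
    exact ⟨⟨h, hh⟩ * x * ⟨h, hh⟩⁻¹, hAn.conj_mem x hx _, rfl⟩
  · rintro _ ⟨x, hx, rfl⟩ _ ⟨y, hy, rfl⟩
    exact congrArg Subtype.val (hAc x hx y hy)
  · rintro _ ⟨x, hx, rfl⟩
    exact hAK hx a ((hB a).2 (mem_orbit_self a))

end Cfsg.Agent.Lib.AxialDesign74
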